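import Mathlib.RingTheory.Valuation.ValuationSubring
import Mathlib.FieldTheory.IsAlgClosed.Basic
import Mathlib.FieldTheory.Extension
import Mathlib.FieldTheory.Separable
import Mathlib.FieldTheory.IntermediateField.Adjoin.Basic
import Mathlib.Algebra.Order.BigOperators.Group.Multiset

/-!
# Roots of close polynomials
-/

set_option autoImplicit false
set_option linter.style.haveILetI false

universe u

open Polynomial

namespace Groth.Agent.EppASH7

variable {Ω : Type u} [Field Ω] {W : ValuationSubring Ω}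

theorem valuation_eval_le (h : Ω[X]) {ε : W.ValueGroup} (hh : ∀ i, W.valuation (h.coeff i) ≤ ε) {x : Ω}
    (hx : W.valuation x ≤ 1) : W.valuation (h.eval x) ≤ ε := by
  rw [eval_eq_sum_range]
  refine W.valuation.map_sum_le fun i _ => ?_
  rw [map_mul, map_pow]
  exact (mul_le_of_le_one_right' (pow_le_one' hx i)).trans (hh i)

theorem valuation_root_le {h : Ω[X]} (hm : h.Monic) (hc : ∀ i, W.valuation (h.coeff i) ≤ 1) {x : Ω}
    (hx : h.eval x = 0) : W.valuation x ≤ 1 := by
  by_contra hlt
  rw [not_le] at hlt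
  rw [eval_eq_sum_range, Finset.sum_range_succ, hm.coeff_natDegree, one_mul, add_eq_zero_iff_eq_neg'] at hx
  have h1 : W.valuation (x ^ h.natDegree) < W.valuation (x ^ h.natDegree) := by
    nth_rw 1 [hx]
    rw [Valuation.map_neg]
    refine W.valuation.map_sum_lt (by rw [map_pow]; exact pow_ne_zero _ (ne_zero_of_lt hlt)) fun i hi => ?_
    rw [map_mul, map_pow, map_pow]
    exact (mul_le_of_le_one_left' (hc i)).trans_lt (pow_lt_pow_right₀ hlt (Finset.mem_range.1 hi))
  exact lt_irrefl _ h1

/-- A Bezout identity up to a small error bounds the derivative below at the roots. -/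
theorem le_valuation_derivative {h u w : Ω[X]} (hm : h.Monic) (hc : ∀ i, W.valuation (h.coeff i) ≤ 1)
    (hw : ∀ i, W.valuation (w.coeff i) ≤ 1) {c : Ω}
    (hb : ∀ i, W.valuation ((u * h + w * derivative h - C c).coeff i) < W.valuation c) {x : Ω}
    (hx : h.eval x = 0) : W.valuation c ≤ W.valuation ((derivative h).eval x) := by
  have hx1 := valuation_root_le hm hc hx
  have hc0 : W.valuation c ≠ 0 := ne_zero_of_lt (hb 0)
  set E := u * h + w * derivative h - C c with hE
  have hEx : W.valuation (E.eval x) < W.valuation c := by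
    rw [eval_eq_sum_range]
    refine W.valuation.map_sum_lt hc0 fun i _ => ?_
    rw [map_mul, map_pow]
    exact (mul_le_of_le_one_right' (pow_le_one' hx1 i)).trans_lt (hb i)
  have h2 : W.valuation (E.eval x + c) = W.valuation c := W.valuation.map_add_eq_of_lt_right hEx
  rw [show E.eval x + c = w.eval x * (derivative h).eval x by
    rw [hE]; simp only [eval_sub, eval_add, eval_mul, eval_C, hx]; ring, map_mul] at h2
  rw [← h2]
  exact mul_le_of_le_one_left' (valuation_eval_le w hw hx1)

variable [IsAlgClosed Ω]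

theorem le_valuation_sub_of_derivative {h : Ω[X]} (hm : h.Monic) (hc : ∀ i, W.valuation (h.coeff i) ≤ 1)
    {x y : Ω} (hx : h.eval x = 0) (hy : h.eval y = 0) (hxy : y ≠ x) :
    W.valuation ((derivative h).eval x) ≤ W.valuation (x - y) := by
  classical
  have hp := (IsAlgClosed.splits h).eq_prod_roots_of_monic hm
  have hxm : x ∈ h.roots := mem_roots'.2 ⟨hm.ne_zero, hx⟩
  have hym : y ∈ h.roots.erase x := (Multiset.mem_erase_of_ne hxy).2 (mem_roots'.2 ⟨hm.ne_zero, hy⟩)
  conv_lhs => rw [hp, eval_multiset_prod_X_sub_C_derivative hxm]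
  rw [← Multiset.cons_erase hym, Multiset.map_cons, Multiset.prod_cons, map_mul]
  refine mul_le_of_le_one_right' ?_
  rw [map_multiset_prod, Multiset.map_map]
  refine (Multiset.prod_le_pow_card _ 1 fun a ha => ?_).trans_eq (one_pow _)
  obtain ⟨z, hz, rfl⟩ := Multiset.mem_map.1 ha
  have hz' : h.eval z = 0 := (mem_roots'.1 (Multiset.mem_of_mem_erase (Multiset.mem_of_mem_erase hz))).2
  exact W.valuation.map_sub_le (valuation_root_le hm hc hx) (valuation_root_le hm hc hz')

/-- A root of a close monic polynomial of the same degree lies close to a root. -/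
theorem exists_root_near {g h : Ω[X]} (hg : g.Monic) (hh : h.Monic) (hd : h.natDegree ≠ 0)
    (hgc : ∀ i, W.valuation (g.coeff i) ≤ 1) {δ : W.ValueGroup}
    (hε : ∀ i, W.valuation ((h - g).coeff i) ≤ δ ^ h.natDegree) {x : Ω} (hx : g.eval x = 0) :
    ∃ y, h.eval y = 0 ∧ W.valuation (x - y) ≤ δ := by
  classical
  have hsp := IsAlgClosed.splits h
  have h1 : W.valuation (h.eval x) ≤ δ ^ h.natDegree := by
    have := valuation_eval_le (h - g) hε (valuation_root_le hg hgc hx)
    rwa [eval_sub, hx, sub_zero] at this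
  rw [hsp.natDegree_eq_card_roots] at h1 hd
  have hne : h.roots.toFinset.Nonempty := by
    obtain ⟨a, ha⟩ := Multiset.card_pos_iff_exists_mem.1 (Nat.pos_of_ne_zero hd)
    exact ⟨a, Multiset.mem_toFinset.2 ha⟩
  obtain ⟨y, hy, hmin⟩ := h.roots.toFinset.exists_min_image (fun a => W.valuation (x - a)) hne
  refine ⟨y, (mem_roots'.1 (Multiset.mem_toFinset.1 hy)).2, ?_⟩
  rw [hsp.eval_eq_prod_roots_of_monic hh, map_multiset_prod, Multiset.map_map] at h1
  refine (pow_le_pow_iff_left₀ zero_le zero_le hd).1 (le_trans ?_ h1)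
  have h2 := Multiset.pow_card_le_prod (s := h.roots.map (W.valuation ∘ fun a => x - a))
    (a := W.valuation (x - y)) fun a ha => by
      obtain ⟨z, hz, rfl⟩ := Multiset.mem_map.1 ha
      exact hmin z (Multiset.mem_toFinset.2 hz)
  rwa [Multiset.card_map] at h2

/-- Krasner: a root with separated conjugates near an element of a field with isometric automorphisms lies in it. -/
theorem krasner_mem {k : Type u} [Field k] [Algebra k Ω] [Algebra.IsAlgebraic k Ω] (F : IntermediateField k Ω)
    (hiso : ∀ (σ : Ω →ₐ[F] Ω) (z : Ω), W.valuation z ≤ 1 → W.valuation (σ z) ≤ 1)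
    (g : Ω[X]) (hg : g.Monic) (hgF : ∀ i, g.coeff i ∈ F) {c : Ω} (hc0 : c ≠ 0)
    (hsep : ∀ x, g.eval x = 0 → W.valuation c ≤ W.valuation ((derivative g).eval x))
    (hgc : ∀ i, W.valuation (g.coeff i) ≤ 1) {x y d : Ω} (hx : g.eval x = 0) (hy : y ∈ F) (hd : d ∈ F)
    (hdc : W.valuation d < W.valuation c) (hxy : W.valuation (x - y) ≤ W.valuation d) : x ∈ F := by
  classical
  haveI : Algebra.IsAlgebraic F Ω := Algebra.IsAlgebraic.tower_top (K := k) F
  haveI : Normal F Ω := normal_iff.2 fun z =>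
    ⟨(Algebra.IsAlgebraic.isAlgebraic z).isIntegral, IsAlgClosed.splits _⟩
  obtain ⟨g₀, hg₀, -, hg₀m⟩ := lifts_and_natDegree_eq_and_monic (f := algebraMap F Ω) (p := g)
    ((lifts_iff_coeff_lifts _).2 fun i => ⟨⟨_, hgF i⟩, rfl⟩) hg
  have hint : IsIntegral F x := (Algebra.IsAlgebraic.isAlgebraic x).isIntegral
  have hdvd : (minpoly F x).map (algebraMap F Ω) ∣ g := by
    rw [← hg₀]
    refine Polynomial.map_dvd _ (minpoly.dvd F x ?_)
    rw [aeval_def, ← eval_map, hg₀, hx]
  have hall : ∀ z ∈ ((minpoly F x).map (algebraMap F Ω)).roots, z = x := by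
    intro z hz
    have hgz : g.eval z = 0 := eval_eq_zero_of_dvd_of_eval_eq_zero hdvd (mem_roots'.1 hz).2
    by_contra hne
    obtain ⟨σ, hσ⟩ := IntermediateField.exists_algHom_of_splits_of_aeval (F := F) (E := Ω) (K := Ω)
      (fun s => ⟨(Algebra.IsAlgebraic.isAlgebraic s).isIntegral, IsAlgClosed.splits _⟩) (x := x) (y := z) (by
        rw [aeval_def, ← eval_map]; exact (mem_roots'.1 hz).2)
    have hσy : σ y = y := σ.commutes ⟨y, hy⟩
    have h1 : W.valuation (z - y) ≤ W.valuation d := by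
      rcases eq_or_ne d 0 with hd0 | hd0
      · rw [hd0, map_zero, le_zero_iff, map_eq_zero, sub_eq_zero] at hxy
        rw [← hσ, hxy, hσy, sub_self, map_zero]
        exact zero_le
      have h2 : W.valuation (σ ((x - y) / d)) ≤ 1 := hiso σ _ (by
        rw [map_div₀, div_le_one₀ ((pos_iff_ne_zero).2 ((_root_.map_ne_zero _).2 hd0))]; exact hxy)
      rw [map_div₀, map_sub, hσ, hσy, show σ d = d from σ.commutes ⟨d, hd⟩, map_div₀,
        div_le_one₀ ((pos_iff_ne_zero).2 ((_root_.map_ne_zero _).2 hd0))] at h2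
      exact h2
    have h3 : W.valuation (x - z) ≤ W.valuation d := by
      rw [← sub_sub_sub_cancel_right x z y]
      exact W.valuation.map_sub_le hxy h1
    exact absurd (((hsep x hx).trans (le_valuation_sub_of_derivative hg hgc hx hgz hne)).trans h3) (not_le.2 hdc)
  have hgs : g.Separable := (Polynomial.isCoprime_iff_aeval_ne_zero_of_isAlgClosed Ω Ω g (derivative g)).2 fun z => by
    by_cases hz : g.eval z = 0
    · refine Or.inr fun h0 => ?_
      have := hsep z hz
      rw [coe_aeval_eq_eval] at h0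
      rw [h0, map_zero, le_zero_iff, map_eq_zero] at this
      exact hc0 this
    · exact Or.inl (by rwa [coe_aeval_eq_eval])
  have hms : ((minpoly F x).map (algebraMap F Ω)).Separable := hgs.of_dvd hdvd
  have hdeg : (minpoly F x).natDegree ≤ 1 := by
    rw [← natDegree_map (algebraMap F Ω), (IsAlgClosed.splits _).natDegree_eq_card_roots,
      ← Multiset.toFinset_card_of_nodup (nodup_roots hms)]
    exact Finset.card_le_one.2 fun a ha b hb =>
      (hall a (Multiset.mem_toFinset.1 ha)).trans (hall b (Multiset.mem_toFinset.1 hb)).symm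
  obtain ⟨r, hr⟩ := minpoly.natDegree_eq_one_iff.1 (le_antisymm hdeg (minpoly.natDegree_pos hint))
  exact hr ▸ r.2

section Closure

variable (W) (π : Ω) (S : Subfield Ω)

/-- Elements approximable by `S` up to every power of `π`. -/
def approxRing (hπ : W.valuation π ≤ 1) : Subring Ω where
  carrier := {x | (∃ k : ℕ, W.valuation (x * π ^ k) ≤ 1) ∧ ∀ N : ℕ, ∃ y ∈ S, W.valuation (x - y) ≤ W.valuation π ^ N}
  zero_mem' := ⟨⟨0, by simp⟩, fun N => ⟨0, S.zero_mem, by simp⟩⟩
  one_mem' := ⟨⟨0, by simp⟩, fun N => ⟨1, S.one_mem, by simp⟩⟩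
  neg_mem' := fun {x} ⟨⟨k, hk⟩, hx⟩ => ⟨⟨k, by rwa [neg_mul, Valuation.map_neg]⟩, fun N => by
    obtain ⟨y, hy, hxy⟩ := hx N
    exact ⟨-y, S.neg_mem hy, by rwa [← neg_sub', Valuation.map_neg]⟩⟩
  add_mem' := fun {a b} ⟨⟨k, hk⟩, ha⟩ ⟨⟨l, hl⟩, hb⟩ => ⟨⟨k + l, by
    rw [add_mul]
    refine W.valuation.map_add_le ?_ ?_
    · rw [pow_add, ← mul_assoc, map_mul, map_pow]
      exact mul_le_one' hk (pow_le_one' hπ l)
    · rw [pow_add, mul_comm (π ^ k), ← mul_assoc, map_mul, map_pow]
      exact mul_le_one' hl (pow_le_one' hπ k)⟩, fun N => by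
    obtain ⟨x, hx, h1⟩ := ha N
    obtain ⟨y, hy, h2⟩ := hb N
    exact ⟨x + y, S.add_mem hx hy, by rw [add_sub_add_comm]; exact W.valuation.map_add_le h1 h2⟩⟩
  mul_mem' := fun {a b} ⟨⟨k, hk⟩, ha⟩ ⟨⟨l, hl⟩, hb⟩ => ⟨⟨k + l, by
    rw [pow_add, mul_mul_mul_comm, map_mul]
    exact mul_le_one' hk hl⟩, fun N => by
    rcases eq_or_ne π 0 with h0 | h0
    · obtain ⟨x, hx, h1⟩ := ha (N + 1)
      obtain ⟨y, hy, h2⟩ := hb (N + 1)
      rw [h0, map_zero, zero_pow N.succ_ne_zero, le_zero_iff, map_eq_zero, sub_eq_zero] at h1 h2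
      exact ⟨x * y, S.mul_mem hx hy, by rw [h1, h2, sub_self, map_zero]; exact zero_le⟩
    have hv : 0 < W.valuation π := pos_iff_ne_zero.2 ((_root_.map_ne_zero _).2 h0)
    obtain ⟨x, hx, h1⟩ := ha (N + l + k)
    obtain ⟨y, hy, h2⟩ := hb (N + k)
    refine ⟨x * y, S.mul_mem hx hy, ?_⟩
    have hxk : W.valuation (x * π ^ k) ≤ 1 := by
      rw [show x * π ^ k = a * π ^ k - (a - x) * π ^ k by ring]
      refine W.valuation.map_sub_le hk ?_
      rw [map_mul, map_pow]
      exact mul_le_one' (h1.trans (pow_le_one' hπ _)) (pow_le_one' hπ _)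
    rw [show a * b - x * y = (a - x) * b + x * (b - y) by ring]
    refine W.valuation.map_add_le ?_ ?_
    · refine le_of_mul_le_mul_right ?_ (pow_pos hv l)
      rw [map_mul, mul_assoc, ← map_pow W.valuation π l, ← map_mul, map_pow W.valuation π, ← pow_add]
      calc W.valuation (a - x) * W.valuation (b * π ^ l) ≤ W.valuation π ^ (N + l + k) * 1 := mul_le_mul' h1 hl
        _ ≤ W.valuation π ^ (N + l) := by rw [mul_one]; exact pow_le_pow_right_of_le_one' hπ (by omega)
    · refine le_of_mul_le_mul_right ?_ (pow_pos hv k)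
      rw [map_mul, mul_right_comm, ← map_pow W.valuation π k, ← map_mul, map_pow W.valuation π, ← pow_add]
      calc W.valuation (x * π ^ k) * W.valuation (b - y) ≤ 1 * W.valuation π ^ (N + k) := mul_le_mul' hxk h2
        _ = _ := one_mul _⟩

variable {W π S}

omit [IsAlgClosed Ω] in
/-- Simple roots of polynomials over the closure which are close to `S` belong to the closure. -/
theorem root_mem_approxRing {hπ : W.valuation π ≤ 1} {h : Ω[X]} (hc : ∀ i, W.valuation (h.coeff i) ≤ 1)
    (hX : ∀ i, h.coeff i ∈ approxRing W π S hπ) {a b c : Ω} (ha : h.eval a = 0) (ha1 : W.valuation a ≤ 1) (hb : b ∈ S)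
    (hb1 : W.valuation b ≤ 1) (hcS : c ∈ S) (hc0 : c ≠ 0)
    (hc1 : W.valuation c ≤ 1) {D : ℕ} (hD : W.valuation π ^ D ≤ W.valuation c)
    (hca : W.valuation (c - (derivative h).eval a) ≤ W.valuation c * W.valuation π)
    (hab : W.valuation (b - a) ≤ W.valuation c * W.valuation π) : a ∈ approxRing W π S hπ := by
  classical
  have hvc : W.valuation c ≠ 0 := (_root_.map_ne_zero _).2 hc0
  refine ⟨⟨0, by simpa using ha1⟩, ?_⟩
  suffices hall : ∀ N, ∃ y ∈ S, W.valuation y ≤ 1 ∧
      W.valuation (y - a) ≤ W.valuation π ^ N ∧ W.valuation (y - a) ≤ W.valuation c * W.valuation π by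
    intro N
    obtain ⟨y, hy, -, h1, -⟩ := hall N
    exact ⟨y, hy, by rw [Valuation.map_sub_swap]; exact h1⟩
  intro N
  induction N with
  | zero =>
    refine ⟨b, hb, hb1, ?_, hab⟩
    rw [pow_zero]
    exact W.valuation.map_sub_le hb1 ha1
  | succ N ih =>
    obtain ⟨y, hy, hy1, hyN, hyc⟩ := ih
    have hyX : y ∈ approxRing W π S hπ := ⟨⟨0, by simpa using hy1⟩, fun M => ⟨y, hy, by simp⟩⟩
    have heX : h.eval y ∈ approxRing W π S hπ := by
      rw [eval_eq_sum_range]
      exact sum_mem fun i _ => mul_mem (hX i) (pow_mem hyX i)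
    obtain ⟨s, hs, hse⟩ := heX.2 (D + D + (N + 1))
    refine ⟨y - s / c, S.sub_mem hy (S.div_mem hs hcS), ?_⟩
    obtain ⟨hW, hhW⟩ : ∃ hW : (↥W)[X], hW.map W.subtype = h :=
      (mem_lifts _).1 ((lifts_iff_coeff_lifts _).2 fun i => ⟨⟨_, (W.valuation_le_one_iff _).1 (hc i)⟩, rfl⟩)
    let a' : W := ⟨a, (W.valuation_le_one_iff _).1 ha1⟩
    let d' : W := ⟨y - a, (W.valuation_le_one_iff _).1 (W.valuation.map_sub_le hy1 ha1)⟩
    obtain ⟨k, hk⟩ := binomExpansion hW a' d'
    have hT : h.eval y = (derivative h).eval a * (y - a) + (k : Ω) * (y - a) ^ 2 := by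
      have h2 := congrArg W.subtype hk
      rw [map_add, map_add, map_mul, map_mul, map_pow, ← eval₂_at_apply, ← eval₂_at_apply, ← eval₂_at_apply,
        ← eval_map, ← eval_map, ← eval_map, ← derivative_map, hhW, map_add] at h2
      have h3 : W.subtype a' + W.subtype d' = y := add_sub_cancel a y
      rw [h3] at h2
      rw [h2, show W.subtype a' = a from rfl, ha, zero_add]
      rfl
    have hkey : y - s / c - a =
        (y - a) * (c - (derivative h).eval a - (k : Ω) * (y - a)) / c + (h.eval y - s) / c := by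
      rw [hT]
      field_simp
      ring
    have h1 : W.valuation ((y - a) * (c - (derivative h).eval a - (k : Ω) * (y - a)) / c) ≤
        W.valuation (y - a) * W.valuation π := by
      rw [map_div₀, map_mul, div_le_iff₀ (pos_iff_ne_zero.2 hvc), mul_assoc, mul_comm (W.valuation π)]
      refine mul_le_mul' le_rfl (W.valuation.map_sub_le hca ?_)
      rw [map_mul]
      exact (mul_le_of_le_one_left' (W.valuation_le_one k)).trans hyc
    have h2 : W.valuation ((h.eval y - s) / c) ≤ W.valuation c * W.valuation π ^ (N + 1) := by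
      rw [map_div₀, div_le_iff₀ (pos_iff_ne_zero.2 hvc)]
      refine hse.trans ?_
      rw [pow_add, pow_add, mul_right_comm (W.valuation c)]
      exact mul_le_mul' (mul_le_mul' hD hD) le_rfl
    have hN : W.valuation (y - s / c - a) ≤ W.valuation π ^ (N + 1) := by
      rw [hkey]
      refine W.valuation.map_add_le (h1.trans ?_) (h2.trans (mul_le_of_le_one_left' hc1))
      rw [pow_succ]
      exact mul_le_mul' hyN le_rfl
    have hC : W.valuation (y - s / c - a) ≤ W.valuation c * W.valuation π := by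
      rw [hkey]
      refine W.valuation.map_add_le ((h1.trans (mul_le_of_le_one_right' hπ)).trans hyc) (h2.trans ?_)
      exact mul_le_mul' le_rfl (pow_le_of_le_one zero_le hπ N.succ_ne_zero)
    refine ⟨?_, hN, hC⟩
    rw [show y - s / c = (y - s / c - a) + a by ring]
    exact W.valuation.map_add_le (hN.trans (pow_le_one' hπ _)) ha1

end Closure

end Groth.Agent.EppASH7
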