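import Groth.Agent.Lib.EppASH7.Climb
import Mathlib.FieldTheory.IsAlgClosed.AlgebraicClosure
import Mathlib.FieldTheory.Galois.GaloisClosure

/-!
# Every finite set of elements lies in a pair with equal value groups
-/

set_option autoImplicit false
set_option linter.style.haveILetI false
set_option linter.unusedSectionVars false

universe u

open IsLocalRing Polynomial

namespace Groth.Agent.EppASH7

variable {p : ℕ} {A B K L Ω : Type u} [CommRing A] [IsDomain A] [IsDiscreteValuationRing A]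
  [CommRing B] [IsDomain B] [IsDiscreteValuationRing B] [Algebra A B] [Field K] [Field L] [Field Ω]
  [Algebra A K] [IsFractionRing A K] [Algebra B L] [IsFractionRing B L] [Algebra K L] [Algebra A L]
  [Algebra K Ω] [Algebra L Ω] [Algebra A Ω] [Algebra B Ω]
  [IsScalarTower A K L] [IsScalarTower A B L] [IsScalarTower K L Ω] [IsScalarTower A K Ω]
  [IsScalarTower B L Ω] [IsScalarTower A B Ω] [Algebra.IsAlgebraic L Ω] {W : ValuationSubring Ω}

theorem Setting.inv_bot (S : Setting p A B K L Ω W) (hw : EtRam.IsWeaklyUnramified A B) :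
    Inv W (⊥ : IntermediateField K Ω) (⊥ : IntermediateField L Ω) := by
  obtain ⟨π, hπ⟩ := IsDiscreteValuationRing.exists_irreducible A
  have hmax : maximalIdeal B = Ideal.span {algebraMap A B π} := by
    rw [← hw, hπ.maximalIdeal_eq, Ideal.map_span, Set.image_singleton]
  have hπB : Irreducible (algebraMap A B π) := (IsDiscreteValuationRing.irreducible_iff_uniformizer _).2 hmax
  set c : Ω := algebraMap A Ω π with hc
  have hcK : c ∈ (⊥ : IntermediateField K Ω) := by
    rw [hc, IsScalarTower.algebraMap_apply A K Ω]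
    exact IntermediateField.algebraMap_mem _ _
  refine ⟨inferInstance, inferInstance, ?_, fun x hx hx0 => ?_⟩
  · intro x hx
    obtain ⟨k, rfl⟩ := IntermediateField.mem_bot.1 hx
    exact IntermediateField.mem_bot.2 ⟨algebraMap K L k, (IsScalarTower.algebraMap_apply K L Ω k).symm⟩
  obtain ⟨l, rfl⟩ := IntermediateField.mem_bot.1 hx
  obtain ⟨n, b, hb⟩ := EtRamH7.exists_pole B L _ hπB l
  have hb0 : b ≠ 0 := fun h0 => by
    rw [h0, map_zero, eq_comm, mul_eq_zero] at hb
    refine hb.elim (fun hl => hx0 (by rw [hl, map_zero])) fun h1 => ?_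
    exact hπB.ne_zero (IsFractionRing.injective B L ((pow_eq_zero_iff'.1 h1).1.trans (map_zero _).symm))
  obtain ⟨j, u, hu⟩ := IsDiscreteValuationRing.eq_unit_mul_pow_irreducible hb0 hπB
  have hunit : W.valuation (algebraMap B Ω (u : B)) = 1 := by
    refine (W.valuation_eq_one_iff (RingHom.codRestrict (algebraMap B Ω) W S.dom.1 (u : B))).1 ?_
    exact u.isUnit.map _
  have h2 : algebraMap L Ω l * c ^ n = algebraMap B Ω (u : B) * c ^ j := by
    have hπΩ : c = algebraMap L Ω (algebraMap B L (algebraMap A B π)) := by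
      rw [hc, IsScalarTower.algebraMap_apply A B Ω, ← IsScalarTower.algebraMap_apply B L Ω]
    have hb' := congrArg (algebraMap L Ω) hb
    rw [map_mul, map_pow, ← hπΩ, ← IsScalarTower.algebraMap_apply B L Ω, hu, map_mul, map_pow,
      ← IsScalarTower.algebraMap_apply A B Ω] at hb'
    exact hb'.symm
  have hc0 : c ≠ 0 := fun h0 => hπB.ne_zero (by
    rw [hc, IsScalarTower.algebraMap_apply A B Ω, IsScalarTower.algebraMap_apply B L Ω, map_eq_zero] at h0
    exact IsFractionRing.injective B L (h0.trans (map_zero _).symm))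
  refine ⟨c ^ j / c ^ n, (⊥ : IntermediateField K Ω).div_mem (pow_mem hcK _) (pow_mem hcK _), ?_⟩
  have h3 : algebraMap L Ω l = algebraMap B Ω (u : B) * (c ^ j / c ^ n) := by
    rw [← mul_div_assoc, ← h2, mul_div_cancel_right₀ _ (pow_ne_zero _ hc0)]
  rw [h3, map_mul, hunit, one_mul]

theorem Setting.reach_finset (S : Setting p A B K L Ω W) [IsAlgClosed Ω] [IsAdicComplete (maximalIdeal A) A]
    [IsAdicComplete (maximalIdeal B) B] (hw : EtRam.IsWeaklyUnramified A B) (s : Finset Ω) :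
    ∃ (K₂ : IntermediateField K Ω) (F₂ : IntermediateField L Ω), Inv W K₂ F₂ ∧ Normal K K₂ ∧ ∀ x ∈ s, x ∈ F₂ := by
  classical
  have hp := S.hp
  haveI : Fact p.Prime := ⟨hp⟩
  haveI := S.closed
  haveI := S.char
  -- the characteristic
  have hinjA : Function.Injective (algebraMap A Ω) := by
    rw [IsScalarTower.algebraMap_eq A K Ω]
    exact (algebraMap K Ω).injective.comp (IsFractionRing.injective A K)
  have hch : CharP Ω p ∨ CharZero Ω := by
    rcases CharP.exists' Ω with h0 | ⟨q, hq, hcq⟩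
    · exact Or.inr h0
    · haveI := hcq
      left
      have h1 : ((q : ℕ) : A) = 0 := hinjA (by rw [map_natCast, map_zero, CharP.cast_eq_zero])
      have h2 : ((q : ℕ) : ResidueField A) = 0 := by rw [← map_natCast (residue A), h1, map_zero]
      obtain rfl : p = q := (Nat.prime_dvd_prime_iff_eq hp hq.out).1 ((CharP.cast_eq_zero_iff _ p q).1 h2)
      exact hcq
  -- the roots of unity
  obtain ⟨K₀, F₀, h₀, hζ₀, hchar⟩ : ∃ (K₀ : IntermediateField K Ω) (F₀ : IntermediateField L Ω), Inv W K₀ F₀ ∧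
      (∀ ζ : Ω, IsPrimitiveRoot ζ p → ζ ∈ K₀) ∧ (CharP Ω p ∨ (CharZero Ω ∧ ∃ ζ : Ω, IsPrimitiveRoot ζ p)) := by
    rcases hch with hc | hc
    · haveI := hc
      refine ⟨⊥, ⊥, S.inv_bot hw, fun ζ hζ => ?_, Or.inl hc⟩
      have : ζ = 1 := by
        refine frobenius_inj Ω p ?_
        rw [map_one, frobenius_def, hζ.pow_eq_one]
      rw [this]
      exact IntermediateField.one_mem _
    · haveI := hc
      haveI : NeZero (p : Ω) := ⟨Nat.cast_ne_zero.2 hp.ne_zero⟩
      obtain ⟨ζ, hζ⟩ := IsAlgClosed.exists_root (cyclotomic p Ω) (by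
        rw [degree_cyclotomic]; exact_mod_cast (Nat.totient_pos.2 hp.pos).ne')
      have hζ' : IsPrimitiveRoot ζ p := isRoot_cyclotomic_iff.1 hζ
      obtain ⟨K₀, hfin, -, hmem⟩ := exists_enlarge (K₁ := (⊥ : IntermediateField K Ω)) (X ^ p - Polynomial.C 1)
        (monic_X_pow_sub_C 1 hp.ne_zero) (fun i => by
          rw [coeff_sub, coeff_X_pow, coeff_C]
          exact IntermediateField.sub_mem _ (by split_ifs; exacts [IntermediateField.one_mem _, IntermediateField.zero_mem _])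
            (by split_ifs; exacts [IntermediateField.one_mem _, IntermediateField.zero_mem _])) ζ
        (by simp [hζ'.pow_eq_one])
      haveI := hfin
      have hb := S.inv_bot hw
      obtain ⟨F₀, hF₀fin, -, hKF, hvg, -⟩ := exists_baseChange S.domA ⊥ K₀ bot_le ⊥ hb.sub hb.vg
      refine ⟨K₀, F₀, ⟨hfin, hF₀fin, hKF, hvg⟩, fun η hη => ?_, Or.inr ⟨hc, ζ, hζ'⟩⟩
      obtain ⟨i, -, rfl⟩ := hζ'.eq_pow_of_pow_eq_one hη.pow_eq_one
      exact pow_mem hmem i
  haveI := h₀.finF
  -- a finite Galois extension containing powers of the elements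
  haveI : Algebra.IsAlgebraic F₀ Ω := Algebra.IsAlgebraic.tower_top (K := L) F₀
  haveI : IsAlgClosure F₀ Ω := ⟨inferInstance, inferInstance⟩
  let Sc := separableClosure F₀ Ω
  haveI : IsPurelyInseparable Sc Ω := separableClosure.isPurelyInseparable F₀ Ω
  haveI : IsGalois F₀ Sc := separableClosure.isGalois F₀ Ω
  have hsep : ∀ x : Ω, ∃ (k : ℕ) (y : Sc), x ^ (p ^ k) = y ∧ (CharP Ω p ∨ k = 0) := by
    intro x
    rcases hchar with hc | ⟨hc, -⟩
    · haveI := hc
      haveI : CharP Sc p := (RingHom.charP_iff (algebraMap Sc Ω) (RingHom.injective _) p).2 inferInstance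
      haveI : ExpChar Sc p := ExpChar.prime hp
      obtain ⟨k, y, hy⟩ := IsPurelyInseparable.pow_mem Sc p x
      exact ⟨k, y, hy.symm, Or.inl hc⟩
    · haveI := hc
      haveI : CharZero F₀ := (RingHom.charZero_iff (algebraMap F₀ Ω).injective).2 inferInstance
      exact ⟨0, ⟨x, mem_separableClosure_iff.2 (Algebra.IsSeparable.isSeparable F₀ x)⟩, by rw [pow_zero, pow_one], Or.inr rfl⟩
  choose k y hy using hsep
  let T : Set Sc := y '' (s : Set Ω)
  haveI : Finite T := (s.finite_toSet.image y).to_subtype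
  let N := FiniteGaloisIntermediateField.adjoin F₀ T
  obtain ⟨K₁, F₁, h₁, hK, hF, hall⟩ := S.reach_galois hchar h₀ hζ₀ (Sc.val.comp N.toIntermediateField.val)
  -- purely inseparable steps
  have hdesc : ∀ (m : ℕ) (x : Ω) (K₁ : IntermediateField K Ω) (F₁ : IntermediateField L Ω), Inv W K₁ F₁ →
      x ^ (p ^ m) ∈ F₁ → (CharP Ω p ∨ m = 0) →
      ∃ (K₂ : IntermediateField K Ω) (F₂ : IntermediateField L Ω), Inv W K₂ F₂ ∧ K₁ ≤ K₂ ∧ F₁ ≤ F₂ ∧ x ∈ F₂ := by
    intro m
    induction m with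
    | zero =>
      intro x K₁ F₁ h₁ hx _
      exact ⟨K₁, F₁, h₁, le_rfl, le_rfl, by simpa using hx⟩
    | succ m ih =>
      intro x K₁ F₁ h₁ hx hc
      haveI : CharP Ω p := hc.resolve_right (Nat.succ_ne_zero m)
      obtain ⟨K₂, F₂, h₂, hK, hF, hx'⟩ := ih (x ^ p) K₁ F₁ h₁ (by rwa [← pow_mul, ← pow_succ']) (Or.inl inferInstance)
      obtain ⟨K₃, F₃, h₃, hK', hF', hx''⟩ := S.step_insep h₂ x hx'
      exact ⟨K₃, F₃, h₃, hK.trans hK', hF.trans hF', hx''⟩
  obtain ⟨K₂, F₂, h₂, hs⟩ : ∃ (K₂ : IntermediateField K Ω) (F₂ : IntermediateField L Ω), Inv W K₂ F₂ ∧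
      ∀ x ∈ s, x ∈ F₂ := by
    suffices h : ∀ s' : Finset Ω, s' ⊆ s → ∃ (K₂ : IntermediateField K Ω) (F₂ : IntermediateField L Ω),
        Inv W K₂ F₂ ∧ F₁ ≤ F₂ ∧ ∀ x ∈ s', x ∈ F₂ by
      obtain ⟨K₂, F₂, h₂, -, hs⟩ := h s subset_rfl
      exact ⟨K₂, F₂, h₂, hs⟩
    intro s'
    induction s' using Finset.induction with
    | empty => exact fun _ => ⟨K₁, F₁, h₁, le_rfl, by simp⟩
    | @insert a s' _ ih =>
      intro hsub
      obtain ⟨K₂, F₂, h₂, hF₂, hs'⟩ := ih ((Finset.subset_insert a s').trans hsub)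
      have hay : (y a : Ω) ∈ F₁ :=
        hall ⟨y a, FiniteGaloisIntermediateField.subset_adjoin F₀ T ⟨a, hsub (Finset.mem_insert_self a s'), rfl⟩⟩
      obtain ⟨K₃, F₃, h₃, -, hF', ha⟩ : ∃ (K₃ : IntermediateField K Ω) (F₃ : IntermediateField L Ω),
          Inv W K₃ F₃ ∧ K₂ ≤ K₃ ∧ F₂ ≤ F₃ ∧ a ∈ F₃ := by
        exact hdesc (k a) a K₂ F₂ h₂ (hF₂ ((hy a).1.symm ▸ hay)) (hy a).2
      refine ⟨K₃, F₃, h₃, hF₂.trans hF', fun x hx => ?_⟩
      rcases Finset.mem_insert.1 hx with rfl | hx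
      · exact ha
      · exact hF' (hs' x hx)
  -- normal closure of the bottom
  haveI := h₂.finK
  haveI := h₂.finF
  haveI : Algebra.IsAlgebraic K K₂ := Algebra.IsAlgebraic.of_finite K K₂
  let K₃ : IntermediateField K Ω := IntermediateField.normalClosure K K₂ Ω
  haveI : FiniteDimensional K K₃ := normalClosure.is_finiteDimensional K K₂ Ω
  haveI : Normal K K₃ :=
    ((Algebra.IsAlgebraic.of_finite K K₂).isNormalClosure_normalClosure fun x => IsAlgClosed.splits _).normal
  have hle : K₂ ≤ K₃ := fun x hx => K₂.val.fieldRange_le_normalClosure ⟨⟨x, hx⟩, rfl⟩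
  obtain ⟨F₃, hF₃fin, hFF, hKF, hvg, -⟩ := exists_baseChange S.domA K₂ K₃ hle F₂ h₂.sub h₂.vg
  exact ⟨K₃, F₃, ⟨inferInstance, hF₃fin, hKF, hvg⟩, inferInstance, fun x hx => hFF (hs x hx)⟩

end Groth.Agent.EppASH7
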