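import Groth.Agent.Lib.EppASH7.Criterion
import Groth.Agent.S6332
import Mathlib.FieldTheory.IsAlgClosed.AlgebraicClosure
import Mathlib.FieldTheory.SeparableClosure
import Mathlib.Algebra.Polynomial.Lifts

/-!
# Eliminating ramification of Artin–Schreier extensions
-/

set_option autoImplicit false
set_option linter.style.haveILetI false

universe u

open IsLocalRing Polynomial

namespace Groth.Agent.EppASH7

/-- From a stable leading coefficient to a pole with non-`p`-th-power leading residue. -/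
theorem case_of_top {p : ℕ} (hp : p.Prime) {B E : Type u} [CommRing B] [IsLocalRing B] [Field E]
    (ι : B →+* E) (V : ValuationSubring E) (hdom : EtRam.Dominates B ι V)
    (hsurj : Function.Surjective fun b : B => residue V (RingHom.codRestrict ι V hdom.1 b))
    (x y w : E) (hxV : x ∈ V) (hxm : V.valuation x < 1) (hx0 : x ≠ 0) (k : ℕ) (hk : 0 < k)
    (hxy : x = y ^ k * w) (hw : w ∈ V) (hw' : w⁻¹ ∈ V) (d : ℕ) (hd : 0 < d) (hpd : p ∣ d) (Q : B[X])
    (hQ : Q = 0 ∨ ∀ r : B, residue B Q.leadingCoeff ≠ residue B r ^ p) (η : E)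
    (hη : η - Q.eval₂ ι (x⁻¹ ^ d) ∈ V) :
    η ∈ V ∨ ∃ (e : ℕ) (a : V), 0 < e ∧ p ∣ e ∧ (a : E) = η * y ^ e ∧ ∀ r : V, residue V a ≠ residue V r ^ p := by
  rcases Nat.eq_zero_or_pos Q.natDegree with h0 | h0
  · left
    rw [eq_C_of_natDegree_eq_zero h0, eval₂_C] at hη
    simpa using add_mem hη (hdom.1 (Q.coeff 0))
  right
  replace hQ := hQ.resolve_left fun h => by rw [h, natDegree_zero] at h0; exact h0.false
  obtain ⟨r, hr, hrQ⟩ := eval₂_eq_leading ι V hdom.1 (x ^ d) (pow_mem hxV d) (pow_ne_zero _ hx0) Q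
  rw [← inv_pow] at hrQ
  set e₀ := Q.natDegree * d with he₀
  have hw0 : w ≠ 0 := fun h => hx0 (by rw [hxy, h, mul_zero])
  have he₀' : 0 < e₀ := Nat.mul_pos h0 hd
  obtain ⟨e₁, he₁⟩ : p ∣ e₀ := hpd.mul_left _
  let β : B →+* V := RingHom.codRestrict ι V hdom.1
  haveI : IsLocalHom β := EtRamH7.isLocalHom_cod hdom
  let X' : V := ⟨x, hxV⟩
  let W' : V := ⟨w⁻¹, hw'⟩
  let a : V := (β Q.leadingCoeff + X' ^ d * ⟨r, hr⟩ + ⟨_, hη⟩ * X' ^ e₀) * W' ^ e₀
  refine ⟨k * e₀, a, Nat.mul_pos hk he₀', (hpd.mul_left _).mul_left k, ?_, fun b hb => ?_⟩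
  · show (ι Q.leadingCoeff + x ^ d * r + (η - Q.eval₂ ι (x⁻¹ ^ d)) * x ^ e₀) * w⁻¹ ^ e₀ = _
    rw [← hrQ, he₀, mul_comm Q.natDegree d, pow_mul x d, ← add_mul, add_sub_cancel, ← pow_mul, mul_assoc,
      ← mul_pow, hxy, mul_assoc, mul_inv_cancel₀ hw0, mul_one, ← pow_mul]
  have hXm : X' ∈ maximalIdeal V := (V.valuation_lt_one_iff _).2 hxm
  have hW : residue V W' * residue V (⟨w, hw⟩ : V) = 1 := by
    rw [← map_mul, show W' * (⟨w, hw⟩ : V) = 1 from Subtype.ext (inv_mul_cancel₀ hw0), map_one]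
  have ha : residue V a = residue V (β Q.leadingCoeff) * residue V W' ^ e₀ := by
    simp only [a, map_mul, map_add, map_pow, (residue_eq_zero_iff _).2 hXm, zero_pow hd.ne', zero_pow he₀'.ne',
      zero_mul, mul_zero, add_zero]
  obtain ⟨b', hb'⟩ := hsurj (residue V b * residue V (⟨w, hw⟩ : V) ^ e₁)
  refine hQ b' ((ResidueField.map β).injective ?_)
  rw [map_pow, ResidueField.map_residue, ResidueField.map_residue]
  show _ = residue V (β b') ^ p
  rw [show residue V (β b') = residue V b * residue V (⟨w, hw⟩ : V) ^ e₁ from hb', mul_pow, ← hb, ha,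
    ← pow_mul, mul_comm e₁ p, ← he₁, mul_assoc, ← mul_pow, hW, one_pow, mul_one]

theorem residue_comp_surjective {p : ℕ} {A E : Type u} [CommRing A] [Field E] (g : A →+* E) (V : ValuationSubring E)
    (h : ∀ a, g a ∈ V) (hsurj : Function.Surjective fun a : A => residue V (RingHom.codRestrict g V h a))
    (hperf : ∀ a : A, ∃ (r : A), residue V (RingHom.codRestrict g V h a) = residue V (RingHom.codRestrict g V h r) ^ p) :
    ∀ v : V, ∃ r : V, residue V v = residue V r ^ p := fun v => by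
  obtain ⟨a, ha⟩ := hsurj (residue V v)
  obtain ⟨r, hr⟩ := hperf a
  exact ⟨RingHom.codRestrict g V h r, ha.symm.trans hr⟩

theorem perfect_of_hk {p : ℕ} (hp : p.Prime) (A B : Type u) [CommRing A] [IsLocalRing A] [CommRing B] [IsLocalRing B]
    [Algebra A B] [IsLocalHom (algebraMap A B)] [CharP (ResidueField B) p]
    (hk : ∀ x : ResidueField B, (∀ n : ℕ, ∃ y : ResidueField B, y ^ (p ^ n) = x) ↔
      x ∈ Set.range (algebraMap (ResidueField A) (ResidueField B))) (a : A) :
    ∃ r : A, residue A a = residue A r ^ p := by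
  haveI : ExpChar (ResidueField B) p := ExpChar.prime hp
  have h := (hk _).2 ⟨residue A a, rfl⟩
  obtain ⟨y, hy⟩ := h 1
  rw [pow_one] at hy
  obtain ⟨r, hr⟩ := (hk y).1 fun n => by
    obtain ⟨z, hz⟩ := h (n + 1)
    refine ⟨z, frobenius_inj (ResidueField B) p ?_⟩
    show (z ^ p ^ n) ^ p = y ^ p
    rw [← pow_mul, ← pow_succ, hz, hy]
  obtain ⟨r, rfl⟩ := residue_surjective r
  exact ⟨r, (algebraMap (ResidueField A) (ResidueField B)).injective (by rw [map_pow, hr, hy])⟩

/-- Splitting a coefficient: either constant up to `π`, or a high power of a non-`p`-th power up to `π`. -/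
theorem coeff_step {p : ℕ} (A B : Type u) [CommRing A] [IsLocalRing A] [CommRing B] [IsLocalRing B]
    [Algebra A B] [IsLocalHom (algebraMap A B)]
    (hk : ∀ x : ResidueField B, (∀ n : ℕ, ∃ y : ResidueField B, y ^ (p ^ n) = x) ↔
      x ∈ Set.range (algebraMap (ResidueField A) (ResidueField B)))
    (π : B) (hπ : maximalIdeal B = Ideal.span {π}) (c : B) (hc : ¬ ∀ r : B, residue B c ≠ residue B r ^ p) :
    (∃ a ∈ (algebraMap A B).range, ∃ d, c = a + π * d) ∨
      ∃ (m : ℕ) (r d : B), 0 < m ∧ (∀ r' : B, residue B r ≠ residue B r' ^ p) ∧ c = r ^ p ^ m + π * d := by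
  classical
  have hdiv : ∀ b : B, residue B c = residue B b → ∃ d, c = b + π * d := fun b hb => by
    have : c - b ∈ Ideal.span {π} := by rw [← hπ, ← residue_eq_zero_iff, map_sub, hb, sub_self]
    obtain ⟨d, hd⟩ := Ideal.mem_span_singleton.1 this
    exact ⟨d, by rw [← hd, add_sub_cancel]⟩
  by_cases hall : ∀ n : ℕ, ∃ y : ResidueField B, y ^ (p ^ n) = residue B c
  · obtain ⟨a, ha⟩ := (hk _).1 hall
    obtain ⟨a, rfl⟩ := residue_surjective a
    exact Or.inl ⟨algebraMap A B a, ⟨a, rfl⟩, hdiv _ ha.symm⟩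
  push Not at hall
  obtain ⟨m, hm⟩ : ∃ m, Nat.find hall = m + 1 := by
    refine Nat.exists_eq_succ_of_ne_zero fun h0 => ?_
    exact Nat.find_spec hall (residue B c) (by rw [h0, pow_zero, pow_one])
  obtain ⟨y, hy⟩ : ∃ y : ResidueField B, y ^ (p ^ m) = residue B c := by
    by_contra h
    push Not at h
    exact Nat.find_min hall (by omega) h
  obtain ⟨r, rfl⟩ := residue_surjective y
  have hst : ∀ r' : B, residue B r ≠ residue B r' ^ p := fun r' h => by
    have := Nat.find_spec hall (residue B r')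
    rw [hm, pow_succ', pow_mul, ← h] at this
    exact this hy
  refine Or.inr ⟨m, r, ?_⟩
  obtain ⟨d, hd⟩ := hdiv (r ^ p ^ m) (by rw [map_pow, hy])
  refine ⟨d, Nat.pos_of_ne_zero fun h0 => hc ?_, hst, hd⟩
  rw [h0, pow_zero, pow_one] at hy
  exact hy ▸ hst

end Groth.Agent.EppASH7
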