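import Groth.Agent.Lib.EppASH7.Value
import Groth.Agent.Lib.EppASH7.Main
import Groth.Agent.Lib.EtRamH7.PrimeExt

/-!
# Pairs with equal value groups: uniformizers and simple extensions
-/

set_option autoImplicit false
set_option linter.style.haveILetI false

universe u

open IsLocalRing Polynomial

namespace Groth.Agent.EppASH7

variable {K L Ω : Type u} [Field K] [Field L] [Field Ω] [Algebra K Ω] [Algebra L Ω]

/-- A finite pair of subfields with equal value groups. -/
structure Inv (W : ValuationSubring Ω) (K₁ : IntermediateField K Ω) (F : IntermediateField L Ω) : Prop where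
  finK : FiniteDimensional K K₁
  finF : FiniteDimensional L F
  sub : (K₁ : Set Ω) ⊆ F
  vg : VG W (K₁ : Set Ω) (F : Set Ω)

/-- `z` lies in the top of some larger pair. -/
def Reach (W : ValuationSubring Ω) (K₁ : IntermediateField K Ω) (F : IntermediateField L Ω) (z : Ω) : Prop :=
  ∃ (K₂ : IntermediateField K Ω) (F₂ : IntermediateField L Ω), Inv W K₂ F₂ ∧ K₁ ≤ K₂ ∧ F ≤ F₂ ∧ z ∈ F₂

variable (W : ValuationSubring Ω)

theorem vg_refl (S : Set Ω) : VG W S S := fun x hx _ => ⟨x, hx, rfl⟩

section Adjoin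

variable (F : IntermediateField L Ω)

/-- `F(t)` as an extension of `L`. -/
def adj (t : Ω) : IntermediateField L Ω := (IntermediateField.adjoin F ({t} : Set Ω)).restrictScalars L

theorem le_adj (t : Ω) : F ≤ adj F t := fun x hx =>
  (IntermediateField.adjoin F ({t} : Set Ω)).algebraMap_mem ⟨x, hx⟩

theorem mem_adj (t : Ω) : t ∈ adj F t := IntermediateField.mem_adjoin_simple_self F t

theorem adj_le {F' : IntermediateField L Ω} (h : F ≤ F') {t : Ω} (ht : t ∈ F') : adj F t ≤ F' := by
  intro x hx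
  have hx' : x ∈ IntermediateField.adjoin F ({t} : Set Ω) := hx
  clear hx
  induction hx' using IntermediateField.adjoin_induction with
  | mem x hx => rw [Set.mem_singleton_iff.1 hx]; exact ht
  | algebraMap r => exact h r.2
  | add _ _ _ _ ha hb => exact F'.add_mem ha hb
  | inv _ _ ha => exact F'.inv_mem ha
  | mul _ _ _ _ ha hb => exact F'.mul_mem ha hb

theorem finite_adj [FiniteDimensional L F] [Algebra.IsAlgebraic L Ω] (t : Ω) : FiniteDimensional L (adj F t) := by
  haveI : Algebra.IsAlgebraic F Ω := Algebra.IsAlgebraic.tower_top (K := L) F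
  haveI : FiniteDimensional F (IntermediateField.adjoin F ({t} : Set Ω)) :=
    IntermediateField.adjoin.finiteDimensional (Algebra.IsIntegral.isIntegral t)
  exact FiniteDimensional.trans L F (IntermediateField.adjoin F ({t} : Set Ω))

theorem adj_repr (g : (↥F)[X]) (hg : g.Monic) {d : ℕ} (hd : g.natDegree = d) {t : Ω} (ht : aeval t g = 0) (x : Ω)
    (hx : x ∈ adj F t) : ∃ c : Fin d → F, x = ∑ i, (c i : Ω) * t ^ (i : ℕ) := by
  have hx' : x ∈ (IntermediateField.adjoin F ({t} : Set Ω)).toSubalgebra := hx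
  rw [IntermediateField.adjoin_simple_toSubalgebra_of_isAlgebraic ⟨g, hg.ne_zero, ht⟩,
    Algebra.adjoin_singleton_eq_range_aeval] at hx'
  obtain ⟨q, rfl⟩ := hx'
  have hmod : aeval t q = aeval t (q %ₘ g) := by
    conv_lhs => rw [← modByMonic_add_div q g]
    rw [map_add, map_mul, ht, zero_mul, add_zero]
  refine ⟨fun i => (q %ₘ g).coeff i, ?_⟩
  show aeval t q = _
  rcases Nat.eq_zero_or_pos d with h0 | h0
  · subst h0
    have : g = 1 := hg.natDegree_eq_zero.1 hd
    simp [this] at ht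
  rw [hmod, aeval_eq_sum_range' (n := d), ← Fin.sum_univ_eq_sum_range (fun i => (q %ₘ g).coeff i • t ^ i)]
  · rfl
  · exact lt_of_lt_of_eq (natDegree_modByMonic_lt q hg fun h1 => by simp [h1] at hd; omega) hd

end Adjoin

section Uniformizer

variable {A B : Type u} [CommRing A] [IsDomain A] [IsDiscreteValuationRing A] [CommRing B] [IsDomain B]
  [IsDiscreteValuationRing B] [Algebra A K] [IsFractionRing A K] [Algebra B L] [IsFractionRing B L]
  [Algebra B Ω] [IsScalarTower B L Ω]

theorem dominates_restrict (hB : EtRam.Dominates B (algebraMap B Ω) W) (F : IntermediateField L Ω) :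
    EtRam.Dominates B (algebraMap B F) (W.comap (algebraMap F Ω)) :=
  EtRamH7.dominates_comap (algebraMap F Ω)
    ((RingHom.ext fun b => rfl :
      (algebraMap F Ω).comp (algebraMap B F) = algebraMap B Ω) ▸ hB)

theorem dvr_restrict (hB : EtRam.Dominates B (algebraMap B Ω) W) (F : IntermediateField L Ω) [FiniteDimensional L F] :
    IsDiscreteValuationRing (W.comap (algebraMap F Ω)) :=
  EtRamH7.dvr_of_dominates B L F (algebraMap B F) (IsScalarTower.algebraMap_eq B L F) _ (dominates_restrict W hB F)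

/-- A uniformizer of the top lying in the bottom. -/
theorem exists_uniformizer (hB : EtRam.Dominates B (algebraMap B Ω) W) {K₁ : IntermediateField K Ω}
    {F : IntermediateField L Ω} (h : Inv W K₁ F) :
    ∃ π : (W.comap (algebraMap F Ω)), ((π : F) : Ω) ∈ K₁ ∧ Irreducible π ∧
      ∀ x ∈ F, x ≠ 0 → ∃ k : ℤ, W.valuation x = W.valuation ((π : F) : Ω) ^ k := by
  haveI := h.finF
  haveI := dvr_restrict W hB F
  obtain ⟨ϖ, hϖ⟩ := IsDiscreteValuationRing.exists_irreducible (W.comap (algebraMap F Ω))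
  have hϖ0 : ((ϖ : F) : Ω) ≠ 0 := fun h0 => hϖ.ne_zero (Subtype.ext (Subtype.ext h0))
  obtain ⟨c, hc, hce⟩ := h.vg _ (ϖ : F).2 hϖ0
  have hϖW : ((ϖ : F) : Ω) ∈ W := ϖ.2
  have hcW : c ∈ W := by
    rw [← W.valuation_le_one_iff, ← hce, W.valuation_le_one_iff]
    exact hϖW
  let π : W.comap (algebraMap F Ω) := ⟨⟨c, h.sub hc⟩, hcW⟩
  have hunit : ∀ v : W.comap (algebraMap F Ω), IsUnit v → W.valuation ((v : F) : Ω) = 1 := fun v hv =>
    (W.valuation_eq_one_iff (EtRam.inclOfComap W (algebraMap F Ω) v)).1 (hv.map _)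
  have hc0 : c ≠ 0 := fun h0 => hϖ0 (by rw [h0, map_zero] at hce; exact (map_eq_zero _).1 hce)
  obtain ⟨j, v, hv⟩ := IsDiscreteValuationRing.eq_unit_mul_pow_irreducible
    (x := π) (fun h0 => hc0 (congrArg (fun z : W.comap (algebraMap F Ω) => ((z : F) : Ω)) h0)) hϖ
  have hϖ1 : W.valuation ((ϖ : F) : Ω) < 1 := by
    refine lt_of_le_of_ne ((W.valuation_le_one_iff _).2 hϖW) fun h1 => hϖ.not_isUnit ?_
    exact (EtRam.isLocalHom_inclOfComap W (algebraMap F Ω)).map_nonunit ϖ
      ((W.valuation_eq_one_iff (EtRam.inclOfComap W (algebraMap F Ω) ϖ)).2 h1)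
  have hpow : W.valuation c = W.valuation ((ϖ : F) : Ω) ^ j := by
    rw [show c = (((v : W.comap (algebraMap F Ω)) : F) : Ω) * ((ϖ : F) : Ω) ^ j from
      congrArg (fun z : W.comap (algebraMap F Ω) => ((z : F) : Ω)) hv, map_mul, map_pow, hunit _ v.isUnit, one_mul]
  have hj : j = 1 := by
    have hinj := (pow_right_strictAnti₀ (pos_iff_ne_zero.2 ((_root_.map_ne_zero W.valuation).2 hϖ0)) hϖ1).injective
    exact (hinj (by simpa using hce.trans hpow)).symm
  refine ⟨π, hc, ?_, fun x hx hx0 => ?_⟩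
  · rw [hv, hj, pow_one, irreducible_units_mul]
    exact hϖ
  have hirr : Irreducible π := by
    rw [hv, hj, pow_one, irreducible_units_mul]
    exact hϖ
  rcases (W.comap (algebraMap F Ω)).mem_or_inv_mem ⟨x, hx⟩ with hm | hm
  · obtain ⟨k, w, hw⟩ := IsDiscreteValuationRing.eq_unit_mul_pow_irreducible
      (x := (⟨_, hm⟩ : W.comap (algebraMap F Ω)))
      (fun h0 => hx0 (congrArg (fun z : W.comap (algebraMap F Ω) => ((z : F) : Ω)) h0)) hirr
    refine ⟨k, ?_⟩
    have h2 : x = (((w : W.comap (algebraMap F Ω)) : F) : Ω) * c ^ k :=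
      congrArg (fun z : W.comap (algebraMap F Ω) => ((z : F) : Ω)) hw
    rw [h2, map_mul, map_pow, hunit _ w.isUnit, one_mul, zpow_natCast]
  · obtain ⟨k, w, hw⟩ := IsDiscreteValuationRing.eq_unit_mul_pow_irreducible
      (x := (⟨_, hm⟩ : W.comap (algebraMap F Ω)))
      (fun h0 => hx0 (inv_eq_zero.1 (congrArg (fun z : W.comap (algebraMap F Ω) => ((z : F) : Ω)) h0))) hirr
    refine ⟨-k, ?_⟩
    have h2 : x⁻¹ = (((w : W.comap (algebraMap F Ω)) : F) : Ω) * c ^ k :=
      congrArg (fun z : W.comap (algebraMap F Ω) => ((z : F) : Ω)) hw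
    rw [← inv_inv x, h2, map_inv₀, map_mul, map_pow, hunit _ w.isUnit, one_mul, zpow_neg, zpow_natCast]

/-- A root of a monic polynomial with separable reduction adds no values. -/
theorem vg_of_sepRoot (hB : EtRam.Dominates B (algebraMap B Ω) W) (F : IntermediateField L Ω) [FiniteDimensional L F]
    [Algebra.IsAlgebraic L Ω] (g : (W.comap (algebraMap F Ω))[X]) (hg : g.Monic)
    (hs : (g.map (residue _)).Separable) {t : Ω}
    (ht : g.eval₂ ((algebraMap F Ω).comp (W.comap (algebraMap F Ω)).subtype) t = 0) :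
    VG W (F : Set Ω) (adj F t : Set Ω) := by
  haveI := dvr_restrict W hB F
  let VF := W.comap (algebraMap F Ω)
  let E : IntermediateField F Ω := IntermediateField.adjoin F ({t} : Set Ω)
  haveI : Algebra.IsAlgebraic F Ω := Algebra.IsAlgebraic.tower_top (K := L) F
  haveI : FiniteDimensional F E := IntermediateField.adjoin.finiteDimensional (Algebra.IsIntegral.isIntegral t)
  letI : Algebra VF E := ((algebraMap F E).comp VF.subtype).toAlgebra
  haveI : IsScalarTower VF F E := IsScalarTower.of_algebraMap_eq fun _ => rfl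
  let T : E := ⟨t, IntermediateField.mem_adjoin_simple_self F t⟩
  have hT : aeval T g = 0 := by
    apply Subtype.ext
    show (algebraMap E Ω) (aeval T g) = 0
    rw [aeval_def, hom_eval₂]
    exact ht
  have hgen : ∀ y : E, ∃ q : F[X], aeval T q = y := by
    intro y
    have hy : (y : Ω) ∈ E.toSubalgebra := y.2
    rw [IntermediateField.adjoin_simple_toSubalgebra_of_isAlgebraic (Algebra.IsAlgebraic.isAlgebraic t),
      Algebra.adjoin_singleton_eq_range_aeval] at hy
    obtain ⟨q, hq⟩ := hy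
    refine ⟨q, Subtype.ext ?_⟩
    rw [← IntermediateField.aeval_coe]
    exact hq
  have hun := EtRamH7.unram_of_root VF F E T g hg hs hT hgen
  let VE := W.comap (algebraMap E Ω)
  have hdom : EtRam.Dominates VF (algebraMap VF E) VE :=
    EtRamH7.dominates_comap (algebraMap E Ω) (EtRamH7.dominates_self_comap (algebraMap F Ω) W)
  letI : Algebra VF VE := (RingHom.codRestrict (algebraMap VF E) VE hdom.1).toAlgebra
  haveI : IsLocalHom (algebraMap VF VE) := EtRamH7.isLocalHom_cod hdom
  have hwu : EtRam.IsWeaklyUnramified VF VE := (@hun VE hdom inferInstance).1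
  haveI := EtRamH7.dvr_of_dominates VF F E (algebraMap VF E) (IsScalarTower.algebraMap_eq VF F E) VE hdom
  obtain ⟨π, hπ⟩ := IsDiscreteValuationRing.exists_irreducible VF
  have hπ' : Irreducible (algebraMap VF VE π) := by
    rw [IsDiscreteValuationRing.irreducible_iff_uniformizer, ← hwu, hπ.maximalIdeal_eq, Ideal.map_span,
      Set.image_singleton]
  intro x hx hx0
  have hunit : ∀ v : VE, IsUnit v → W.valuation ((v : E) : Ω) = 1 := fun v hv =>
    (W.valuation_eq_one_iff (EtRam.inclOfComap W (algebraMap E Ω) v)).1 (hv.map _)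
  rcases VE.mem_or_inv_mem ⟨x, hx⟩ with hm | hm
  · obtain ⟨k, w, hw⟩ := IsDiscreteValuationRing.eq_unit_mul_pow_irreducible (x := (⟨_, hm⟩ : VE))
      (fun h0 => hx0 (congrArg (fun z : VE => ((z : E) : Ω)) h0)) hπ'
    refine ⟨((π : F) : Ω) ^ k, pow_mem (π : F).2 k, ?_⟩
    have h2 : x = (((w : VE) : E) : Ω) * ((π : F) : Ω) ^ k := congrArg (fun z : VE => ((z : E) : Ω)) hw
    rw [h2, map_mul, hunit _ w.isUnit, one_mul]
  · obtain ⟨k, w, hw⟩ := IsDiscreteValuationRing.eq_unit_mul_pow_irreducible (x := (⟨_, hm⟩ : VE))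
      (fun h0 => hx0 (inv_eq_zero.1 (congrArg (fun z : VE => ((z : E) : Ω)) h0))) hπ'
    refine ⟨(((π : F) : Ω) ^ k)⁻¹, F.inv_mem (pow_mem (π : F).2 k), ?_⟩
    have h2 : x⁻¹ = (((w : VE) : E) : Ω) * ((π : F) : Ω) ^ k := congrArg (fun z : VE => ((z : E) : Ω)) hw
    rw [← inv_inv x, h2, map_inv₀, map_mul, hunit _ w.isUnit, one_mul, map_inv₀]

end Uniformizer

end Groth.Agent.EppASH7
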