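import Groth.Agent.Lib.EppASH7.StepTame
import Groth.Agent.S6332
import Mathlib.GroupTheory.Sylow
import Mathlib.GroupTheory.IndexNormal
import Mathlib.FieldTheory.KummerExtension

/-!
# Climbing a Galois extension
-/

set_option autoImplicit false
set_option linter.style.haveILetI false
set_option linter.unusedSectionVars false

universe u

open IsLocalRing Polynomial

namespace Groth.Agent.EppASH7

variable {p : ℕ} {A B K L Ω : Type u} [CommRing A] [IsDomain A] [IsDiscreteValuationRing A]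
  [CommRing B] [IsDomain B] [IsDiscreteValuationRing B] [Algebra A B] [Field K] [Field L] [Field Ω]
  [Algebra A K] [IsFractionRing A K] [Algebra B L] [IsFractionRing B L] [Algebra K L] [Algebra A L]
  [Algebra K Ω] [Algebra L Ω] [Algebra A Ω] [Algebra B Ω]
  [IsScalarTower A K L] [IsScalarTower A B L] [IsScalarTower K L Ω] [IsScalarTower A K Ω]
  [IsScalarTower B L Ω] [IsScalarTower A B Ω] [Algebra.IsAlgebraic L Ω] {W : ValuationSubring Ω}

/-- Degree `p` Galois steps: a generator can be reached. -/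
theorem Setting.step_galois (S : Setting p A B K L Ω W) [IsAlgClosed Ω] [IsAdicComplete (maximalIdeal A) A]
    (hchar : CharP Ω p ∨ (CharZero Ω ∧ ∃ ζ : Ω, IsPrimitiveRoot ζ p))
    {K₁ : IntermediateField K Ω} {F : IntermediateField L Ω} (h : Inv W K₁ F)
    (hζ : ∀ ζ : Ω, IsPrimitiveRoot ζ p → ζ ∈ K₁) {E E' : Type u} [Field E] [Field E'] [Algebra E E']
    [FiniteDimensional E E'] [IsGalois E E'] (hdeg : Module.finrank E E' = p) (ι : E' →+* Ω)
    (hE : ∀ e : E, ι (algebraMap E E' e) ∈ F) (hζE : ∀ ζ : Ω, IsPrimitiveRoot ζ p → ∃ e : E, ι (algebraMap E E' e) = ζ) :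
    ∃ z : E', IntermediateField.adjoin E {z} = ⊤ ∧ Reach W K₁ F (ι z) := by
  have hp := S.hp
  haveI : Fact p.Prime := ⟨hp⟩
  rcases hchar with hc | ⟨hc, ζ, hζp⟩
  · haveI := hc
    haveI : CharP E p := (RingHom.charP_iff (ι.comp (algebraMap E E')) (RingHom.injective _) p).2 inferInstance
    obtain ⟨z, ⟨a, ha⟩, hz⟩ := Groth.Agent.S6332.result p hdeg
    refine ⟨z, hz, S.step_AS h (ι z) ?_⟩
    rw [← map_pow, ← map_sub, ← ha]
    exact hE a
  · haveI := hc
    obtain ⟨e, he⟩ := hζE ζ hζp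
    have he' : IsPrimitiveRoot e p :=
      IsPrimitiveRoot.of_map_of_injective (f := ι.comp (algebraMap E E')) (by rw [RingHom.comp_apply, he]; exact hζp)
        (RingHom.injective _)
    haveI : IsCyclic Gal(E'/E) := isCyclic_of_prime_card ((IsGalois.card_aut_eq_finrank E E').trans hdeg)
    obtain ⟨z, ⟨a, ha⟩, hz⟩ := exists_root_adjoin_eq_top_of_isCyclic E E'
      ⟨e, by rw [hdeg, mem_primitiveRoots hp.pos]; exact he'⟩
    refine ⟨z, hz, S.step_kummer h hζp (hζ ζ hζp) (ι z) ?_⟩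
    rw [hdeg] at ha
    rw [← map_pow, ← ha]
    exact hE a

/-- Climbing a Galois extension of degree a power of `p`. -/
theorem Setting.climb (S : Setting p A B K L Ω W) [IsAlgClosed Ω] [IsAdicComplete (maximalIdeal A) A]
    (hchar : CharP Ω p ∨ (CharZero Ω ∧ ∃ ζ : Ω, IsPrimitiveRoot ζ p)) {F₀ : Type u} [Field F₀] {N : Type u}
    [Field N] [Algebra F₀ N] [FiniteDimensional F₀ N] [IsGalois F₀ N] (ι : N →+* Ω)
    (hζ₀ : ∀ ζ : Ω, IsPrimitiveRoot ζ p → ∃ e : F₀, ι (algebraMap F₀ N e) = ζ) :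
    ∀ (n : ℕ) (E : IntermediateField F₀ N), Module.finrank E N = p ^ n →
      ∀ (K₁ : IntermediateField K Ω) (F : IntermediateField L Ω), Inv W K₁ F →
        (∀ ζ : Ω, IsPrimitiveRoot ζ p → ζ ∈ K₁) → (∀ e ∈ E, ι e ∈ F) →
        ∃ (K₂ : IntermediateField K Ω) (F₂ : IntermediateField L Ω), Inv W K₂ F₂ ∧ K₁ ≤ K₂ ∧ F ≤ F₂ ∧
          ∀ x : N, ι x ∈ F₂ := by
  classical
  have hp := S.hp
  haveI : Fact p.Prime := ⟨hp⟩
  intro n
  induction n with
  | zero =>
    intro E hE K₁ F h _ hEF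
    refine ⟨K₁, F, h, le_rfl, le_rfl, fun x => hEF x ?_⟩
    have : E = ⊤ := IntermediateField.finrank_eq_one_iff_eq_top.1 (by rw [hE, pow_zero])
    rw [this]
    trivial
  | succ n ih =>
    intro E hE K₁ F h hζ hEF
    haveI : Finite Gal(N/E) := inferInstance
    have hcard : Nat.card Gal(N/E) = p ^ (n + 1) := (IsGalois.card_aut_eq_finrank E N).trans hE
    obtain ⟨H, hH⟩ := Sylow.exists_subgroup_card_pow_prime p (n := n)
      (by rw [hcard, pow_succ]; exact dvd_mul_right _ _ : p ^ n ∣ Nat.card Gal(N/E))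
    have hidx : H.index = p := by
      have := H.card_mul_index
      rw [hH, hcard, pow_succ] at this
      exact Nat.eq_of_mul_eq_mul_left (pow_pos hp.pos n) this
    haveI : H.Normal := Subgroup.normal_of_index_eq_minFac_card (by
      rw [hidx, hcard, hp.pow_minFac (Nat.succ_ne_zero n)])
    let E' : IntermediateField E N := IntermediateField.fixedField H
    have hE'N : Module.finrank E' N = p ^ n := (IntermediateField.finrank_fixedField_eq_card H).trans hH
    have hdeg : Module.finrank E E' = p := by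
      have h1 := Module.finrank_mul_finrank E E' N
      rw [hE'N, hE, pow_succ, mul_comm] at h1
      exact Nat.eq_of_mul_eq_mul_left (pow_pos hp.pos n) h1
    obtain ⟨z, hz, K₂, F₂, h₂, hK, hF, hz₂⟩ := S.step_galois hchar h hζ hdeg (ι.comp E'.val.toRingHom)
      (fun e => hEF _ e.2) (fun ζ hζ' => by
        obtain ⟨e, he⟩ := hζ₀ ζ hζ'
        exact ⟨⟨algebraMap F₀ N e, E.algebraMap_mem e⟩, he⟩)
    have hmem : ∀ e : E', ι (e : N) ∈ F₂ := by
      intro e
      have he : e ∈ IntermediateField.adjoin E ({z} : Set E') := hz ▸ IntermediateField.mem_top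
      induction he using IntermediateField.adjoin_induction with
      | mem x hx => rw [Set.mem_singleton_iff.1 hx]; exact hz₂
      | algebraMap r => exact hF (hEF _ r.2)
      | add _ _ _ _ ha hb => push_cast; rw [map_add]; exact F₂.add_mem ha hb
      | inv _ _ ha => push_cast; rw [map_inv₀]; exact F₂.inv_mem ha
      | mul _ _ _ _ ha hb => push_cast; rw [map_mul]; exact F₂.mul_mem ha hb
    obtain ⟨K₃, F₃, h₃, hK', hF', hall⟩ := ih (E'.restrictScalars F₀) hE'N K₂ F₂ h₂ (fun ζ h' => hK (hζ ζ h'))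
      (fun e he => hmem ⟨e, he⟩)
    exact ⟨K₃, F₃, h₃, hK.trans hK', hF.trans hF', hall⟩

/-- Climbing an arbitrary finite Galois extension of the top. -/
theorem Setting.reach_galois (S : Setting p A B K L Ω W) [IsAlgClosed Ω] [IsAdicComplete (maximalIdeal A) A]
    [IsAdicComplete (maximalIdeal B) B] (hchar : CharP Ω p ∨ (CharZero Ω ∧ ∃ ζ : Ω, IsPrimitiveRoot ζ p))
    {K₁ : IntermediateField K Ω} {F : IntermediateField L Ω} (h : Inv W K₁ F)
    (hζ : ∀ ζ : Ω, IsPrimitiveRoot ζ p → ζ ∈ K₁) {N : Type u} [Field N] [Algebra F N] [FiniteDimensional F N]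
    [IsGalois F N] (ι : N →ₐ[F] Ω) :
    ∃ (K₂ : IntermediateField K Ω) (F₂ : IntermediateField L Ω), Inv W K₂ F₂ ∧ K₁ ≤ K₂ ∧ F ≤ F₂ ∧
      ∀ x : N, ι x ∈ F₂ := by
  classical
  have hp := S.hp
  haveI : Fact p.Prime := ⟨hp⟩
  obtain ⟨P⟩ : Nonempty (Sylow p Gal(N/F)) := inferInstance
  let E : IntermediateField F N := IntermediateField.fixedField (P : Subgroup Gal(N/F))
  obtain ⟨n, hn⟩ := (IsPGroup.iff_card (G := (P : Subgroup Gal(N/F)))).1 P.isPGroup'
  have hEN : Module.finrank E N = p ^ n := (IntermediateField.finrank_fixedField_eq_card _).trans hn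
  have hFE : ¬ p ∣ Module.finrank F E := by
    have h1 : Module.finrank F E * Module.finrank E N = Nat.card Gal(N/F) :=
      (Module.finrank_mul_finrank F E N).trans (IsGalois.card_aut_eq_finrank F N).symm
    have h2 := (P : Subgroup Gal(N/F)).card_mul_index
    have h3 : Module.finrank F E = (P : Subgroup Gal(N/F)).index := by
      rw [← h2, hEN, ← hn, mul_comm] at h1
      exact Nat.eq_of_mul_eq_mul_left (by rw [hn]; exact pow_pos hp.pos n) h1
    rw [h3]
    exact P.not_dvd_index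
  haveI : Algebra.IsSeparable F E := Algebra.isSeparable_tower_bot_of_isSeparable F E N
  let e := IntermediateField.equivMap E ι
  haveI : FiniteDimensional F (E.map ι) := e.toLinearEquiv.finiteDimensional
  haveI : Algebra.IsSeparable F (E.map ι) := Algebra.IsSeparable.of_equiv_equiv (RingEquiv.refl F) e.toRingEquiv
    (RingHom.ext fun r => (e.commutes r).symm)
  obtain ⟨K₂, F₂, h₂, hK, hF, hle⟩ := S.step_tame h (E.map ι)
    (by rw [← e.toLinearEquiv.finrank_eq]; exact hFE)
  obtain ⟨K₃, F₃, h₃, hK', hF', hall⟩ := S.climb hchar ι.toRingHom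
    (fun ζ hζ' => ⟨⟨ζ, h.sub (hζ ζ hζ')⟩, ι.commutes _⟩) n E hEN K₂ F₂ h₂ (fun ζ h' => hK (hζ ζ h'))
    (fun x hx => hle (show ι x ∈ E.map ι from ⟨x, hx, rfl⟩))
  exact ⟨K₃, F₃, h₃, hK.trans hK', hF.trans hF', hall⟩

end Groth.Agent.EppASH7
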