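import Mathlib.FieldTheory.PurelyInseparable.PerfectClosure
import Mathlib.FieldTheory.PurelyInseparable.Exponent
import Mathlib.FieldTheory.SeparableClosure
import Mathlib.FieldTheory.IsAlgClosed.Basic

/-!
# Perfect kernels of finite extensions
-/

set_option autoImplicit false
set_option linter.style.haveILetI false

universe u

open Polynomial

namespace Groth.Agent.EppASH7

/-- If `k = k₀ ^ (p ^ ∞)` is algebraically closed, the same holds for a finite extension of `k₀`. -/
theorem perfectKernel_finite {p : ℕ} (hp : p.Prime) (k k₀ l : Type u) [Field k] [Field k₀] [Field l] [CharP k₀ p]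
    [Algebra k k₀] [Algebra k₀ l] [Algebra k l] [IsScalarTower k k₀ l] [IsAlgClosed k] [FiniteDimensional k₀ l]
    (hk : ∀ x : k₀, (∀ n : ℕ, ∃ y : k₀, y ^ (p ^ n) = x) → x ∈ Set.range (algebraMap k k₀))
    (x : l) (hx : ∀ n : ℕ, ∃ y : l, y ^ (p ^ n) = x) : x ∈ Set.range (algebraMap k l) := by
  classical
  haveI : Fact p.Prime := ⟨hp⟩
  haveI : CharP l p := charP_of_injective_algebraMap (algebraMap k₀ l).injective p
  haveI : ExpChar k₀ p := ExpChar.prime hp
  haveI : ExpChar l p := ExpChar.prime hp
  let Sc := separableClosure k₀ l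
  haveI : ExpChar Sc p := expChar_of_injective_algebraMap (algebraMap k₀ Sc).injective p
  haveI : FiniteDimensional Sc l := FiniteDimensional.right k₀ Sc l
  haveI : IsPurelyInseparable Sc l := separableClosure.isPurelyInseparable k₀ l
  have hsep : ∀ n, ∃ y : l, y ^ (p ^ n) = x ∧ IsSeparable k₀ y := by
    intro n
    obtain ⟨y, hy⟩ := hx (n + IsPurelyInseparable.exponent Sc l)
    refine ⟨y ^ (p ^ IsPurelyInseparable.exponent Sc l), ?_, ?_⟩
    · rw [← pow_mul, ← pow_add, add_comm]; exact hy
    · obtain ⟨s, hs⟩ := IsPurelyInseparable.exponent_def' Sc p y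
      rw [← hs]
      exact mem_separableClosure_iff.1 s.2
  have hxint : IsIntegral k₀ x := IsIntegral.of_finite k₀ x
  have hcoeff : ∀ i, (minpoly k₀ x).coeff i ∈ Set.range (algebraMap k k₀) := by
    intro i
    refine hk _ fun n => ?_
    obtain ⟨y, hy, hys⟩ := hsep n
    refine ⟨(minpoly k₀ y).coeff i, ?_⟩
    have hyint : IsIntegral k₀ y := IsIntegral.of_finite k₀ y
    let q := (minpoly k₀ y).map (iterateFrobenius k₀ p n)
    have hqm : q.Monic := (minpoly.monic hyint).map _
    have hq0 : aeval x q = 0 := by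
      have h1 : aeval y (minpoly k₀ y) = 0 := minpoly.aeval k₀ y
      have h2 := congrArg (iterateFrobenius l p n) h1
      rw [map_zero, aeval_def, hom_eval₂] at h2
      rw [aeval_def, eval₂_map, ← hy]
      convert h2 using 1
      congr 1
      ext r
      simp [iterateFrobenius_def]
    have hdeg : q.natDegree ≤ (minpoly k₀ x).natDegree := by
      show ((minpoly k₀ y).map _).natDegree ≤ _
      rw [natDegree_map_eq_of_injective (iterateFrobenius k₀ p n).injective]
      rw [← IntermediateField.adjoin.finrank hyint, ← IntermediateField.adjoin.finrank hxint,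
        IntermediateField.adjoin_simple_eq_adjoin_pow_expChar_pow_of_isSeparable k₀ l hys p n, hy]
    have hqe : q = minpoly k₀ x :=
      (eq_of_monic_of_dvd_of_natDegree_le (minpoly.monic hxint) hqm (minpoly.dvd k₀ x hq0) hdeg)
    rw [← hqe, coeff_map, iterateFrobenius_def]
  choose a ha using hcoeff
  have hlift : minpoly k₀ x ∈ Polynomial.lifts (algebraMap k k₀) :=
    (lifts_iff_coeff_lifts _).2 fun i => ⟨a i, ha i⟩
  obtain ⟨g, hg, hgdeg, hgm⟩ := lifts_and_natDegree_eq_and_monic hlift (minpoly.monic hxint)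
  have hint : IsIntegral k x := ⟨g, hgm, by
    rw [IsScalarTower.algebraMap_eq k k₀ l, ← eval₂_map, hg, ← aeval_def, minpoly.aeval]⟩
  let E := IntermediateField.adjoin k ({x} : Set l)
  haveI : FiniteDimensional k E := IntermediateField.adjoin.finiteDimensional hint
  obtain ⟨c, hc⟩ := (IsAlgClosed.algebraMap_bijective_of_isIntegral (k := k) (K := E)).2
    ⟨x, IntermediateField.mem_adjoin_simple_self k x⟩
  exact ⟨c, congrArg Subtype.val hc⟩

end Groth.Agent.EppASH7
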