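import Groth.Agent.Lib.EtRamH7.Basic
import Groth.Agent.Lib.EtRamH7.Compositum
import Groth.Agent.Lib.EppASH7.Residue
import Groth.Agent.Lib.GeomRed18.Perfect
import Groth.Agent.Lib.AdicSmooth3.Lift
import Groth.Agent.S2452
import Groth.Agent.S2454
import Groth.Agent.S2455
import Groth.Agent.S2456
import Groth.Agent.S0578
import Mathlib.RingTheory.Localization.AtPrime.Basic
import Mathlib.RingTheory.DiscreteValuationRing.Basic

/-!
# Discrete valuation rings with prescribed residue field inside a complete one
-/

set_option autoImplicit false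
set_option linter.style.haveILetI false

universe u

open IsLocalRing Polynomial

namespace Groth.Agent.EppASH7

theorem geomRed_of_perfectField (k K : Type u) [Field k] [PerfectField k] [Field K] [Algebra k K] :
    Algebra.IsGeometricallyReduced k K :=
  (Sep.formallySmooth_iff_isGeometricallyReduced k K).mp (FieldFS.formallySmooth_of_perfectField k K)

/-- A Noetherian local ring with principal maximal ideal generated by a regular element is a DVR. -/
theorem isDiscreteValuationRing_of_regular {R : Type u} [CommRing R] [IsLocalRing R] [IsNoetherianRing R] (π : R)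
    (hπ : maximalIdeal R = Ideal.span {π}) (hreg : IsRegular π) :
    IsDomain R ∧ ∀ [IsDomain R], IsDiscreteValuationRing R := by
  classical
  have hdec : ∀ x : R, x ≠ 0 → ∃ (k : ℕ) (u : Rˣ), x = π ^ k * u := by
    intro x hx
    have hinf := Ideal.iInf_pow_eq_bot_of_isLocalRing (maximalIdeal R) (maximalIdeal.isMaximal R).ne_top
    have hex : ∃ n, x ∉ maximalIdeal R ^ n := by
      by_contra h
      push Not at h
      exact hx ((Submodule.mem_bot R).1 (hinf ▸ (Submodule.mem_iInf _).2 h))
    obtain ⟨k, hk⟩ : ∃ k, Nat.find hex = k + 1 := Nat.exists_eq_succ_of_ne_zero fun h0 => by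
      have := Nat.find_spec hex
      rw [h0, pow_zero, Ideal.one_eq_top] at this
      exact this trivial
    have hk1 : x ∈ maximalIdeal R ^ k := not_not.1 (Nat.find_min hex (by omega))
    rw [hπ, Ideal.span_singleton_pow, Ideal.mem_span_singleton] at hk1
    obtain ⟨c, hc⟩ := hk1
    have hu : IsUnit c := notMem_maximalIdeal.1 fun hc' => by
      rw [hπ, Ideal.mem_span_singleton] at hc'
      obtain ⟨d, rfl⟩ := hc'
      refine Nat.find_spec hex ?_
      rw [hk, hπ, Ideal.span_singleton_pow, Ideal.mem_span_singleton, hc, ← mul_assoc, ← pow_succ]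
      exact dvd_mul_right _ _
    exact ⟨k, hu.unit, hc⟩
  have hdom : IsDomain R := by
    haveI : Nontrivial R := inferInstance
    refine @NoZeroDivisors.to_isDomain R _ _ ⟨fun {a b} hab => ?_⟩
    by_contra h
    push Not at h
    obtain ⟨i, u, rfl⟩ := hdec a h.1
    obtain ⟨j, v, rfl⟩ := hdec b h.2
    have h0 : π ^ (i + j) * ((u * v : Rˣ) : R) = 0 := by rw [← hab, pow_add, Units.val_mul]; ring
    rw [Units.mul_left_eq_zero] at h0
    exact (hreg.pow (i + j)).ne_zero h0
  refine ⟨hdom, fun {_} => ?_⟩
  refine IsDiscreteValuationRing.ofHasUnitMulPowIrreducibleFactorization ⟨π, ?_, fun {x} hx => ?_⟩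
  · have hnu : ¬ IsUnit π := (mem_maximalIdeal π).1 (hπ ▸ Ideal.mem_span_singleton_self π)
    refine ⟨hnu, fun a b hab => ?_⟩
    by_contra h
    push Not at h
    have ha : a ∈ maximalIdeal R := (mem_maximalIdeal a).2 h.1
    have hb : b ∈ maximalIdeal R := (mem_maximalIdeal b).2 h.2
    rw [hπ, Ideal.mem_span_singleton] at ha hb
    obtain ⟨a', rfl⟩ := ha
    obtain ⟨b', rfl⟩ := hb
    refine hnu (IsUnit.of_mul_eq_one (a' * b') ?_)
    exact mul_left_cancel₀ hreg.ne_zero (by linear_combination -hab)
  · obtain ⟨k, u, rfl⟩ := hdec x hx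
    exact ⟨k, u, rfl⟩

/-- A Cohen algebra over a DVR is a DVR, with the same uniformizer. -/
theorem dvr_of_isCohenAlgebra {A B : Type u} [CommRing A] [IsDomain A] [IsDiscreteValuationRing A] [CommRing B]
    [IsLocalRing B] [Algebra A B] [IsLocalHom (algebraMap A B)] (h : EGA41.IsCohenAlgebra A B) :
    IsDomain B ∧ (∀ [IsDomain B], IsDiscreteValuationRing B) ∧ Function.Injective (algebraMap A B) := by
  obtain ⟨-, hB, -, hflat, hm, -⟩ := h
  haveI := hB
  haveI := hflat
  obtain ⟨π, hπ⟩ := IsDiscreteValuationRing.exists_irreducible A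
  have hπB : maximalIdeal B = Ideal.span {algebraMap A B π} := by
    rw [← hm, hπ.maximalIdeal_eq, Ideal.map_span, Set.image_singleton]
  have hfree : ∀ a : A, a ≠ 0 → IsRegular (algebraMap A B a) := by
    intro a ha
    have h1 : IsSMulRegular A a := fun x y hxy => mul_left_cancel₀ ha hxy
    have h2 : IsSMulRegular B a := Module.Flat.isSMulRegular_of_isRegular (IsRegular.of_ne_zero ha)
    have h3 : IsLeftRegular (algebraMap A B a) := fun x y hxy => h2 (by simpa [Algebra.smul_def] using hxy)
    exact ⟨h3, fun x y hxy => h3 (by simpa [mul_comm] using hxy)⟩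
  obtain ⟨h1, h2⟩ := isDiscreteValuationRing_of_regular _ hπB (hfree π hπ.ne_zero)
  refine ⟨h1, h2, (injective_iff_map_eq_zero _).2 fun a ha => ?_⟩
  by_contra ha0
  exact (hfree a ha0).ne_zero ha

/-- Lifting a residual map out of a Cohen algebra into a complete local ring. -/
theorem exists_lift_cohen {A D C : Type u} [CommRing A] [IsLocalRing A] [CommRing D] [IsLocalRing D] [CommRing C]
    [IsLocalRing C] [IsNoetherianRing C] [IsAdicComplete (maximalIdeal C) C] [Algebra A D] [Algebra A C]
    [IsLocalHom (algebraMap A D)] [IsLocalHom (algebraMap A C)] (h : EGA41.IsCohenAlgebra A D)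
    (φ : ResidueField D →+* ResidueField C)
    (hφ : φ.comp (ResidueField.map (algebraMap A D)) = ResidueField.map (algebraMap A C)) :
    ∃ v : D →ₐ[A] C, IsLocalHom v.toRingHom ∧ ∀ d, residue C (v d) = φ (residue D d) := by
  have hfs := Groth.Agent.S2454.result h
  let u : D →ₐ[A] C ⧸ maximalIdeal C :=
    { (φ.comp (residue D) : D →+* ResidueField C) with
      commutes' := fun a => by
        show φ (residue D (algebraMap A D a)) = residue C (algebraMap A C a)
        exact DFunLike.congr_fun hφ (residue A a) }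
  have hu0 : ∀ d ∈ maximalIdeal D, u d = 0 := fun d hd => by
    show φ (residue D d) = 0
    rw [(residue_eq_zero_iff d).2 hd, map_zero]
  haveI : IsHausdorff ((maximalIdeal C).map (Ideal.Quotient.mk (maximalIdeal C))) (C ⧸ maximalIdeal C) := by
    rw [Ideal.map_quotient_self]; infer_instance
  obtain ⟨v, -, hv⟩ := AdicSmooth3.exists_lift (𝔞 := maximalIdeal A) (𝔟 := maximalIdeal D)
    (𝔠 := maximalIdeal C) hfs ⟨1, by rw [pow_one]; exact ((local_hom_TFAE (algebraMap A C)).out 0 2).1 ‹_›⟩
    (maximalIdeal C) ⟨1, (pow_one _).le⟩ u ⟨1, Ideal.map_le_iff_le_comap.2 fun x hx => by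
      rw [Ideal.mem_comap, show u.toRingHom x = u x from rfl, hu0 x (by rwa [pow_one] at hx)]
      exact zero_mem _⟩
  have hres : ∀ d, residue C (v d) = φ (residue D d) := fun d => AlgHom.congr_fun hv d
  refine ⟨v, ⟨fun d hd => ?_⟩, hres⟩
  by_contra hnd
  have h0 := hres d
  rw [(residue_eq_zero_iff d).2 ((mem_maximalIdeal d).2 hnd), map_zero, residue_eq_zero_iff] at h0
  exact (mem_maximalIdeal _).1 h0 hd

theorem injective_of_local {R S : Type u} [CommRing R] [IsDomain R] [IsDiscreteValuationRing R] [CommRing S]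
    [IsDomain S] [IsLocalRing S] (f : R →+* S) (π : R) (hπ : Irreducible π) (hf : f π ≠ 0) : Function.Injective f := by
  refine (injective_iff_map_eq_zero f).2 fun x hx => ?_
  by_contra hx0
  obtain ⟨n, u, rfl⟩ := IsDiscreteValuationRing.eq_unit_mul_pow_irreducible hx0 hπ
  rw [map_mul, map_pow, mul_eq_zero] at hx
  exact hx.elim (u.isUnit.map f).ne_zero (pow_ne_zero n hf)

/-- Inside a complete DVR, a complete DVR with residue field an algebraically closed subfield, whose uniformizer
comes from `A`. -/
theorem exists_small_dvr {p : ℕ} (hp : p.Prime) (A C : Type u) [CommRing A] [IsDomain A] [IsDiscreteValuationRing A]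
    [CommRing C] [IsDomain C] [IsDiscreteValuationRing C] [IsAdicComplete (maximalIdeal C) C] [Algebra A C]
    [IsLocalHom (algebraMap A C)] (hinj : Function.Injective (algebraMap A C)) [CharP (ResidueField C) p]
    (kc : Subfield (ResidueField C)) [IsAlgClosed kc] :
    ∃ (A' : Type u) (_ : CommRing A') (_ : IsDomain A') (_ : IsDiscreteValuationRing A')
      (g : A' →+* C) (π₀ : A') (a₀ : A), IsAdicComplete (maximalIdeal A') A' ∧ IsLocalHom g ∧ Function.Injective g ∧
        Irreducible π₀ ∧ g π₀ = algebraMap A C a₀ ∧ (∀ a, residue C (g a) ∈ kc) ∧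
        ∀ c ∈ kc, ∃ a, residue C (g a) = c := by
  classical
  haveI : Fact p.Prime := ⟨hp⟩
  haveI : CharP kc p := (RingHom.charP_iff kc.subtype Subtype.val_injective p).2 inferInstance
  haveI : PerfectField kc := inferInstance
  rcases CharP.exists' C with h0 | ⟨q, hq, hcq⟩
  · -- mixed characteristic
    obtain ⟨D, iD, iDl, hD, ⟨e⟩⟩ := Groth.Agent.S0578.result p kc
    obtain ⟨iDd, iDv, hDc, q, hq, hDm⟩ := hD
    haveI := iDd
    haveI := iDv
    haveI := hDc
    have hqp : q = p := by
      have h1 : ((q : ℕ) : ResidueField D) = 0 := by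
        rw [← map_natCast (residue D), residue_eq_zero_iff, hDm]
        exact Ideal.mem_span_singleton_self _
      have h2 := congrArg e h1
      rw [map_natCast, map_zero] at h2
      exact ((Nat.prime_dvd_prime_iff_eq hp hq).1 ((CharP.cast_eq_zero_iff kc p q).1 h2)).symm
    subst hqp
    let φ : D →+* C ⧸ maximalIdeal C := (kc.subtype.comp e.toRingHom).comp (residue D)
    haveI : IsLocalRing (C ⧸ maximalIdeal C) := inferInstanceAs (IsLocalRing (ResidueField C))
    haveI : IsLocalHom φ := ⟨fun d hd => notMem_maximalIdeal.1 fun hm => by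
      refine hd.ne_zero ?_
      show kc.subtype (e (residue D d)) = (0 : ResidueField C)
      rw [(residue_eq_zero_iff d).2 hm, map_zero, map_zero]⟩
    obtain ⟨v, hvl, hv⟩ := Groth.Agent.S2456.result (W := D) (Or.inr ⟨iDd, iDv, hDc, q, hq, hDm⟩) (maximalIdeal C)
      (maximalIdeal.isMaximal C).ne_top φ
    have hres : ∀ d, residue C (v d) = kc.subtype (e (residue D d)) := fun d => DFunLike.congr_fun hv d
    have hirr : Irreducible (q : D) := (IsDiscreteValuationRing.irreducible_iff_uniformizer _).2 hDm
    refine ⟨D, iD, iDd, iDv, v, (q : D), (q : A), hDc, hvl, injective_of_local v _ hirr ?_, hirr,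
      by rw [map_natCast, map_natCast], fun a => ?_, fun c hc => ?_⟩
    · rw [map_natCast]; exact Nat.cast_ne_zero.2 hq.ne_zero
    · rw [hres]; exact (e (residue D a)).2
    · obtain ⟨d, hd⟩ := residue_surjective (e.symm ⟨c, hc⟩)
      exact ⟨d, by rw [hres, hd, e.apply_symm_apply]; rfl⟩
  · -- equal characteristic
    haveI := hcq
    haveI := hq
    obtain rfl : p = q := by
      have h1 : ((q : ℕ) : ResidueField C) = 0 := by rw [← map_natCast (residue C), CharP.cast_eq_zero, map_zero]
      exact (Nat.prime_dvd_prime_iff_eq hp hq.out).1 ((CharP.cast_eq_zero_iff _ p q).1 h1)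
    -- a coefficient field over `kc`
    letI : Algebra (ULift.{u} (ZMod p)) C := ((ZMod.castHom dvd_rfl C).comp ULift.ringEquiv.toRingHom).toAlgebra
    haveI : PerfectField (ULift.{u} (ZMod p)) := PerfectField.ofFinite
    haveI : Algebra.IsGeometricallyReduced (ULift.{u} (ZMod p)) (ResidueField C) := geomRed_of_perfectField _ _
    obtain ⟨σ, hσ⟩ := Groth.Agent.S2452.result (k := ULift.{u} (ZMod p)) (A := C)
    obtain ⟨πA, hπA⟩ := IsDiscreteValuationRing.exists_irreducible A
    set t : C := algebraMap A C πA with ht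
    have htm : t ∈ maximalIdeal C := ((local_hom_TFAE (algebraMap A C)).out 0 2 rfl rfl).1 ‹_›
      (Ideal.mem_map_of_mem _ ((mem_maximalIdeal πA).2 hπA.not_isUnit))
    haveI hP : (Ideal.span {(X : Polynomial kc)}).IsPrime :=
      (Ideal.span_singleton_prime X_ne_zero).2 prime_X
    let A₀ := Localization.AtPrime (Ideal.span {(X : Polynomial kc)})
    haveI : IsDiscreteValuationRing A₀ :=
      IsLocalization.AtPrime.isDiscreteValuationRing_of_dedekind_domain (Polynomial kc)
        (P := Ideal.span {(X : Polynomial kc)}) (by simp) A₀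
    let f : Polynomial kc →+* C := eval₂RingHom ((σ : ResidueField C →+* C).comp kc.subtype) t
    have hf : ∀ q : Polynomial kc, residue C (f q) = (q.coeff 0 : kc) := by
      intro q
      show residue C (q.eval₂ _ t) = _
      rw [hom_eval₂, (residue_eq_zero_iff t).2 htm, eval₂_at_zero]
      exact hσ _
    have hunit : ∀ s : (Ideal.span {(X : Polynomial kc)}).primeCompl, IsUnit (f s) := fun s => by
      refine notMem_maximalIdeal.1 fun hm => s.2 ?_
      rw [← residue_eq_zero_iff, hf] at hm
      show (s : Polynomial kc) ∈ Ideal.span {X}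
      rw [Ideal.mem_span_singleton, X_dvd_iff]
      exact Subtype.ext hm
    letI : Algebra A₀ C := (IsLocalization.lift (S := A₀) hunit).toAlgebra
    have hlift : ∀ q, algebraMap A₀ C (algebraMap (Polynomial kc) A₀ q) = f q := IsLocalization.lift_eq hunit
    haveI : IsLocalHom (algebraMap A₀ C) := ⟨fun x hx => by
      obtain ⟨q, s, rfl⟩ := IsLocalization.exists_mk'_eq (Ideal.span {(X : Polynomial kc)}).primeCompl x
      have hq : IsUnit (f q) := by
        rw [← hlift, ← IsLocalization.mk'_spec A₀ q s, map_mul]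
        exact hx.mul (by rw [hlift]; exact hunit s)
      have hmem : q ∈ (Ideal.span {(X : Polynomial kc)}).primeCompl := fun hm => by
        rw [SetLike.mem_coe, Ideal.mem_span_singleton, X_dvd_iff] at hm
        refine (mem_maximalIdeal (f q)).1 ?_ hq
        rw [← residue_eq_zero_iff, hf, hm]
        rfl
      have h1 : IsUnit (IsLocalization.mk' A₀ q s * algebraMap (Polynomial kc) A₀ s) := by
        rw [IsLocalization.mk'_spec]
        exact IsLocalization.map_units A₀ (⟨q, hmem⟩ : (Ideal.span {(X : Polynomial kc)}).primeCompl)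
      exact isUnit_of_mul_isUnit_left h1⟩
    haveI : Algebra.IsGeometricallyReduced (ResidueField A₀) (ResidueField A₀) :=
      EtRamH7.geomRed_of_separable _ _
    obtain ⟨⟨D, iD, iDl, iDA, iloc, hD, ⟨e⟩⟩, -⟩ := Groth.Agent.S2455.result (A := A₀) (ResidueField A₀)
    obtain ⟨iDd, hDv, hDinj⟩ := dvr_of_isCohenAlgebra hD
    haveI := iDd
    haveI : IsDiscreteValuationRing D := hDv
    have hDc : IsAdicComplete (maximalIdeal D) D := hD.2.2.1
    obtain ⟨v, hvl, hv⟩ := exists_lift_cohen (C := C) hD ((ResidueField.map (algebraMap A₀ C)).comp e.toRingHom)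
      (RingHom.ext fun x => by
        obtain ⟨a, rfl⟩ := residue_surjective x
        exact congrArg (ResidueField.map (algebraMap A₀ C)) (e.commutes (residue A₀ a)))
    have hXirr : Irreducible (algebraMap (Polynomial kc) A₀ X) := by
      rw [IsDiscreteValuationRing.irreducible_iff_uniformizer, ← Localization.AtPrime.map_eq_maximalIdeal,
        Ideal.map_span, Set.image_singleton]
    set π₀ : D := algebraMap A₀ D (algebraMap (Polynomial kc) A₀ X) with hπ₀
    have hirr : Irreducible π₀ := by
      rw [IsDiscreteValuationRing.irreducible_iff_uniformizer, ← hD.2.2.2.2.1, hXirr.maximalIdeal_eq, Ideal.map_span,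
        Set.image_singleton]
    have hvπ : v π₀ = t := by
      rw [hπ₀, v.commutes, hlift]
      exact eval₂_X _ _
    refine ⟨D, iD, iDd, inferInstance, v.toRingHom, π₀, πA, hDc, hvl,
      injective_of_local v.toRingHom _ hirr (by
        show v π₀ ≠ 0
        rw [hvπ, ht]
        exact fun h0 => hπA.ne_zero (hinj (h0.trans (map_zero _).symm))), hirr, hvπ, fun a => ?_, fun c hc => ?_⟩
    · show residue C (v a) ∈ kc
      rw [hv]
      obtain ⟨x, hx⟩ := residue_surjective (e (residue D a))
      show ResidueField.map (algebraMap A₀ C) (e (residue D a)) ∈ kc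
      rw [← hx, ResidueField.map_residue]
      obtain ⟨q, s, rfl⟩ := IsLocalization.exists_mk'_eq (Ideal.span {(X : Polynomial kc)}).primeCompl x
      have h1 : residue C (algebraMap A₀ C (IsLocalization.mk' A₀ q s)) * residue C (f s) = residue C (f q) := by
        rw [← hlift, ← map_mul, ← map_mul, IsLocalization.mk'_spec, hlift]
      rw [hf, hf] at h1
      have hs0 : (((s : Polynomial kc).coeff 0 : kc) : ResidueField C) ≠ 0 := fun h0 => by
        have := (hunit s).map (residue C)
        rw [hf, h0] at this
        exact not_isUnit_zero this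
      rw [eq_div_of_mul_eq hs0 h1]
      exact kc.div_mem (q.coeff 0).2 ((s : Polynomial kc).coeff 0).2
    · refine ⟨algebraMap A₀ D (algebraMap (Polynomial kc) A₀ (Polynomial.C ⟨c, hc⟩)), ?_⟩
      show residue C (v _) = c
      rw [v.commutes, hlift, hf, coeff_C_zero]

end Groth.Agent.EppASH7
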