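import Groth.Agent.Lib.EtRamH7.Basic
import Groth.Agent.Lib.Compl.Complete
import Groth.Agent.S7132
import Groth.Agent.Lib.Hens.Local
import Mathlib.RingTheory.Henselian
import Mathlib.RingTheory.Filtration
import Mathlib.FieldTheory.IntermediateField.Adjoin.Basic

/-!
# Finite extensions of complete discrete valuation rings
-/

set_option autoImplicit false
set_option linter.style.haveILetI false

universe u

open IsLocalRing

namespace Groth.Agent.EppASH7

/-- A submodule which is everything modulo `π` is everything, over a complete base. -/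
theorem finite_of_span_add_pi {R V : Type u} [CommRing R] [IsNoetherianRing R] [IsLocalRing R]
    [IsAdicComplete (maximalIdeal R) R] [AddCommGroup V] [Module R V] (π : R) (hπ : π ∈ maximalIdeal R)
    [IsHausdorff (maximalIdeal R) V] {ι : Type u} [Fintype ι] (v : ι → V)
    (h : ∀ x : V, ∃ (c : ι → R) (y : V), x = (∑ i, c i • v i) + π • y) (x : V) :
    x ∈ Submodule.span R (Set.range v) := by
  classical
  choose c y hy using h
  let r : ℕ → V := fun n => y^[n] x
  have hr : ∀ n, r n = (∑ i, c (r n) i • v i) + π • r (n + 1) := fun n => by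
    simp only [r, Function.iterate_succ', Function.comp_apply]
    exact hy _
  let s : ι → ℕ → R := fun i n => ∑ k ∈ Finset.range n, π ^ k * c (r k) i
  have hx : ∀ n, x = (∑ i, s i n • v i) + π ^ n • r n := by
    intro n
    induction n with
    | zero => simp [s, r]
    | succ n ih =>
      conv_lhs => rw [ih, hr n]
      simp only [s, Finset.sum_range_succ, add_smul, Finset.sum_add_distrib, smul_add, Finset.smul_sum, smul_smul,
        pow_succ]
      abel
  have hcauchy : ∀ (i : ι) {m n : ℕ}, m ≤ n → s i m ≡ s i n [SMOD (maximalIdeal R ^ m • ⊤ : Submodule R R)] := by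
    intro i m n hmn
    rw [SModEq.sub_mem, ← neg_sub, Submodule.neg_mem_iff, show s i n - s i m = ∑ k ∈ Finset.Ico m n, π ^ k * c (r k) i by
      rw [Finset.sum_Ico_eq_sub _ hmn]]
    refine sum_mem fun k hk => ?_
    rw [smul_eq_mul, Ideal.mul_top]
    exact Ideal.mul_mem_right _ _ (Ideal.pow_le_pow_right (Finset.mem_Ico.1 hk).1 (Ideal.pow_mem_pow hπ k))
  choose L hL using fun i => IsPrecomplete.prec' (I := maximalIdeal R) (fun n => s i n) (hcauchy i)
  suffices hxe : x - ∑ i, L i • v i = 0 by
    rw [sub_eq_zero.1 hxe]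
    exact sum_mem fun i _ => Submodule.smul_mem _ _ (Submodule.subset_span ⟨i, rfl⟩)
  refine IsHausdorff.haus' (I := maximalIdeal R) _ fun n => SModEq.zero.2 ?_
  rw [show x - ∑ i, L i • v i = (∑ i, (s i n - L i) • v i) + π ^ n • r n by
    rw [hx n]; simp only [sub_smul, Finset.sum_sub_distrib]; abel]
  refine add_mem (sum_mem fun i _ => Submodule.smul_mem_smul ?_ trivial)
    (Submodule.smul_mem_smul (Ideal.pow_mem_pow hπ n) trivial)
  have := SModEq.sub_mem.1 (hL i n)
  rwa [smul_eq_mul, Ideal.mul_top] at this

section Valuation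

variable (R : Type u) [CommRing R] [IsDomain R] [IsDiscreteValuationRing R] [IsAdicComplete (maximalIdeal R) R]
  (Kf F : Type u) [Field Kf] [Field F] [Algebra R Kf] [IsFractionRing R Kf] [Algebra Kf F] [FiniteDimensional Kf F]
  [Algebra R F] [IsScalarTower R Kf F]

include Kf in
/-- A dominating valuation subring in a finite extension of a complete discrete valuation ring is finite. -/
theorem finite_valuation (V : ValuationSubring F) (h : EtRam.Dominates R (algebraMap R F) V) :
    letI : Algebra R V := (RingHom.codRestrict (algebraMap R F) V h.1).toAlgebra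
    Module.Finite R V := by
  classical
  letI : Algebra R V := (RingHom.codRestrict (algebraMap R F) V h.1).toAlgebra
  haveI : IsLocalHom (algebraMap R V) := EtRamH7.isLocalHom_cod h
  haveI : IsScalarTower R V F := IsScalarTower.of_algebraMap_eq fun _ => rfl
  haveI := EtRamH7.dvr_of_dominates R Kf F (algebraMap R F) (IsScalarTower.algebraMap_eq R Kf F) V h
  have hinj := EtRamH7.injective_cod R Kf F (algebraMap R F) (IsScalarTower.algebraMap_eq R Kf F) V h.1
  haveI : Module.Finite (ResidueField R) (ResidueField V) :=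
    (Groth.Agent.S7132.result R V Kf F hinj).1
  obtain ⟨π, hπ⟩ := IsDiscreteValuationRing.exists_irreducible R
  obtain ⟨ϖ, hϖ⟩ := IsDiscreteValuationRing.exists_irreducible V
  have hπ0 : algebraMap R V π ≠ 0 := fun h0 => hπ.ne_zero (hinj (h0.trans (map_zero _).symm))
  obtain ⟨e, u, hu⟩ := IsDiscreteValuationRing.eq_unit_mul_pow_irreducible hπ0 hϖ
  let b := Module.Free.chooseBasis (ResidueField R) (ResidueField V)
  let g : Module.Free.ChooseBasisIndex (ResidueField R) (ResidueField V) → V := fun i =>
    (residue_surjective (b i)).choose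
  have hg : ∀ i, residue V (g i) = b i := fun i => (residue_surjective (b i)).choose_spec
  let v : Fin e × Module.Free.ChooseBasisIndex (ResidueField R) (ResidueField V) → V := fun q => ϖ ^ (q.1 : ℕ) * g q.2
  haveI : IsHausdorff (maximalIdeal R) V := ⟨fun y hy => by
    refine IsHausdorff.haus' (I := maximalIdeal V) y fun n => SModEq.zero.2 ?_
    rw [smul_eq_mul, Ideal.mul_top]
    have h1 := SModEq.zero.1 (hy n)
    rw [Ideal.smul_top_eq_map] at h1
    have h2 : (maximalIdeal R ^ n).map (algebraMap R V) ≤ maximalIdeal V ^ n := by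
      rw [Ideal.map_pow]
      exact Ideal.pow_right_mono (((local_hom_TFAE (algebraMap R V)).out 0 2 rfl rfl).1 inferInstance) n
    exact h2 h1⟩
  have step : ∀ k : ℕ, k ≤ e → ∀ x : V, ∃ (c : Fin e × Module.Free.ChooseBasisIndex (ResidueField R) (ResidueField V) → R)
      (y : V), x = (∑ q, c q • v q) + ϖ ^ k * y := by
    intro k
    induction k with
    | zero => exact fun _ x => ⟨0, x, by simp⟩
    | succ k ih =>
      intro hk x
      obtain ⟨c, y, rfl⟩ := ih (by omega) x
      choose a ha using fun i => residue_surjective (R := R) (b.repr (residue V y) i)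
      have hy : residue V (y - ∑ i, a i • g i) = 0 := by
        rw [map_sub, map_sum, sub_eq_zero]
        conv_lhs => rw [← b.sum_repr (residue V y)]
        refine Finset.sum_congr rfl fun i _ => ?_
        rw [Algebra.smul_def (a i), map_mul, hg, ← ha, Algebra.smul_def]
        rfl
      rw [residue_eq_zero_iff, hϖ.maximalIdeal_eq, Ideal.mem_span_singleton] at hy
      obtain ⟨y', hy'⟩ := hy
      refine ⟨fun q => c q + if (q.1 : ℕ) = k then a q.2 else 0, y', ?_⟩
      rw [sub_eq_iff_eq_add'] at hy'
      simp only [add_smul, Finset.sum_add_distrib]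
      rw [hy', mul_add, ← add_assoc, ← mul_assoc, ← pow_succ, Finset.mul_sum]
      congr 2
      rw [Fintype.sum_prod_type, Finset.sum_eq_single (⟨k, by omega⟩ : Fin e)]
      · refine Finset.sum_congr rfl fun i _ => ?_
        rw [if_pos rfl, mul_smul_comm]
      · intro j _ hj
        refine Finset.sum_eq_zero fun i _ => ?_
        rw [if_neg fun h => hj (Fin.ext h), zero_smul]
      · simp
  refine ⟨⟨Finset.univ.image v, ?_⟩⟩
  rw [Finset.coe_image, Finset.coe_univ, Set.image_univ, eq_top_iff]
  rintro x -
  refine finite_of_span_add_pi π ((mem_maximalIdeal π).2 hπ.not_isUnit) v (fun y => ?_) x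
  obtain ⟨c, z, hz⟩ := step e le_rfl y
  refine ⟨c, ↑u⁻¹ * z, hz.trans ?_⟩
  rw [Algebra.smul_def π, hu]
  congr 1
  rw [mul_comm (u : V), mul_assoc, ← mul_assoc (u : V), Units.mul_inv, one_mul]

include Kf in
theorem isIntegral_of_mem (V : ValuationSubring F) (h : EtRam.Dominates R (algebraMap R F) V) {x : F} (hx : x ∈ V) :
    IsIntegral R x := by
  letI : Algebra R V := (RingHom.codRestrict (algebraMap R F) V h.1).toAlgebra
  haveI : IsScalarTower R V F := IsScalarTower.of_algebraMap_eq fun _ => rfl
  haveI : Module.Finite R V := finite_valuation R Kf F V h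
  exact (IsIntegral.of_finite R (⟨x, hx⟩ : V)).map (IsScalarTower.toAlgHom R V F)

include Kf in
theorem henselian_valuation (V : ValuationSubring F) (h : EtRam.Dominates R (algebraMap R F) V) :
    HenselianLocalRing V ∧ IsAdicComplete (maximalIdeal V) V := by
  letI : Algebra R V := (RingHom.codRestrict (algebraMap R F) V h.1).toAlgebra
  haveI : IsLocalHom (algebraMap R V) := EtRamH7.isLocalHom_cod h
  haveI : Module.Finite R V := finite_valuation R Kf F V h
  haveI := EtRamH7.dvr_of_dominates R Kf F (algebraMap R F) (IsScalarTower.algebraMap_eq R Kf F) V h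
  haveI : IsAdicComplete (maximalIdeal R) V := Compl.isAdicComplete_of_finite _ V
  haveI : IsAdicComplete ((maximalIdeal R).map (algebraMap R V)) V := IsAdicComplete.map_algebraMap_iff _ _ |>.2 inferInstance
  obtain ⟨π, hπ⟩ := IsDiscreteValuationRing.exists_irreducible R
  have hinj := EtRamH7.injective_cod R Kf F (algebraMap R F) (IsScalarTower.algebraMap_eq R Kf F) V h.1
  have hle := ((local_hom_TFAE (algebraMap R V)).out 0 2 rfl rfl).1 ‹IsLocalHom (algebraMap R V)›
  obtain ⟨ϖ, hϖ⟩ := IsDiscreteValuationRing.exists_irreducible V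
  obtain ⟨e, u, hu⟩ := IsDiscreteValuationRing.eq_unit_mul_pow_irreducible
    (fun h0 => hπ.ne_zero (hinj (h0.trans (map_zero _).symm)) : algebraMap R V π ≠ 0) hϖ
  haveI : IsAdicComplete (maximalIdeal V) V := Compl.isAdicComplete_of_le_of_pow_le (k := e) V hle (by
    rw [hπ.maximalIdeal_eq, Ideal.map_span, Set.image_singleton, hu, Ideal.span_singleton_mul_left_unit u.isUnit,
      hϖ.maximalIdeal_eq, Ideal.span_singleton_pow])
  exact ⟨Hens.henselianLocalRing_iff.2 inferInstance, inferInstance⟩

end Valuation

/-- The valuation subring dominating a complete discrete valuation ring in an algebraic extension is unique. -/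
theorem valuationSubring_unique (R : Type u) [CommRing R] [IsDomain R] [IsDiscreteValuationRing R]
    [IsAdicComplete (maximalIdeal R) R] (Kf Ω : Type u) [Field Kf] [Field Ω] [Algebra R Kf] [IsFractionRing R Kf]
    [Algebra Kf Ω] [Algebra.IsAlgebraic Kf Ω] [Algebra R Ω] [IsScalarTower R Kf Ω]
    (W W' : ValuationSubring Ω) (h : EtRam.Dominates R (algebraMap R Ω) W)
    (h' : EtRam.Dominates R (algebraMap R Ω) W') : W = W' := by
  have key : ∀ (W W' : ValuationSubring Ω), EtRam.Dominates R (algebraMap R Ω) W →
      EtRam.Dominates R (algebraMap R Ω) W' → ∀ x ∈ W, x ∈ W' := by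
    intro W W' h h' x hx
    let E := IntermediateField.adjoin Kf ({x} : Set Ω)
    haveI : FiniteDimensional Kf E :=
      IntermediateField.adjoin.finiteDimensional (Algebra.IsAlgebraic.isAlgebraic x).isIntegral
    haveI : IsScalarTower R E Ω := IsScalarTower.of_algebraMap_eq fun r => by
      rw [IsScalarTower.algebraMap_apply R Kf Ω, IsScalarTower.algebraMap_apply R Kf E]
      rfl
    have hc : (algebraMap E Ω).comp (algebraMap R E) = algebraMap R Ω := RingHom.ext fun _ => rfl
    have hint : IsIntegral R (⟨x, IntermediateField.mem_adjoin_simple_self Kf x⟩ : E) :=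
      isIntegral_of_mem R Kf E (W.comap (algebraMap E Ω)) (EtRamH7.dominates_comap _ (hc ▸ h)) hx
    have hxint : IsIntegral R x := hint.map (IsScalarTower.toAlgHom R E Ω)
    letI : Algebra R W' := (RingHom.codRestrict (algebraMap R Ω) W' h'.1).toAlgebra
    haveI : IsScalarTower R W' Ω := IsScalarTower.of_algebraMap_eq fun _ => rfl
    obtain ⟨w, hw⟩ := IsIntegrallyClosed.algebraMap_eq_of_integral (R := W') (K := Ω) (hxint.tower_top (A := W'))
    rw [← hw]; exact w.2
  exact le_antisymm (key W W' h h') (key W' W h' h)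

end Groth.Agent.EppASH7
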