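import Groth.Agent.Lib.EppASH7.Complete
import Groth.Agent.Lib.EppASH7.Residue
import Mathlib.RingTheory.Valuation.Basic
import Mathlib.FieldTheory.KummerPolynomial
import Mathlib.LinearAlgebra.LinearIndependent.Basic
import Mathlib.RingTheory.PowerBasis
import Mathlib.FieldTheory.IntermediateField.Adjoin.Algebra

/-!
# Value groups of subfields
-/

set_option autoImplicit false
set_option linter.style.haveILetI false

universe u

open IsLocalRing Polynomial

namespace Groth.Agent.EppASH7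

variable {Ω : Type u} [Field Ω] (W : ValuationSubring Ω)

/-- Every value of `T` is a value of `S`. -/
def VG (S T : Set Ω) : Prop := ∀ x ∈ T, x ≠ 0 → ∃ y ∈ S, W.valuation x = W.valuation y

variable {W}

theorem VG.mono {S T T' : Set Ω} (h : VG W S T) (hT : T' ⊆ T) : VG W S T' := fun x hx h0 => h x (hT hx) h0

theorem VG.trans {S T U : Set Ω} (h : VG W S T) (h' : VG W T U) : VG W S U := fun x hx h0 => by
  obtain ⟨y, hy, he⟩ := h' x hx h0
  obtain ⟨z, hz, he'⟩ := h y hy (fun hy0 => h0 (by rw [hy0, map_zero] at he; exact (map_eq_zero _).1 he))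
  exact ⟨z, hz, he.trans he'⟩

theorem valuation_sum_lt {ι : Type*} (s : Finset ι) (f : ι → Ω) (i : ι) (hi : i ∈ s) (hi0 : f i ≠ 0)
    (h : ∀ j ∈ s, j ≠ i → W.valuation (f j) < W.valuation (f i)) :
    W.valuation (∑ j ∈ s, f j) = W.valuation (f i) := by
  classical
  rw [← Finset.add_sum_erase s f hi]
  refine W.valuation.map_add_eq_of_lt_left ?_
  refine W.valuation.map_sum_lt ((_root_.map_ne_zero _).2 hi0) fun j hj => ?_
  exact h j (Finset.mem_of_mem_erase hj) (Finset.ne_of_mem_erase hj)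

/-- A sum of terms with pairwise different values takes the value of one of them, which dominates. -/
theorem exists_max_term {ι : Type*} (s : Finset ι) (f : ι → Ω) (hs : ∑ j ∈ s, f j ≠ 0)
    (h : ∀ i ∈ s, ∀ j ∈ s, i ≠ j → f i ≠ 0 → W.valuation (f i) ≠ W.valuation (f j)) :
    ∃ i ∈ s, f i ≠ 0 ∧ (∀ j ∈ s, j ≠ i → W.valuation (f j) < W.valuation (f i)) ∧
      W.valuation (∑ j ∈ s, f j) = W.valuation (f i) := by
  obtain ⟨i₀, hi₀, hne⟩ := Finset.exists_ne_zero_of_sum_ne_zero hs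
  obtain ⟨i, hi, hmax⟩ := s.exists_max_image (fun j => W.valuation (f j)) ⟨i₀, hi₀⟩
  have hi0 : f i ≠ 0 := fun h0 => by
    have := hmax i₀ hi₀
    simp only [h0, map_zero] at this
    exact hne ((map_eq_zero _).1 (le_zero_iff.1 this))
  have hlt : ∀ j ∈ s, j ≠ i → W.valuation (f j) < W.valuation (f i) := fun j hj hji =>
    lt_of_le_of_ne (hmax j hj) fun he => h i hi j hj (Ne.symm hji) hi0 he.symm
  exact ⟨i, hi, hi0, hlt, valuation_sum_lt s f i hi hi0 hlt⟩

/-- The residue of an element of `W`. -/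
noncomputable def res (x : Ω) (hx : x ∈ W) : ResidueField W := residue W ⟨x, hx⟩

theorem res_eq_iff {x y : Ω} (hx : x ∈ W) (hy : y ∈ W) : res x hx = res y hy ↔ W.valuation (x - y) < 1 := by
  rw [res, res, ← sub_eq_zero, ← map_sub, residue_eq_zero_iff, ValuationSubring.valuation_lt_one_iff]
  rfl

/-- An element whose `p`-th power has a residue which is not a `p`-th power in `F` adds no values. -/
theorem vg_of_insep {p : ℕ} (hp : p.Prime) (F : Subfield Ω) (t a : Ω) (ht : t ∈ W) (ha : a ∈ W) (haF : a ∈ F)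
    (hta : W.valuation (t ^ p - a) < 1) (hna : ∀ r ∈ F, r ∈ W → ¬ W.valuation (a - r ^ p) < 1)
    (T : Set Ω) (hT : ∀ x ∈ T, ∃ c : Fin p → F, x = ∑ i, (c i : Ω) * t ^ (i : ℕ)) : VG W (F : Set Ω) T := by
  classical
  intro x hx hx0
  obtain ⟨c, rfl⟩ := hT x hx
  obtain ⟨i, -, hmax⟩ := (Finset.univ : Finset (Fin p)).exists_max_image (fun j => W.valuation (c j : Ω))
    ⟨⟨0, hp.pos⟩, Finset.mem_univ _⟩
  have hci : (c i : Ω) ≠ 0 := fun h0 => hx0 (Finset.sum_eq_zero fun j _ => by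
    have := hmax j (Finset.mem_univ j)
    simp only [h0, map_zero] at this
    rw [(map_eq_zero _).1 (le_zero_iff.1 this), zero_mul])
  refine ⟨c i, (c i).2, ?_⟩
  let V : ValuationSubring F := W.comap F.subtype
  let ι : V →+* W := EtRam.inclOfComap W F.subtype
  haveI : IsLocalHom ι := EtRam.isLocalHom_inclOfComap W F.subtype
  letI : Algebra (ResidueField V) (ResidueField W) := (ResidueField.map ι).toAlgebra
  have hd : ∀ j, ((c j / c i : F) : Ω) ∈ W := fun j => by
    rw [← ValuationSubring.valuation_le_one_iff]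
    push_cast
    rw [map_div₀]
    exact div_le_one_of_le₀ (hmax j (Finset.mem_univ j)) zero_le
  let d : Fin p → V := fun j => ⟨c j / c i, hd j⟩
  let a' : V := ⟨⟨a, haF⟩, ha⟩
  let g : (ResidueField V)[X] := X ^ p - C (residue V a')
  have hgi : Irreducible g := by
    refine X_pow_sub_C_irreducible_of_prime hp fun b hb => ?_
    obtain ⟨b, rfl⟩ := residue_surjective b
    refine hna (b : F) (b : F).2 b.2 ?_
    have h1 := congrArg (ResidueField.map ι) hb
    rw [map_pow, ResidueField.map_residue, ResidueField.map_residue, ← map_pow, eq_comm, ← sub_eq_zero, ← map_sub,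
      residue_eq_zero_iff, ValuationSubring.valuation_lt_one_iff] at h1
    exact h1
  have hg0 : aeval (res t ht) g = 0 := by
    have h1 : res t ht ^ p = res a ha := by
      rw [res, ← map_pow]
      exact (res_eq_iff (pow_mem ht p) ha).2 hta
    simp only [g, map_sub, map_pow, aeval_X, aeval_C, h1]
    exact sub_self _
  have hmin : (minpoly (ResidueField V) (res t ht)).natDegree = p := by
    rw [← minpoly.eq_of_irreducible_of_monic hgi hg0 (monic_X_pow_sub_C _ hp.ne_zero), natDegree_X_pow_sub_C]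
  have hli := linearIndependent_pow (K := ResidueField V) (res t ht)
  rw [hmin] at hli
  have hne : ¬ W.valuation (∑ j, ((c j / c i : F) : Ω) * t ^ (j : ℕ)) < 1 := by
    intro hlt
    let S : W := ∑ j, ι (d j) * ⟨t, ht⟩ ^ (j : ℕ)
    have hS : (S : Ω) = ∑ j, ((c j / c i : F) : Ω) * t ^ (j : ℕ) := by
      simp only [S]; push_cast; rfl
    have h0 : residue W S = 0 := by
      rw [residue_eq_zero_iff, ValuationSubring.valuation_lt_one_iff, hS]; exact hlt
    have h1 : ∑ j, residue V (d j) • res t ht ^ (j : ℕ) = 0 := by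
      rw [← h0]
      simp only [S, map_sum, map_mul, map_pow]
      rfl
    have h2 := Fintype.linearIndependent_iff.1 hli (fun j => residue V (d j)) h1 i
    rw [show d i = 1 from Subtype.ext (div_self fun h => hci (by rw [h]; rfl)), map_one] at h2
    exact one_ne_zero h2
  have hmem : ∑ j, ((c j / c i : F) : Ω) * t ^ (j : ℕ) ∈ W := sum_mem fun j _ => mul_mem (hd j) (pow_mem ht _)
  have heq : W.valuation (∑ j, ((c j / c i : F) : Ω) * t ^ (j : ℕ)) = 1 :=
    le_antisymm ((W.valuation_le_one_iff _).2 hmem) (not_lt.1 hne)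
  have hx' : ∑ j, (c j : Ω) * t ^ (j : ℕ) = (c i : Ω) * ∑ j, ((c j / c i : F) : Ω) * t ^ (j : ℕ) := by
    rw [Finset.mul_sum]
    refine Finset.sum_congr rfl fun j _ => ?_
    push_cast
    field_simp
  rw [hx', map_mul, heq, mul_one]

section Setting

variable {A B K L : Type u} [CommRing A] [IsDomain A] [IsDiscreteValuationRing A] [CommRing B] [IsDomain B]
  [IsDiscreteValuationRing B] [IsAdicComplete (maximalIdeal A) A] [IsAlgClosed (ResidueField A)]
  [Field K] [Field L] [Algebra A K] [IsFractionRing A K] [Algebra B L] [IsFractionRing B L]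
  [Algebra K Ω] [Algebra L Ω] [Algebra A Ω] [Algebra B Ω] [IsScalarTower A K Ω] [IsScalarTower B L Ω]

omit [IsDiscreteValuationRing B] [IsDomain B] [IsFractionRing B L] [IsScalarTower B L Ω] in
/-- Base change of a value group equality along a finite extension of the base. -/
theorem exists_baseChange (hA : EtRam.Dominates A (algebraMap A Ω) W) (K₁ K₂ : IntermediateField K Ω)
    [FiniteDimensional K K₁] [FiniteDimensional K K₂] (h12 : K₁ ≤ K₂) (F : IntermediateField L Ω)
    [FiniteDimensional L F] [Algebra.IsAlgebraic L Ω] (hsub : (K₁ : Set Ω) ⊆ F) (hvg : VG W (K₁ : Set Ω) (F : Set Ω)) :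
    ∃ F₂ : IntermediateField L Ω, FiniteDimensional L F₂ ∧ F ≤ F₂ ∧ (K₂ : Set Ω) ⊆ F₂ ∧
      VG W (K₂ : Set Ω) (F₂ : Set Ω) ∧
      ∀ x ∈ F₂, x ∈ W → ∃ a ∈ F, a ∈ W ∧ W.valuation (x - a) < 1 := by
  classical
  let V₁ : ValuationSubring K₁ := W.comap (algebraMap K₁ Ω)
  let V₂ : ValuationSubring K₂ := W.comap (algebraMap K₂ Ω)
  letI : Algebra A K₁ := ((algebraMap K K₁).comp (algebraMap A K)).toAlgebra
  letI : Algebra A K₂ := ((algebraMap K K₂).comp (algebraMap A K)).toAlgebra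
  haveI : IsScalarTower A K K₁ := IsScalarTower.of_algebraMap_eq fun _ => rfl
  haveI : IsScalarTower A K K₂ := IsScalarTower.of_algebraMap_eq fun _ => rfl
  have hA' : EtRam.Dominates A ((algebraMap K Ω).comp (algebraMap A K)) W := IsScalarTower.algebraMap_eq A K Ω ▸ hA
  have hV₁ : EtRam.Dominates A (algebraMap A K₁) V₁ := EtRamH7.dominates_comap _ hA'
  have hV₂ : EtRam.Dominates A (algebraMap A K₂) V₂ := EtRamH7.dominates_comap _ hA'
  haveI := EtRamH7.dvr_of_dominates A K K₁ (algebraMap A K₁) rfl V₁ hV₁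
  haveI := EtRamH7.dvr_of_dominates A K K₂ (algebraMap A K₂) rfl V₂ hV₂
  haveI : IsAdicComplete (maximalIdeal V₁) V₁ := (henselian_valuation A K K₁ V₁ hV₁).2
  letI : Algebra K₁ K₂ := (IntermediateField.inclusion h12).toRingHom.toAlgebra
  letI : Algebra V₁ V₂ := (RingHom.codRestrict ((algebraMap K₁ K₂).comp V₁.subtype) V₂ fun v => v.2).toAlgebra
  have hlocal : ∀ v : V₁, v ∈ maximalIdeal V₁ → algebraMap V₁ V₂ v ∈ maximalIdeal V₂ := by
    intro v hv
    rw [mem_maximalIdeal] at hv ⊢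
    intro hu
    apply hv
    obtain ⟨w, hw⟩ := hu.exists_right_inv
    have hw' : ((v : K₁) : Ω) * ((w : K₂) : Ω) = 1 := congrArg (fun z : V₂ => ((z : K₂) : Ω)) hw
    have hinv : (v : K₁)⁻¹ ∈ V₁ := by
      show algebraMap K₁ Ω _ ∈ W
      rw [map_inv₀, show (algebraMap K₁ Ω) (v : K₁) = ((v : K₁) : Ω) from rfl, ← eq_inv_of_mul_eq_one_right hw']
      exact w.2
    exact IsUnit.of_mul_eq_one ⟨_, hinv⟩ (Subtype.ext (mul_inv_cancel₀ fun h0 => by
      rw [h0] at hw'; simp at hw'))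
  -- residues of `V₂` come from `A`
  letI : Algebra A V₂ := (RingHom.codRestrict (algebraMap A K₂) V₂ hV₂.1).toAlgebra
  haveI : IsLocalHom (algebraMap A V₂) := EtRamH7.isLocalHom_cod hV₂
  haveI : IsScalarTower A V₂ K₂ := IsScalarTower.of_algebraMap_eq fun _ => rfl
  haveI : Module.Finite (ResidueField A) (ResidueField V₂) :=
    (Groth.Agent.S7132.result A V₂ K K₂ (EtRamH7.injective_cod A K K₂ _ rfl V₂ hV₂.1)).1
  have hres : ∀ v : V₂, ∃ a : A, v - algebraMap A V₂ a ∈ maximalIdeal V₂ := by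
    intro v
    obtain ⟨c, hc⟩ := (IsAlgClosed.algebraMap_bijective_of_isIntegral (k := ResidueField A) (K := ResidueField V₂)).2
      (residue V₂ v)
    obtain ⟨a, rfl⟩ := residue_surjective c
    refine ⟨a, ?_⟩
    rw [← residue_eq_zero_iff, map_sub, ← hc]
    exact sub_self _
  obtain ⟨ϖ, hϖ⟩ := IsDiscreteValuationRing.exists_irreducible V₂
  obtain ⟨π₁, hπ₁⟩ := IsDiscreteValuationRing.exists_irreducible V₁
  have hπ₁0 : algebraMap V₁ V₂ π₁ ≠ 0 := fun h0 => hπ₁.ne_zero (Subtype.ext (Subtype.ext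
    (congrArg (fun z : V₂ => ((z : K₂) : Ω)) h0)))
  obtain ⟨e, u, hu⟩ := IsDiscreteValuationRing.eq_unit_mul_pow_irreducible hπ₁0 hϖ
  have hπ₁m := hlocal π₁ ((mem_maximalIdeal _).2 hπ₁.not_isUnit)
  have he0 : 0 < e := Nat.pos_of_ne_zero fun h0 => by
    rw [hu, h0, pow_zero, mul_one, mem_maximalIdeal] at hπ₁m
    exact hπ₁m u.isUnit
  haveI : IsHausdorff (maximalIdeal V₁) V₂ := ⟨fun y hy => by
    refine IsHausdorff.haus' (I := maximalIdeal V₂) y fun n => SModEq.zero.2 ?_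
    rw [smul_eq_mul, Ideal.mul_top]
    have h1 := SModEq.zero.1 (hy n)
    rw [Ideal.smul_top_eq_map, Ideal.map_pow] at h1
    exact Ideal.pow_right_mono (Ideal.map_le_iff_le_comap.2 hlocal) n h1⟩
  have step : ∀ k : ℕ, k ≤ e → ∀ x : V₂, ∃ (c : Fin e → V₁) (y : V₂),
      x = (∑ i, c i • ϖ ^ (i : ℕ)) + ϖ ^ k * y := by
    intro k
    induction k with
    | zero => exact fun _ x => ⟨0, x, by simp⟩
    | succ k ih =>
      intro hk x
      obtain ⟨c, y, rfl⟩ := ih (by omega) x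
      obtain ⟨a, ha⟩ := hres y
      rw [hϖ.maximalIdeal_eq, Ideal.mem_span_singleton] at ha
      obtain ⟨y', hy'⟩ := ha
      let a₁ : V₁ := ⟨algebraMap A K₁ a, hV₁.1 a⟩
      have ha₁ : algebraMap V₁ V₂ a₁ = algebraMap A V₂ a := Subtype.ext (Subtype.ext rfl)
      refine ⟨fun i => c i + if (i : ℕ) = k then a₁ else 0, y', ?_⟩
      simp only [add_smul, Finset.sum_add_distrib]
      have hsingle : ∑ i : Fin e, (if (i : ℕ) = k then a₁ else 0) • ϖ ^ (i : ℕ) = ϖ ^ k * algebraMap A V₂ a := by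
        rw [Finset.sum_eq_single (⟨k, by omega⟩ : Fin e) (fun j _ hj => by
          rw [if_neg fun h => hj (Fin.ext h), zero_smul]) (fun h => absurd (Finset.mem_univ _) h), if_pos rfl, Algebra.smul_def a₁, ha₁, mul_comm]
      rw [sub_eq_iff_eq_add'.1 hy', mul_add, ← add_assoc, ← mul_assoc, ← pow_succ, hsingle]
  have hspanV : ∀ v : V₂, v ∈ Submodule.span V₁ (Set.range fun i : ULift.{u} (Fin e) => ϖ ^ (i.down : ℕ)) := by
    refine finite_of_span_add_pi π₁ ((mem_maximalIdeal _).2 hπ₁.not_isUnit) _ fun x => ?_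
    obtain ⟨c, z, hz⟩ := step e le_rfl x
    refine ⟨fun i => c i.down, ↑u⁻¹ * z, hz.trans ?_⟩
    rw [Algebra.smul_def π₁, hu]
    congr 1
    · exact (Fintype.sum_equiv Equiv.ulift _ _ fun i => rfl).symm
    · rw [mul_comm (u : V₂), mul_assoc, ← mul_assoc (u : V₂), Units.mul_inv, one_mul]
  -- `K₂` is spanned by powers of the uniformizer
  set y : Ω := ((ϖ : K₂) : Ω) with hy
  have hKspan : ∀ x ∈ K₂, x ∈ Submodule.span F (Set.range fun i : Fin e => y ^ (i : ℕ)) := by
    intro x hx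
    have hπne : (((π₁ : V₁) : K₁) : Ω) ≠ 0 := fun h0 => hπ₁.ne_zero (Subtype.ext (Subtype.ext h0))
    obtain ⟨n, v, hv⟩ : ∃ (n : ℕ) (v : V₂), x * (((π₁ : V₁) : K₁) : Ω) ^ n = ((v : K₂) : Ω) := by
      rcases V₂.mem_or_inv_mem ⟨x, hx⟩ with h | h
      · exact ⟨0, ⟨_, h⟩, by rw [pow_zero, mul_one]⟩
      by_cases hx0 : x = 0
      · exact ⟨0, 0, by rw [hx0, zero_mul]; rfl⟩
      obtain ⟨m, w, hw⟩ := IsDiscreteValuationRing.eq_unit_mul_pow_irreducible
        (x := (⟨_, h⟩ : V₂)) (fun h0 => hx0 (inv_eq_zero.1 (congrArg (fun z : V₂ => ((z : K₂) : Ω)) h0))) hϖ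
      refine ⟨m, ↑w⁻¹ * (↑u ^ m * ϖ ^ (e * m - m)), ?_⟩
      have h1 : x⁻¹ = (((w : V₂) : K₂) : Ω) * y ^ m := congrArg (fun z : V₂ => ((z : K₂) : Ω)) hw
      have h2 : (((π₁ : V₁) : K₁) : Ω) = (((u : V₂) : K₂) : Ω) * y ^ e := congrArg (fun z : V₂ => ((z : K₂) : Ω)) hu
      have h3 : (((w : V₂) : K₂) : Ω) * ((((w⁻¹ : V₂ˣ) : V₂) : K₂) : Ω) = 1 :=
        congrArg (fun z : V₂ => ((z : K₂) : Ω)) w.mul_inv
      obtain ⟨j, hj⟩ := Nat.exists_eq_add_of_le (Nat.le_mul_of_pos_left m he0)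
      rw [h2, mul_pow, ← pow_mul, hj, Nat.add_sub_cancel_left, pow_add]
      have h4 : x = ((((w⁻¹ : V₂ˣ) : V₂) : K₂) : Ω) * (y ^ m)⁻¹ := by
        rw [← inv_inv x, h1, mul_inv, eq_inv_of_mul_eq_one_right h3]
      have hy0 : y ≠ 0 := fun h0 => hϖ.ne_zero (Subtype.ext (Subtype.ext h0))
      push_cast
      rw [h4]
      field_simp
      ring
    have hvspan : ∀ v' : V₂, ((v' : K₂) : Ω) ∈ Submodule.span F (Set.range fun i : Fin e => y ^ (i : ℕ)) := fun v' => by
      clear hv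
      induction hspanV v' using Submodule.span_induction with
      | mem z hz =>
        obtain ⟨i, rfl⟩ := hz
        exact Submodule.subset_span ⟨i.down, by push_cast; rfl⟩
      | zero => simp
      | add a b _ _ ha hb => push_cast; exact add_mem ha hb
      | smul c z _ hz =>
        rw [Algebra.smul_def]
        push_cast
        exact Submodule.smul_mem _ (⟨((c : K₁) : Ω), hsub (c : K₁).2⟩ : F) hz
    have hxeq : x = ((((π₁ : V₁) : K₁) : Ω) ^ n)⁻¹ * ((v : K₂) : Ω) := by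
      rw [← hv, mul_comm x, ← mul_assoc, inv_mul_cancel₀ (pow_ne_zero _ hπne), one_mul]
    rw [hxeq]
    exact Submodule.smul_mem _ (⟨_, F.inv_mem (pow_mem (hsub ((π₁ : V₁) : K₁).2) n)⟩ : F) (hvspan v)
  let G : IntermediateField F Ω := IntermediateField.adjoin F (K₂ : Set Ω)
  haveI : Algebra.IsAlgebraic F Ω := Algebra.IsAlgebraic.tower_top (K := L) F
  have hG : ∀ x ∈ G, x ∈ Submodule.span F (Set.range fun i : Fin e => y ^ (i : ℕ)) := by
    intro x hx
    rw [← IntermediateField.mem_toSubalgebra,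
      IntermediateField.adjoin_toSubalgebra_of_isAlgebraic (fun z _ => Algebra.IsAlgebraic.isAlgebraic z),
      ← Subalgebra.mem_toSubmodule, Algebra.adjoin_eq_span] at hx
    refine Submodule.span_le.2 ?_ hx
    intro z hz
    exact hKspan z ((Submonoid.closure_le (S := K₂.toSubalgebra.toSubmonoid)).2 (fun w hw => hw) hz)
  haveI : FiniteDimensional F G := by
    have : Module.Finite F (Submodule.span F (Set.range fun i : Fin e => y ^ (i : ℕ))) :=
      Module.Finite.span_of_finite F (Set.finite_range _)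
    exact Submodule.finiteDimensional_of_le (S₁ := G.toSubalgebra.toSubmodule) fun z hz => hG z hz
  haveI : FiniteDimensional L G := FiniteDimensional.trans L F G
  let F₂ : IntermediateField L Ω := G.restrictScalars L
  have hy0 : y ≠ 0 := fun h0 => hϖ.ne_zero (Subtype.ext (Subtype.ext h0))
  have hyW : y ∈ W := ϖ.2
  have hy1 : W.valuation y < 1 := by
    have h : ¬ IsUnit (⟨y, hyW⟩ : W) := by
      intro hu'
      obtain ⟨w, hw⟩ := hu'.exists_right_inv
      have hw' : y * (w : Ω) = 1 := congrArg Subtype.val hw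
      refine hϖ.not_isUnit (IsUnit.of_mul_eq_one ⟨(ϖ : K₂)⁻¹, ?_⟩ (Subtype.ext (mul_inv_cancel₀ fun h0 => hy0 (by rw [hy, h0]; rfl))))
      show algebraMap K₂ Ω _ ∈ W
      rw [map_inv₀, show algebraMap K₂ Ω (ϖ : K₂) = y from rfl, ← eq_inv_of_mul_eq_one_right hw']
      exact w.2
    exact (W.valuation_lt_one_iff ⟨y, hyW⟩).1 ((mem_maximalIdeal _).2 h)
  have huv : W.valuation (((u : V₂) : K₂) : Ω) = 1 :=
    (W.valuation_eq_one_iff (EtRam.inclOfComap W (algebraMap K₂ Ω) (u : V₂))).1 (u.isUnit.map _)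
  have hπv : W.valuation (((π₁ : V₁) : K₁) : Ω) = W.valuation y ^ e := by
    have h2 : (((π₁ : V₁) : K₁) : Ω) = (((u : V₂) : K₂) : Ω) * y ^ e := congrArg (fun z : V₂ => ((z : K₂) : Ω)) hu
    rw [h2, map_mul, huv, one_mul, map_pow]
  have hvy0 : W.valuation y ≠ 0 := (_root_.map_ne_zero _).2 hy0
  have hinj : Function.Injective fun n : ℕ => W.valuation y ^ n :=
    (pow_right_strictAnti₀ (pos_iff_ne_zero.2 hvy0) hy1).injective
  have hdist : ∀ (a b : F) (i j : Fin e), i ≠ j → (a : Ω) ≠ 0 →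
      W.valuation ((a : Ω) * y ^ (i : ℕ)) ≠ W.valuation ((b : Ω) * y ^ (j : ℕ)) := by
    suffices h : ∀ (a b : F) (i j : Fin e), (i : ℕ) < j → (a : Ω) ≠ 0 →
        W.valuation ((a : Ω) * y ^ (i : ℕ)) ≠ W.valuation ((b : Ω) * y ^ (j : ℕ)) by
      intro a b i j hij ha heq
      rcases lt_or_gt_of_ne (fun he => hij (Fin.ext he)) with hl | hl
      · exact h a b i j hl ha heq
      · refine h b a j i hl (fun hb => ha ?_) heq.symm
        rw [hb, zero_mul, map_zero, map_eq_zero, mul_eq_zero] at heq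
        exact heq.resolve_right (pow_ne_zero _ hy0)
    intro a b i j hij ha heq
    obtain ⟨l, hl⟩ := Nat.exists_eq_add_of_lt hij
    have hb : (b : Ω) ≠ 0 := fun hb => by
      rw [hb, zero_mul, map_zero, map_eq_zero, mul_eq_zero] at heq
      exact heq.elim ha (pow_ne_zero _ hy0)
    have hcv : W.valuation ((a / b : F) : Ω) = W.valuation y ^ (l + 1) := by
      rw [hl, map_mul, map_mul, map_pow, map_pow, show (i : ℕ) + l + 1 = (i : ℕ) + (l + 1) by ring, pow_add,
        ← mul_assoc, mul_right_comm _ (W.valuation y ^ (i : ℕ))] at heq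
      have h1 := mul_right_cancel₀ (pow_ne_zero _ hvy0) heq
      push_cast
      rw [map_div₀, h1, mul_div_cancel_left₀ _ ((_root_.map_ne_zero _).2 hb)]
    obtain ⟨c, hc, hce⟩ := hvg _ (a / b : F).2 (by push_cast; exact div_ne_zero ha hb)
    rw [hcv] at hce
    have hcV : (⟨c, hc⟩ : K₁) ∈ V₁ := by
      show c ∈ W
      rw [← ValuationSubring.valuation_le_one_iff, ← hce]
      exact (pow_lt_one₀ zero_le hy1 l.succ_ne_zero).le
    obtain ⟨m, w, hw⟩ := IsDiscreteValuationRing.eq_unit_mul_pow_irreducible (x := (⟨_, hcV⟩ : V₁))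
      (fun h0 => pow_ne_zero (l + 1) hvy0 (by
        rw [hce, show c = 0 from congrArg (fun z : V₁ => ((z : K₁) : Ω)) h0, map_zero])) hπ₁
    have hwv : W.valuation (((w : V₁) : K₁) : Ω) = 1 :=
      (W.valuation_eq_one_iff (EtRam.inclOfComap W (algebraMap K₁ Ω) (w : V₁))).1 (w.isUnit.map _)
    have hcm : c = (((w : V₁) : K₁) : Ω) * (((π₁ : V₁) : K₁) : Ω) ^ m := congrArg (fun z : V₁ => ((z : K₁) : Ω)) hw
    rw [hcm, map_mul, map_pow, hwv, one_mul, hπv, ← pow_mul] at hce
    have h3 : l + 1 = e * m := hinj hce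
    have hj := j.2
    rcases Nat.eq_zero_or_pos m with hm | hm
    · rw [hm, mul_zero] at h3; omega
    · have := Nat.le_mul_of_pos_right e hm
      omega
  have hrepr : ∀ x ∈ G, ∃ a : Fin e → F, x = ∑ i, (a i : Ω) * y ^ (i : ℕ) := fun x hx => by
    obtain ⟨a, ha⟩ := (Submodule.mem_span_range_iff_exists_fun F).1 (hG x hx)
    exact ⟨a, ha.symm.trans (Finset.sum_congr rfl fun i _ => Algebra.smul_def _ _)⟩
  refine ⟨F₂, inferInstanceAs (FiniteDimensional L G), fun z hz => G.algebraMap_mem ⟨z, hz⟩,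
    fun z hz => IntermediateField.subset_adjoin F _ hz, fun x hx hx0 => ?_, fun x hx hxW => ?_⟩
  · obtain ⟨a, rfl⟩ := hrepr x hx
    obtain ⟨i, -, hi0, -, hv⟩ := exists_max_term Finset.univ _ hx0 fun i _ j _ hij h0 =>
      hdist (a i) (a j) i j hij (left_ne_zero_of_mul h0)
    obtain ⟨c, hc, hce⟩ := hvg _ (a i).2 (left_ne_zero_of_mul hi0)
    refine ⟨c * y ^ (i : ℕ), K₂.mul_mem (h12 hc) (pow_mem (ϖ : K₂).2 _), ?_⟩
    rw [hv, map_mul, map_mul, hce]
  · obtain ⟨a, rfl⟩ := hrepr x hx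
    let i₀ : Fin e := ⟨0, he0⟩
    by_cases hx0 : ∑ i, (a i : Ω) * y ^ (i : ℕ) = 0
    · exact ⟨0, F.zero_mem, W.zero_mem, by rw [hx0, sub_zero, map_zero]; exact zero_lt_one⟩
    obtain ⟨i, -, hi0, hlt, hv⟩ := exists_max_term Finset.univ _ hx0 fun i _ j _ hij h0 =>
      hdist (a i) (a j) i j hij (left_ne_zero_of_mul h0)
    have hle : ∀ j, W.valuation ((a j : Ω) * y ^ (j : ℕ)) ≤ 1 := fun j => by
      have h1 : W.valuation ((a i : Ω) * y ^ (i : ℕ)) ≤ 1 := hv ▸ (W.valuation_le_one_iff _).2 hxW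
      rcases eq_or_ne j i with rfl | hji
      · exact h1
      · exact (hlt j (Finset.mem_univ j) hji).le.trans h1
    have hlt1 : ∀ j, j ≠ i₀ → W.valuation ((a j : Ω) * y ^ (j : ℕ)) < 1 := fun j hj => by
      refine lt_of_le_of_ne (hle j) fun h1 => ?_
      have := hdist 1 (a j) i₀ j (Ne.symm hj) one_ne_zero
      apply this
      rw [h1]
      simp [i₀]
    have ha0 : (a i₀ : Ω) ∈ W := by
      rw [← ValuationSubring.valuation_le_one_iff]
      simpa [i₀] using hle i₀
    refine ⟨a i₀, (a i₀).2, ha0, ?_⟩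
    rw [← Finset.add_sum_erase Finset.univ _ (Finset.mem_univ i₀), show (a i₀ : Ω) * y ^ ((i₀ : Fin e) : ℕ) = a i₀ by
      simp [i₀], add_sub_cancel_left]
    exact W.valuation.map_sum_lt one_ne_zero fun j hj => hlt1 j (Finset.ne_of_mem_erase hj)

end Setting

end Groth.Agent.EppASH7
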