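import Groth.Agent.Lib.EppASH7.Approx
import Mathlib.FieldTheory.Normal.Basic
import Mathlib.FieldTheory.Fixed
import Groth.Agent.Lib.EppASH7.Value
import Groth.Agent.Lib.IntClosFin.Insep
import Mathlib.FieldTheory.PurelyInseparable.Exponent
import Mathlib.FieldTheory.PurelyInseparable.Tower
import Mathlib.FieldTheory.Galois.Basic
import Mathlib.RingTheory.Ideal.Prod
import Mathlib.RingTheory.IntegralClosure.IntegrallyClosed

/-!
# Conjugate valuations in finite normal extensions
-/

set_option autoImplicit false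
set_option linter.style.haveILetI false
set_option linter.unusedSectionVars false

universe u

open Polynomial

namespace Groth.Agent.EppASH7

variable (F : Type u) {M : Type u} [Field F] [Field M] [Algebra F M] [FiniteDimensional F M] [Normal F M]
  (W : ValuationSubring M)

/-- The elements all of whose conjugates are in `W`. -/
def intRing : Subring M where
  carrier := {y | ∀ σ : M ≃ₐ[F] M, σ y ∈ W}
  zero_mem' := fun σ => by rw [map_zero]; exact W.zero_mem
  one_mem' := fun σ => by rw [map_one]; exact W.one_mem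
  add_mem' := fun ha hb σ => by rw [map_add]; exact W.add_mem _ _ (ha σ) (hb σ)
  mul_mem' := fun ha hb σ => by rw [map_mul]; exact W.mul_mem _ _ (ha σ) (hb σ)
  neg_mem' := fun ha σ => by rw [map_neg]; exact W.neg_mem _ (ha σ)

variable {F W}

theorem mem_intRing {y : M} : y ∈ intRing F W ↔ ∀ σ : M ≃ₐ[F] M, σ y ∈ W := Iff.rfl

theorem mem_of_mem_intRing {y : M} (hy : y ∈ intRing F W) : y ∈ W := hy AlgEquiv.refl

theorem exists_monic_of_mem_intRing {y : M} (hy : y ∈ intRing F W) :
    ∃ P : F[X], P.Monic ∧ (∀ i, algebraMap F M (P.coeff i) ∈ W) ∧ aeval y P = 0 := by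
  classical
  have hint : IsIntegral F y := IsIntegral.of_finite F y
  refine ⟨minpoly F y, minpoly.monic hint, fun i => ?_, minpoly.aeval F y⟩
  have hroots : ∀ z ∈ ((minpoly F y).map (algebraMap F M)).roots, z ∈ W := by
    intro z hz
    obtain ⟨σ, hσ⟩ := (Normal.minpoly_eq_iff_mem_orbit (F := F) (E := M) (x := z) (y := y)).1 (by
      refine (minpoly.eq_of_irreducible_of_monic (minpoly.irreducible hint) ?_ (minpoly.monic hint)).symm
      rw [aeval_def, ← eval_map]
      exact (mem_roots'.1 hz).2)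
    exact hσ ▸ hy σ
  rw [← coeff_map, (Normal.splits (F := F) inferInstance y).eq_prod_roots_of_monic ((minpoly.monic hint).map _)]
  let T : Subring M := W.toSubring
  let zs : Multiset T := ((minpoly F y).map (algebraMap F M)).roots.attach.map fun z => ⟨z.1, hroots z.1 z.2⟩
  have hmap : (((zs.map fun z => X - Polynomial.C z).prod).map T.subtype) =
      ((((minpoly F y).map (algebraMap F M)).roots).map fun z => X - Polynomial.C z).prod := by
    rw [Polynomial.map_multiset_prod, Multiset.map_map, Multiset.map_map]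
    conv_rhs => rw [← Multiset.attach_map_val ((minpoly F y).map (algebraMap F M)).roots, Multiset.map_map]
    congr 1
    refine Multiset.map_congr rfl fun z _ => ?_
    simp
  rw [← hmap, coeff_map]
  exact (((zs.map fun z => X - Polynomial.C z).prod).coeff i).2

omit [FiniteDimensional F M] [Normal F M] in
theorem mem_of_monic {P : F[X]} (hP : P.Monic) (hc : ∀ i, algebraMap F M (P.coeff i) ∈ W) {y : M}
    (hy : aeval y P = 0) : y ∈ W :=
  (W.valuation_le_one_iff y).1 (valuation_root_le (hP.map (algebraMap F M))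
    (fun i => by rw [coeff_map]; exact (W.valuation_le_one_iff _).2 (hc i)) (by rwa [eval_map, ← aeval_def]))

omit [FiniteDimensional F M] [Normal F M] in
theorem mem_intRing_of_monic {P : F[X]} (hP : P.Monic) (hc : ∀ i, algebraMap F M (P.coeff i) ∈ W) {y : M}
    (hy : aeval y P = 0) : y ∈ intRing F W := fun σ =>
  mem_of_monic hP hc (by rw [aeval_algEquiv, AlgHom.comp_apply, hy, map_zero])

/-- A valuation subring is generated by its global integers with a denominator which is a unit. -/
theorem exists_den {z : M} (hz : z ∈ W) :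
    ∃ b ∈ intRing F W, z * b ∈ intRing F W ∧ W.valuation b = 1 := by
  classical
  set P := minpoly F z with hP
  have hm : P.Monic := minpoly.monic (IsIntegral.of_finite F z)
  set n := P.natDegree with hn
  let w : ℕ → W.ValueGroup := fun i => W.valuation (algebraMap F M (P.coeff i))
  obtain ⟨i₀, hi₀, hmax⟩ := (Finset.range (n + 1)).exists_max_image w ⟨0, Finset.mem_range.2 n.succ_pos⟩
  have hwn : w n = 1 := by simp only [w, hn, hm.coeff_natDegree, map_one]
  have hw0 : w i₀ ≠ 0 := fun h0 => by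
    have h1 := hmax n (Finset.mem_range.2 n.lt_succ_self)
    rw [hwn, h0, le_zero_iff] at h1
    exact one_ne_zero h1
  have hc0 : algebraMap F M (P.coeff i₀) ≠ 0 := fun h0 => hw0 (by simp only [w, h0, map_zero])
  let c : ℕ → F := fun i => P.coeff i / P.coeff i₀
  have hc1 : ∀ i ∈ Finset.range (n + 1), W.valuation (algebraMap F M (c i)) ≤ 1 := fun i hi => by
    simp only [c, map_div₀]
    exact div_le_one_of_le₀ (hmax i hi) zero_le
  let K := (Finset.range (n + 1)).filter fun i => W.valuation (algebraMap F M (c i)) = 1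
  have hK : K.Nonempty := ⟨i₀, Finset.mem_filter.2 ⟨hi₀, by simp only [c, map_div₀]; exact div_self hw0⟩⟩
  set k := K.max' hK with hk
  obtain ⟨hkn, hck⟩ := Finset.mem_filter.1 (K.max'_mem hK)
  have hzc : ∑ i ∈ Finset.range (n + 1), algebraMap F M (c i) * z ^ i = 0 := by
    have h1 := minpoly.aeval F z
    rw [← hP, aeval_eq_sum_range] at h1
    simp only [c, div_eq_mul_inv, map_mul]
    simp only [Algebra.smul_def] at h1
    rw [← hn] at h1
    rw [Finset.sum_congr rfl fun i _ => mul_right_comm _ _ _, ← Finset.sum_mul, h1, zero_mul]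
  let s : M := ∑ i ∈ Finset.Ico k (n + 1), algebraMap F M (c i) * z ^ (i - k)
  have hk1 : k ≤ n := Nat.lt_succ_iff.1 (Finset.mem_range.1 hkn)
  have hsplit : z ^ k * s + ∑ i ∈ Finset.range k, algebraMap F M (c i) * z ^ i = 0 := by
    rw [← hzc, add_comm, ← Finset.sum_range_add_sum_Ico _ (hk1.trans n.le_succ), Finset.mul_sum]
    congr 1
    refine Finset.sum_congr rfl fun i hi => ?_
    rw [mul_left_comm, ← pow_add, Nat.add_sub_cancel' (Finset.mem_Ico.1 hi).1]
  have hz1 : W.valuation z ≤ 1 := (W.valuation_le_one_iff z).2 hz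
  have hs : W.valuation s = 1 := by
    simp only [s]
    rw [Finset.sum_eq_sum_Ico_succ_bot (Nat.lt_succ_of_le hk1), Nat.sub_self, pow_zero, mul_one]
    rw [W.valuation.map_add_eq_of_lt_left]
    · exact hck
    · rw [hck]
      refine W.valuation.map_sum_lt one_ne_zero fun i hi => ?_
      obtain ⟨h1, h2⟩ := Finset.mem_Ico.1 hi
      rw [map_mul, map_pow]
      refine (mul_le_of_le_one_right' (pow_le_one' hz1 _)).trans_lt
        (lt_of_le_of_ne (hc1 i (Finset.mem_range.2 h2)) fun he => ?_)
      have := K.le_max' i (Finset.mem_filter.2 ⟨Finset.mem_range.2 h2, he⟩)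
      rw [← hk] at this
      exact absurd this (not_le.2 (Nat.lt_of_succ_le h1))
  have hkpos : k ≠ 0 := by
    intro h0
    rw [h0, pow_zero, one_mul, Finset.range_zero, Finset.sum_empty, add_zero] at hsplit
    rw [hsplit, map_zero] at hs
    exact zero_ne_one hs
  have hcW : ∀ i ∈ Finset.range (n + 1), ∀ σ : M ≃ₐ[F] M, σ (algebraMap F M (c i)) ∈ W := fun i hi σ => by
    rw [σ.commutes]; exact (W.valuation_le_one_iff _).1 (hc1 i hi)
  have hboth : ∀ σ : M ≃ₐ[F] M, σ s ∈ W ∧ σ (z * s) ∈ W := by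
    intro σ
    rcases W.mem_or_inv_mem (σ z) with h | h
    · have h1 : σ s ∈ W := by
        simp only [s, map_sum, map_mul, map_pow]
        exact sum_mem fun i hi => mul_mem (hcW i (Finset.mem_range.2 (Finset.mem_Ico.1 hi).2) σ) (pow_mem h _)
      exact ⟨h1, by rw [map_mul]; exact mul_mem h h1⟩
    rcases eq_or_ne (σ z) 0 with h0 | h0
    · have h1 : σ s ∈ W := by
        simp only [s, map_sum, map_mul, map_pow]
        exact sum_mem fun i hi => mul_mem (hcW i (Finset.mem_range.2 (Finset.mem_Ico.1 hi).2) σ)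
          (pow_mem (h0 ▸ W.zero_mem) _)
      exact ⟨h1, by rw [map_mul, h0, zero_mul]; exact W.zero_mem⟩
    have h2 := congrArg σ hsplit
    simp only [map_add, map_mul, map_pow, map_sum, map_zero] at h2
    have key : σ z * σ s = -∑ i ∈ Finset.range k, σ (algebraMap F M (c i)) * (σ z)⁻¹ ^ (k - 1 - i) := by
      refine mul_left_cancel₀ (pow_ne_zero (k - 1) h0) ?_
      rw [← mul_assoc, ← pow_succ, Nat.sub_add_cancel (Nat.pos_of_ne_zero hkpos), eq_neg_of_add_eq_zero_left h2,
        mul_neg, Finset.mul_sum]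
      congr 1
      refine Finset.sum_congr rfl fun i hi => ?_
      have hi' := Finset.mem_range.1 hi
      rw [mul_left_comm, inv_pow, ← div_eq_mul_inv, div_eq_mul_inv]
      congr 1
      rw [show k - 1 = i + (k - 1 - i) by omega, pow_add]
      rw [show i + (k - 1 - i) - i = k - 1 - i by omega, mul_assoc, mul_inv_cancel₀ (pow_ne_zero _ h0), mul_one]
    have hzs : σ (z * s) ∈ W := by
      rw [map_mul, key]
      exact W.neg_mem _ (sum_mem fun i hi => mul_mem
        (hcW i (Finset.mem_range.2 ((Finset.mem_range.1 hi).trans_le (hk1.trans n.le_succ))) σ) (pow_mem h _))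
    refine ⟨?_, hzs⟩
    rw [show σ s = (σ z)⁻¹ * σ (z * s) by rw [map_mul, inv_mul_cancel_left₀ h0]]
    exact mul_mem h hzs
  exact ⟨s, fun σ => (hboth σ).1, fun σ => (hboth σ).2, hs⟩

omit [FiniteDimensional F M] [Normal F M] in
theorem conj_mem_intRing {y : M} (hy : y ∈ intRing F W) (σ : M ≃ₐ[F] M) : σ y ∈ intRing F W := fun τ => by
  have := hy (σ.trans τ)
  exact this

/-- If `σ` respects the centre on global integers then it respects the valuation subring. -/
theorem conj_mem_of_centre {σ : M ≃ₐ[F] M}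
    (h : ∀ b ∈ intRing F W, W.valuation b = 1 → W.valuation (σ b) = 1) {z : M} (hz : z ∈ W) : σ z ∈ W := by
  obtain ⟨b, hb, hzb, hb1⟩ := exists_den (F := F) hz
  have h1 := (W.valuation_le_one_iff _).2 (hzb σ)
  rw [map_mul, map_mul, h b hb hb1, mul_one] at h1
  exact (W.valuation_le_one_iff _).1 h1

/-- An element away from the other conjugates of the centre. -/
theorem exists_separating :
    ∃ e ∈ intRing F W, W.valuation e = 1 ∧
      ∀ σ : M ≃ₐ[F] M, W.valuation (σ e) < 1 ∨ ∀ z ∈ W, σ z ∈ W := by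
  classical
  have hfin : ∀ σ : M ≃ₐ[F] M, ∃ a ∈ intRing F W, W.valuation a = 1 ∧
      (W.valuation (σ a) < 1 ∨ ∀ z ∈ W, σ z ∈ W) := by
    intro σ
    by_cases h : ∀ z ∈ W, σ z ∈ W
    · exact ⟨1, one_mem _, map_one _, Or.inr h⟩
    obtain ⟨z, hz, hσz⟩ : ∃ z ∈ W, σ z ∉ W := by simpa using h
    obtain ⟨b, hb, hzb, hb1⟩ := exists_den (F := F) hz
    refine ⟨b, hb, hb1, Or.inl (lt_of_le_of_ne ((W.valuation_le_one_iff _).2 (hb σ)) fun h1 => hσz ?_)⟩
    have h2 := (W.valuation_le_one_iff _).2 (hzb σ)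
    rw [map_mul, map_mul, h1, mul_one] at h2
    exact (W.valuation_le_one_iff _).1 h2
  choose a ha ha1 haσ using hfin
  refine ⟨∏ σ, a σ, prod_mem fun σ _ => ha σ, by rw [map_prod, Finset.prod_eq_one fun σ _ => ha1 σ], fun σ => ?_⟩
  rcases haσ σ with h | h
  · left
    rw [map_prod, map_prod, ← Finset.mul_prod_erase _ _ (Finset.mem_univ σ)]
    exact (mul_le_of_le_one_right' (Finset.prod_le_one' fun τ _ =>
      (W.valuation_le_one_iff _).2 (ha τ σ))).trans_lt h
  · exact Or.inr h

/-- Values are torsion over the values of the base. -/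
theorem exists_pow_valuation_eq (y : M) (hy : y ≠ 0) :
    ∃ m : ℕ, 0 < m ∧ ∃ f : F, W.valuation (y ^ m) = W.valuation (algebraMap F M f) := by
  classical
  have hint : IsIntegral F y := IsIntegral.of_finite F y
  set P := minpoly F y
  by_contra hne
  push Not at hne
  set T : ℕ → M := fun i => algebraMap F M (P.coeff i) * y ^ i with hT
  have hsum : ∑ i ∈ Finset.range (P.natDegree + 1), T i = 0 := by
    have := minpoly.aeval F y
    rw [aeval_eq_sum_range] at this
    simpa [Algebra.smul_def, hT] using this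
  obtain ⟨i, hi, hmax⟩ := (Finset.range (P.natDegree + 1)).exists_max_image (fun i => W.valuation (T i))
    ⟨0, Finset.mem_range.2 P.natDegree.succ_pos⟩
  have htop : T P.natDegree ≠ 0 := by
    simp only [hT, (minpoly.monic hint).coeff_natDegree, map_one, one_mul, P]
    exact pow_ne_zero _ hy
  have hi0 : T i ≠ 0 := fun h0 => htop ((map_eq_zero W.valuation).1 (le_zero_iff.1 (by
    rw [← map_zero W.valuation, ← h0]; exact hmax _ (Finset.mem_range.2 P.natDegree.lt_succ_self))))
  obtain ⟨j, hj, hji, hle⟩ : ∃ j ∈ Finset.range (P.natDegree + 1), j ≠ i ∧ W.valuation (T i) ≤ W.valuation (T j) := by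
    by_contra h
    push Not at h
    have h1 := valuation_sum_lt (W := W) _ T i hi hi0 h
    rw [hsum, map_zero, eq_comm, map_eq_zero] at h1
    exact hi0 h1
  have heq : W.valuation (T i) = W.valuation (T j) := le_antisymm hle (hmax j hj)
  have key : ∀ a b, a < b → W.valuation (T a) = W.valuation (T b) → T a ≠ 0 → False := by
    intro a b hab he ha
    have hb : algebraMap F M (P.coeff b) ≠ 0 := fun h0 => ha ((map_eq_zero W.valuation).1 (by
      rw [he]; simp [hT, h0]))
    refine hne (b - a) (Nat.sub_pos_of_lt hab) (P.coeff a / P.coeff b) ?_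
    simp only [hT, map_mul, map_pow] at he
    rw [map_div₀, map_div₀, map_pow, eq_div_iff ((_root_.map_ne_zero _).2 hb)]
    refine mul_right_cancel₀ (pow_ne_zero a ((_root_.map_ne_zero W.valuation).2 hy)) ?_
    rw [he, mul_right_comm, ← pow_add, Nat.sub_add_cancel hab.le, mul_comm]
  rcases hji.lt_or_gt with h | h
  · exact key j i h heq.symm fun h0 => hi0 ((map_eq_zero W.valuation).1 (by rw [heq, h0, map_zero]))
  · exact key i j h heq hi0

/-- The valuation subrings above a given one are conjugate. -/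
theorem exists_algEquiv_comap_eq (W' : ValuationSubring M)
    (h : W'.comap (algebraMap F M) = W.comap (algebraMap F M)) :
    ∃ σ : M ≃ₐ[F] M, W.comap σ.toRingHom = W' := by
  classical
  haveI : Fintype (M ≃ₐ[F] M) := Fintype.ofFinite _
  let R := intRing F W
  have hcF : ∀ f : F, algebraMap F M f ∈ W' ↔ algebraMap F M f ∈ W := fun f =>
    (Iff.of_eq (congrArg (f ∈ ·) h) : f ∈ W'.comap (algebraMap F M) ↔ f ∈ W.comap (algebraMap F M))
  have hR : ∀ y ∈ R, y ∈ W' := fun y hy => by
    obtain ⟨P, hP, hc, hy0⟩ := exists_monic_of_mem_intRing hy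
    exact mem_of_monic hP (fun i => (hcF _).2 (hc i)) hy0
  -- the centre of `W'` is a conjugate of the centre of `W`
  let P' : Ideal R := (IsLocalRing.maximalIdeal W').comap (RingHom.codRestrict R.subtype W' fun y => hR y y.2)
  let Q : (M ≃ₐ[F] M) → Ideal R := fun σ =>
    (IsLocalRing.maximalIdeal W).comap (RingHom.codRestrict (σ.toRingHom.comp R.subtype) W fun y => y.2 σ)
  have hP' : ∀ y : R, y ∈ P' ↔ W'.valuation (y : M) < 1 := fun y =>
    W'.valuation_lt_one_iff ⟨(y : M), hR y y.2⟩
  have hQ : ∀ σ (y : R), y ∈ Q σ ↔ W.valuation (σ (y : M)) < 1 := fun σ y =>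
    W.valuation_lt_one_iff ⟨σ (y : M), y.2 σ⟩
  obtain ⟨r, hr, hq⟩ : ∃ r : ℕ, 0 < r ∧ ∀ y : M, (∀ σ : M ≃ₐ[F] M, σ y = y) →
      y ^ r ∈ (algebraMap F M).range := by
    obtain ⟨q, hq⟩ := ExpChar.exists F
    let Ff : IntermediateField F M := IntermediateField.fixedField (⊤ : Subgroup (M ≃ₐ[F] M))
    haveI : IsPurelyInseparable F Ff := IntClosFin.isPurelyInseparable_of_fixed
    haveI : ExpChar Ff q := expChar_of_injective_algebraMap (algebraMap F Ff).injective q
    refine ⟨q ^ IsPurelyInseparable.exponent F Ff, pow_pos (expChar_pos F q) _, fun y hy => ?_⟩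
    obtain ⟨f, hf⟩ := IsPurelyInseparable.exponent_def' F q (⟨y, fun σ => hy σ.1⟩ : Ff)
    exact ⟨f, by rw [IsScalarTower.algebraMap_apply F Ff M, hf]; rfl⟩
  have hsub : (P' : Set R) ⊆ ⋃ σ ∈ (↑(Finset.univ : Finset (M ≃ₐ[F] M)) : Set (M ≃ₐ[F] M)), (Q σ : Set R) := by
    intro y hy
    by_contra hn
    simp only [Set.mem_iUnion, Finset.coe_univ, Set.mem_univ, exists_prop, true_and, not_exists, SetLike.mem_coe,
      hQ] at hn
    have hy1 : ∀ σ : M ≃ₐ[F] M, W.valuation (σ (y : M)) = 1 := fun σ =>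
      le_antisymm ((W.valuation_le_one_iff _).2 (y.2 σ)) (not_lt.1 (hn σ))
    set m : M := ∏ σ : M ≃ₐ[F] M, σ (y : M) with hm
    have hm1 : W.valuation m = 1 := by rw [hm, map_prod]; exact Finset.prod_eq_one fun σ _ => hy1 σ
    have hm' : W'.valuation m < 1 := by
      rw [hm, map_prod, ← Finset.mul_prod_erase _ _ (Finset.mem_univ AlgEquiv.refl)]
      exact (mul_le_of_le_one_right' (Finset.prod_le_one' fun σ _ =>
        (W'.valuation_le_one_iff _).2 (hR _ (conj_mem_intRing y.2 σ)))).trans_lt ((hP' y).1 hy)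
    obtain ⟨f, hf⟩ := hq m fun τ => by
      rw [hm, map_prod]
      exact Fintype.prod_equiv (Equiv.mulLeft τ) _ _ fun σ => rfl
    have hf1 : W.valuation (algebraMap F M f) = 1 := by rw [hf, map_pow, hm1, one_pow]
    have hf' : W'.valuation (algebraMap F M f) < 1 := by
      rw [hf, map_pow]; exact pow_lt_one₀ zero_le hm' hr.ne'
    have hinv : algebraMap F M f⁻¹ ∈ W := (W.valuation_le_one_iff _).1 (by rw [map_inv₀, map_inv₀, hf1, inv_one])
    have h2 := (W'.valuation_le_one_iff _).2 ((hcF _).2 hinv)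
    rw [map_inv₀, map_inv₀, inv_le_one₀ (pos_iff_ne_zero.2 fun h0 => ?_)] at h2
    · exact absurd hf' (not_lt.2 h2)
    · rw [(map_eq_zero _).1 h0, map_zero] at hf1
      exact zero_ne_one hf1
  obtain ⟨σ, -, hσ⟩ := (Ideal.subset_union_prime AlgEquiv.refl AlgEquiv.refl fun i _ _ _ => by
    exact Ideal.IsPrime.comap _).1 hsub
  have hle : W.comap σ.toRingHom ≤ W' := by
    intro z hz
    have hzW : σ z ∈ W := hz
    obtain ⟨b, hb, hzb, hb1⟩ := exists_den (F := F) hzW
    have hb'1 : W'.valuation (σ.symm b) = 1 := by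
      refine le_antisymm ((W'.valuation_le_one_iff _).2 (hR _ (conj_mem_intRing hb σ.symm))) (not_lt.1 fun hlt => ?_)
      have := (hQ σ ⟨σ.symm b, conj_mem_intRing hb σ.symm⟩).1 (hσ ((hP' _).2 hlt))
      rw [show σ (σ.symm b) = b from σ.apply_symm_apply b, hb1] at this
      exact lt_irrefl _ this
    have h3 := hR _ (conj_mem_intRing hzb σ.symm)
    rw [map_mul, AlgEquiv.symm_apply_apply, ← W'.valuation_le_one_iff, map_mul, hb'1, mul_one,
      W'.valuation_le_one_iff] at h3
    exact h3
  refine ⟨σ, le_antisymm hle fun z hz => ?_⟩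
  by_contra hn
  have hn' : σ z ∉ W := hn
  have hz0 : z ≠ 0 := fun h0 => hn (h0 ▸ (W.comap σ.toRingHom).zero_mem)
  set y := (σ z)⁻¹ with hy
  have hy0 : y ≠ 0 := inv_ne_zero ((_root_.map_ne_zero σ).2 hz0)
  have hy1 : W.valuation y < 1 := by
    refine lt_of_le_of_ne ((W.valuation_le_one_iff _).2 ((W.mem_or_inv_mem _).resolve_left hn')) fun h1 => hn' ?_
    rw [← W.valuation_le_one_iff]
    rw [map_inv₀, inv_eq_one] at h1
    exact h1.le
  obtain ⟨m, hm, f, hf⟩ := exists_pow_valuation_eq (F := F) (W := W) y hy0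
  -- `f` is small for both
  have hf1 : W.valuation (algebraMap F M f) < 1 := by rw [← hf, map_pow]; exact pow_lt_one₀ zero_le hy1 hm.ne'
  have hf0 : algebraMap F M f ≠ 0 := fun h0 => pow_ne_zero m hy0 ((map_eq_zero W.valuation).1 (by rw [hf, h0, map_zero]))
  have hu : σ.symm (y ^ m / algebraMap F M f) ∈ W' := hle (by
    show σ (σ.symm (y ^ m / algebraMap F M f)) ∈ W
    rw [σ.apply_symm_apply, ← W.valuation_le_one_iff, map_div₀, hf, div_self ((_root_.map_ne_zero _).2 hf0)])
  have hf' : W'.valuation (algebraMap F M f) < 1 := by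
    refine lt_of_le_of_ne ((W'.valuation_le_one_iff _).2 ((hcF f).2 ((W.valuation_le_one_iff _).1 hf1.le))) fun h1 => ?_
    have h2 : algebraMap F M f⁻¹ ∈ W' := by
      rw [← W'.valuation_le_one_iff, map_inv₀, map_inv₀, h1, inv_one]
    have h3 := (W.valuation_le_one_iff _).2 ((hcF _).1 h2)
    rw [map_inv₀, map_inv₀, inv_le_one₀ (pos_iff_ne_zero.2 ((_root_.map_ne_zero _).2 hf0))] at h3
    exact absurd hf1 (not_lt.2 h3)
  rw [← W'.valuation_le_one_iff, map_div₀ σ.symm, map_pow, σ.symm.commutes, map_div₀, map_pow, hy, map_inv₀ σ.symm,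
    σ.symm_apply_apply, map_inv₀, div_le_one₀ (pos_iff_ne_zero.2 ((_root_.map_ne_zero _).2 hf0))] at hu
  have hzv : 1 ≤ (W'.valuation z)⁻¹ :=
    (one_le_inv₀ (pos_iff_ne_zero.2 ((_root_.map_ne_zero _).2 hz0))).2 ((W'.valuation_le_one_iff _).2 hz)
  exact absurd ((one_le_pow₀ hzv).trans hu) (not_le.2 hf')

end Groth.Agent.EppASH7
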