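import Groth.Agent.Lib.EppASH7.Reach
import Groth.Agent.Lib.EppASH7.Approx
import Mathlib.FieldTheory.PrimitiveElement
import Mathlib.FieldTheory.Normal.Basic
import Mathlib.RingTheory.Polynomial.ScaleRoots

/-!
# Descending a pair of equal value groups to an algebraic base
-/

set_option autoImplicit false
set_option linter.style.haveILetI false

universe u

open IsLocalRing Polynomial

namespace Groth.Agent.EppASH7

theorem mem_algebraicClosure_of_root {k Ω : Type u} [Field k] [Field Ω] [Algebra k Ω] {P : Polynomial Ω} (hP : P.Monic)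
    (hc : ∀ i, P.coeff i ∈ algebraicClosure k Ω) {x : Ω} (hx : P.eval x = 0) : x ∈ algebraicClosure k Ω := by
  obtain ⟨Q, hQ, -, hQm⟩ := lifts_and_natDegree_eq_and_monic (f := algebraMap (algebraicClosure k Ω) Ω) (p := P)
    ((lifts_iff_coeff_lifts _).2 fun i => ⟨⟨_, hc i⟩, rfl⟩) hP
  have hxi : IsIntegral (algebraicClosure k Ω) x := ⟨Q, hQm, by rw [← eval_map, hQ, hx]⟩
  haveI : Algebra.IsAlgebraic k (algebraicClosure k Ω) := algebraicClosure.isAlgebraic k Ω
  exact mem_algebraicClosure_iff.2 (isIntegral_trans x hxi).isAlgebraic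

theorem mem_conjField_iff {K Ω : Type u} [Field K] [Field Ω] [Algebra K Ω] {S : Subfield Ω}
    {hS : ∀ k : K, algebraMap K Ω k ∈ S} {x : Ω} :
    x ∈ conjField K S hS ↔ ∃ h : x ∈ algebraicClosure K Ω, ∀ τ : algebraicClosure K Ω →ₐ[K] Ω, τ ⟨x, h⟩ ∈ S :=
  Iff.rfl

/-- Clearing denominators in a simple extension of the fraction field. -/
theorem exists_clear {A K Ω : Type u} [CommRing A] [IsDomain A] [IsDiscreteValuationRing A] [Field K] [Algebra A K]
    [IsFractionRing A K] [Field Ω] [Algebra K Ω] [Algebra A Ω] [IsScalarTower A K Ω] {ρ : Ω}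
    (hρ : IsAlgebraic K ρ) {π : A} (hπ : Irreducible π) {x : Ω} (hx : x ∈ IntermediateField.adjoin K {ρ}) :
    ∃ N : ℕ, ∀ M, N ≤ M → ∃ Z : A[X], Z.eval₂ (algebraMap A Ω) ρ = algebraMap A Ω π ^ M * x := by
  have hx' : x ∈ (IntermediateField.adjoin K {ρ}).toSubalgebra := hx
  rw [IntermediateField.adjoin_simple_toSubalgebra_of_isAlgebraic hρ, Algebra.adjoin_singleton_eq_range_aeval] at hx'
  obtain ⟨P, rfl⟩ := hx'
  show ∃ N : ℕ, ∀ M, N ≤ M → ∃ Z : A[X], Z.eval₂ (algebraMap A Ω) ρ = algebraMap A Ω π ^ M * aeval ρ P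
  clear hx
  induction P using Polynomial.induction_on' with
  | add P Q hP hQ =>
    obtain ⟨N, hN⟩ := hP
    obtain ⟨N', hN'⟩ := hQ
    refine ⟨max N N', fun M hM => ?_⟩
    obtain ⟨Z, hZ⟩ := hN M ((le_max_left _ _).trans hM)
    obtain ⟨Z', hZ'⟩ := hN' M ((le_max_right _ _).trans hM)
    exact ⟨Z + Z', by rw [eval₂_add, hZ, hZ', map_add, mul_add]⟩
  | monomial n a =>
    obtain ⟨c, d, hd, rfl⟩ := IsFractionRing.div_surjective (A := A) a
    obtain ⟨j, u, hu⟩ := IsDiscreteValuationRing.eq_unit_mul_pow_irreducible (nonZeroDivisors.ne_zero hd) hπ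
    refine ⟨j, fun M hM => ⟨monomial n (π ^ (M - j) * ((↑u⁻¹ : A) * c)), ?_⟩⟩
    have hd0 : algebraMap A Ω d ≠ 0 := by
      rw [IsScalarTower.algebraMap_apply A K Ω]
      exact (_root_.map_ne_zero _).2 fun h0 => nonZeroDivisors.ne_zero hd
        (IsFractionRing.injective A K (h0.trans (map_zero _).symm))
    have he : π ^ (M - j) * ((↑u⁻¹ : A) * c) * d = π ^ M * c := by
      rw [hu]
      calc π ^ (M - j) * ((↑u⁻¹ : A) * c) * (↑u * π ^ j) = (π ^ (M - j) * π ^ j) * ((↑u⁻¹ * ↑u) * c) := by ring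
        _ = π ^ M * c := by rw [← pow_add, Nat.sub_add_cancel hM, Units.inv_mul, one_mul]
    have he' := congrArg (algebraMap A Ω) he
    simp only [map_mul, map_pow] at he'
    rw [eval₂_monomial, aeval_monomial, map_div₀, ← IsScalarTower.algebraMap_apply, ← IsScalarTower.algebraMap_apply,
      map_mul, map_mul, map_pow]
    field_simp
    linear_combination (ρ ^ n) * he'

theorem isSeparable_pow_of_le {p k m : ℕ} {K E Ω : Type u} [Field K] [Field E] [Field Ω] [Algebra K E] [Algebra K Ω]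
    (f : E →ₐ[K] Ω) (hkm : k ≤ m) {x : E} (hx : x ^ p ^ k ∈ (algebraMap (separableClosure K E) E).range) :
    IsSeparable K (f x ^ p ^ m) := by
  obtain ⟨⟨y, hy⟩, hy' : y = x ^ p ^ k⟩ := hx
  have h1 : x ^ p ^ m ∈ separableClosure K E := by
    rw [← Nat.add_sub_cancel' hkm, pow_add, pow_mul, ← hy']
    exact pow_mem hy _
  rw [← map_pow]
  exact IsSeparable.map f (RingHom.injective _) (mem_separableClosure_iff.1 h1)

/-- A `q`-th root of the uniformizer over which a finite extension becomes separable. -/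
theorem exists_rho {p : ℕ} (hp : p.Prime) {A K Ω : Type u} [CommRing A] [IsDomain A] [IsDiscreteValuationRing A]
    [IsAdicComplete (maximalIdeal A) A] [IsAlgClosed (ResidueField A)] [CharP (ResidueField A) p]
    [Field K] [Algebra A K] [IsFractionRing A K] [Field Ω] [IsAlgClosed Ω] [Algebra K Ω] [Algebra A Ω]
    [IsScalarTower A K Ω] {π : A} (hπ : Irreducible π) (K₁ : IntermediateField K Ω) [FiniteDimensional K K₁] :
    ∃ (q : ℕ) (ρ : Ω), 0 < q ∧ ρ ^ q = algebraMap A Ω π ∧ (∀ x y : Ω, (x + y) ^ q = x ^ q + y ^ q) ∧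
      ∀ x ∈ K₁, IsSeparable (IntermediateField.adjoin K ({ρ} : Set Ω)) x := by
  classical
  haveI : Fact p.Prime := ⟨hp⟩
  have hinjA : Function.Injective (algebraMap A Ω) := by
    rw [IsScalarTower.algebraMap_eq A K Ω]
    exact (algebraMap K Ω).injective.comp (IsFractionRing.injective A K)
  rcases CharP.exists' Ω with h0 | ⟨r, hr, hcr⟩
  · haveI := h0
    refine ⟨1, algebraMap A Ω π, one_pos, pow_one _, fun x y => by simp, fun x hx => ?_⟩
    haveI : CharZero K := (RingHom.charZero_iff (algebraMap K Ω).injective).2 h0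
    have h1 : IsIntegral K x := by
      have := (Algebra.IsIntegral.isIntegral (R := K) (⟨x, hx⟩ : K₁)).map K₁.val
      exact this
    exact IsSeparable.tower_top _ (PerfectField.separable_of_irreducible (minpoly.irreducible h1) : IsSeparable K x)
  · haveI := hcr
    obtain rfl : p = r := by
      have h1 : ((r : ℕ) : A) = 0 := hinjA (by rw [map_natCast, map_zero, CharP.cast_eq_zero])
      have h2 : ((r : ℕ) : ResidueField A) = 0 := by rw [← map_natCast (residue A), h1, map_zero]
      exact (Nat.prime_dvd_prime_iff_eq hp hr.out).1 ((CharP.cast_eq_zero_iff _ p r).1 h2)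
    haveI : ExpChar Ω p := ExpChar.prime hp
    haveI : CharP A p := (RingHom.charP_iff (algebraMap A Ω) hinjA p).2 inferInstance
    haveI : ExpChar A p := ExpChar.prime hp
    haveI : CharP K p := (RingHom.charP_iff (algebraMap K Ω) (RingHom.injective _) p).2 inferInstance
    haveI : ExpChar K p := ExpChar.prime hp
    haveI : CharP K₁ p := (RingHom.charP_iff (algebraMap K₁ Ω) (RingHom.injective _) p).2 inferInstance
    haveI : ExpChar K₁ p := ExpChar.prime hp
    let Sc := separableClosure K K₁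
    haveI : IsPurelyInseparable Sc K₁ := separableClosure.isPurelyInseparable K K₁
    haveI : CharP Sc p := (RingHom.charP_iff (algebraMap Sc K₁) (RingHom.injective _) p).2 inferInstance
    haveI : ExpChar Sc p := ExpChar.prime hp
    let b := Module.finBasis K K₁
    choose k hk using fun i => IsPurelyInseparable.pow_mem Sc p (b i)
    let m := Finset.univ.sup k
    obtain ⟨ρ, hρ⟩ := IsAlgClosed.exists_pow_nat_eq (algebraMap A Ω π) (pow_pos hp.pos m)
    have hadd : ∀ x y : Ω, (x + y) ^ p ^ m = x ^ p ^ m + y ^ p ^ m := fun x y => add_pow_char_pow x y p m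
    refine ⟨p ^ m, ρ, pow_pos hp.pos m, hρ, hadd, ?_⟩
    let Kr := IntermediateField.adjoin K ({ρ} : Set Ω)
    have hroot : ∀ a : K, ∃ r ∈ Kr, r ^ p ^ m = algebraMap K Ω a := by
      have hA : ∀ a : A, ∃ r ∈ Kr, r ^ p ^ m = algebraMap A Ω a := by
        intro a
        obtain ⟨r, hr⟩ := exists_frobenius_coords hπ (pow_pos hp.pos m) (fun x y => add_pow_char_pow x y p m) a
        refine ⟨∑ i ∈ Finset.range (p ^ m), ρ ^ i * algebraMap A Ω (r i), sum_mem fun i _ => ?_, ?_⟩
        · rw [IsScalarTower.algebraMap_apply A K Ω]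
          exact mul_mem (pow_mem (IntermediateField.mem_adjoin_simple_self K ρ) i) (Kr.algebraMap_mem _)
        · conv_rhs => rw [hr]
          rw [sum_pow_char_pow, map_sum]
          exact Finset.sum_congr rfl fun i _ => by rw [mul_pow, pow_right_comm, hρ, map_mul, map_pow, map_pow]
      intro a
      obtain ⟨c, d, -, rfl⟩ := IsFractionRing.div_surjective (A := A) a
      obtain ⟨r, hr, hrc⟩ := hA c
      obtain ⟨s, hs, hsd⟩ := hA d
      exact ⟨r / s, div_mem hr hs, by rw [div_pow, hrc, hsd, map_div₀, ← IsScalarTower.algebraMap_apply,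
        ← IsScalarTower.algebraMap_apply]⟩
    have hb : ∀ i, (b i : Ω) ∈ separableClosure Kr Ω := by
      intro i
      refine mem_separableClosure_iff.2 (isSeparable_of_pow hp Kr hroot _ ?_)
      exact isSeparable_pow_of_le (p := p) (K₁.val) (Finset.le_sup (f := k) (Finset.mem_univ i)) (hk i)
    intro x hx
    refine (mem_separableClosure_iff (F := Kr) (E := Ω)).1 ?_
    have h2 : ((⟨x, hx⟩ : K₁) : Ω) = ∑ i, b.repr ⟨x, hx⟩ i • (b i : Ω) := by
      conv_lhs => rw [← b.sum_repr ⟨x, hx⟩]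
      push_cast
      rfl
    show ((⟨x, hx⟩ : K₁) : Ω) ∈ _
    rw [h2]
    refine sum_mem fun i _ => ?_
    rw [Algebra.smul_def, IsScalarTower.algebraMap_apply K Kr Ω]
    exact mul_mem ((separableClosure Kr Ω).algebraMap_mem _) (hb i)

set_option maxHeartbeats 1600000 in
/-- A pair over the small complete field gives one over the original field. -/
theorem exists_pair {p : ℕ} (hp : p.Prime) (A A' C K K' L Ω : Type u) [CommRing A] [IsDomain A]
    [IsDiscreteValuationRing A] [CharP (ResidueField A) p]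
    [CommRing A'] [IsDomain A'] [IsDiscreteValuationRing A'] [IsAdicComplete (maximalIdeal A') A']
    [IsAlgClosed (ResidueField A')] [CharP (ResidueField A') p]
    [CommRing C] [IsDomain C] [IsDiscreteValuationRing C] [IsAdicComplete (maximalIdeal C) C]
    [Algebra A C] [IsLocalHom (algebraMap A C)] [Algebra A' C] [IsLocalHom (algebraMap A' C)]
    (hinj' : Function.Injective (algebraMap A' C))
    [Field K] [Field K'] [Field L] [Field Ω] [IsAlgClosed Ω]
    [Algebra A K] [IsFractionRing A K] [Algebra A' K'] [IsFractionRing A' K'] [Algebra C L] [IsFractionRing C L]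
    [Algebra K L] [Algebra A L] [IsScalarTower A K L] [IsScalarTower A C L]
    [Algebra A Ω] [Algebra A' Ω] [Algebra C Ω] [Algebra K Ω] [Algebra K' Ω] [Algebra L Ω]
    [IsScalarTower A C Ω] [IsScalarTower A' C Ω] [IsScalarTower A K Ω] [IsScalarTower A' K' Ω]
    [IsScalarTower K L Ω] [IsScalarTower C L Ω] [Algebra.IsAlgebraic L Ω]
    {W : ValuationSubring Ω} (hW : EtRam.Dominates C (algebraMap C Ω) W)
    (π₀ : A') (hπ₀ : Irreducible π₀) (a₀ : A) (ha₀ : algebraMap A' C π₀ = algebraMap A C a₀)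
    (kc : Subfield (ResidueField C)) [IsAlgClosed kc]
    (hperf : ∀ x : ResidueField C, (∀ n : ℕ, ∃ y : ResidueField C, y ^ (p ^ n) = x) → x ∈ kc)
    (hkc : ∀ c ∈ kc, IsSeparable (ResidueField A) c ∧
      ((minpoly (ResidueField A) c).map (algebraMap (ResidueField A) (ResidueField C))).Splits)
    (hres : ∀ a, residue C (algebraMap A' C a) ∈ kc) (hsurj : ∀ c ∈ kc, ∃ a, residue C (algebraMap A' C a) = c)
    (K₁ : IntermediateField K' Ω) (F : IntermediateField L Ω) (hI : Inv W K₁ F) :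
    ∃ (K₂ : IntermediateField K Ω) (F₂ : IntermediateField L Ω), Normal K K₂ ∧ FiniteDimensional K K₂ ∧
      (K₂ : Set Ω) ⊆ F₂ ∧ VG W (K₂ : Set Ω) (F₂ : Set Ω) := by
  classical
  haveI := hI.finK
  haveI := hI.finF
  haveI : HenselianLocalRing C := Hens.henselianLocalRing_iff.2 inferInstance
  -- the uniformizer
  have hinjC : Function.Injective (algebraMap C Ω) := by
    rw [IsScalarTower.algebraMap_eq C L Ω]
    exact (algebraMap L Ω).injective.comp (IsFractionRing.injective C L)
  set π : Ω := algebraMap A' Ω π₀ with hπdef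
  have hπC : π = algebraMap C Ω (algebraMap A' C π₀) := IsScalarTower.algebraMap_apply A' C Ω π₀
  have hπK : algebraMap K Ω (algebraMap A K a₀) = π := by
    rw [hπC, ha₀, ← IsScalarTower.algebraMap_apply A K Ω, ← IsScalarTower.algebraMap_apply A C Ω]
  have hπ0 : π ≠ 0 := fun h0 => hπ₀.ne_zero (hinj' (hinjC (by rw [← hπC, h0, map_zero, map_zero])))
  have hπm : algebraMap A' C π₀ ∈ maximalIdeal C :=
    ((local_hom_TFAE (algebraMap A' C)).out 0 2 rfl rfl).1 inferInstance
      (Ideal.mem_map_of_mem _ ((mem_maximalIdeal π₀).2 hπ₀.not_isUnit))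
  have hπlt : W.valuation π < 1 := hπC ▸ hW.2 _ hπm
  have hπW : π ∈ W := hπC ▸ hW.1 _
  have hvπ : (0 : W.ValueGroup) < W.valuation π := pos_iff_ne_zero.2 ((_root_.map_ne_zero _).2 hπ0)
  obtain ⟨q, ρ, hq, hρ, hadd, hsepρ⟩ := exists_rho hp (A := A') hπ₀ K₁
  have hρu : ∀ z : Ω, z ^ q = π → z = ρ := by
    intro z hz
    refine sub_eq_zero.1 (pow_eq_zero_iff hq.ne' |>.1 ?_)
    have h1 := hadd (z - ρ) ρ
    rw [sub_add_cancel, hz, hρ] at h1
    exact right_eq_add.1 h1
  have hρ1 : W.valuation ρ ≤ 1 := by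
    refine (pow_le_one_iff hq.ne').1 ?_
    rw [← map_pow, hρ]
    exact hπlt.le
  have hρW : ρ ∈ W := (W.valuation_le_one_iff _).1 hρ1
  have hρalg' : IsAlgebraic K' ρ := ⟨X ^ q - Polynomial.C (algebraMap A' K' π₀), (monic_X_pow_sub_C _ hq.ne').ne_zero,
    by rw [map_sub, map_pow, aeval_X, aeval_C, ← IsScalarTower.algebraMap_apply, hρ, sub_self]⟩
  let Kr : IntermediateField K' Ω := IntermediateField.adjoin K' ({ρ} : Set Ω)
  haveI : FiniteDimensional K' Kr := IntermediateField.adjoin.finiteDimensional hρalg'.isIntegral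
  -- a primitive element
  let b₁ := Module.finBasis K' K₁
  let E : IntermediateField Kr Ω := IntermediateField.adjoin Kr (Set.range fun i => (b₁ i : Ω))
  haveI : FiniteDimensional Kr E :=
    IntermediateField.finiteDimensional_adjoin fun x hx => by
      obtain ⟨i, rfl⟩ := hx
      exact (hsepρ _ (b₁ i).2).isIntegral
  haveI : Algebra.IsSeparable Kr E := (IntermediateField.isSeparable_adjoin_iff_isSeparable Kr Ω).2 fun x hx => by
    obtain ⟨i, rfl⟩ := hx
    exact hsepρ _ (b₁ i).2
  obtain ⟨e₀, he₀⟩ := Field.exists_primitive_element Kr E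
  -- scaling the primitive element
  have hclear : ∀ x : Kr, ∃ N : ℕ, ∀ M, N ≤ M → ∃ Z : A'[X],
      Z.eval₂ (algebraMap A' Ω) ρ = π ^ M * (x : Ω) := fun x => exists_clear hρalg' hπ₀ x.2
  choose Nc hNc using hclear
  set f₀ := minpoly Kr e₀ with hf₀
  let N₀ := (Finset.range (f₀.natDegree + 1)).sup fun i => Nc (f₀.coeff i)
  let cK : Kr := algebraMap K' Kr (algebraMap A' K' π₀) ^ N₀
  have hcΩ : (cK : Ω) = π ^ N₀ := by
    simp only [cK, SubmonoidClass.coe_pow]
    rw [show ((algebraMap K' Kr (algebraMap A' K' π₀) : Kr) : Ω) = algebraMap K' Ω (algebraMap A' K' π₀) from rfl,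
      ← IsScalarTower.algebraMap_apply]
  have hcK0 : cK ≠ 0 := fun h0 => pow_ne_zero N₀ hπ0 (by rw [← hcΩ, h0]; rfl)
  let e : E := algebraMap Kr E cK * e₀
  have he : IntermediateField.adjoin Kr ({e} : Set E) = ⊤ := by
    refine top_le_iff.1 (he₀ ▸ IntermediateField.adjoin_simple_le_iff.2 ?_)
    rw [show e₀ = (algebraMap Kr E cK)⁻¹ * e by
      simp only [e]; rw [← mul_assoc, inv_mul_cancel₀ ((_root_.map_ne_zero _).2 hcK0), one_mul]]
    exact mul_mem (inv_mem (IntermediateField.algebraMap_mem _ _)) (IntermediateField.mem_adjoin_simple_self _ _)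
  set f := minpoly Kr e with hf
  have heint : IsIntegral Kr e := Algebra.IsIntegral.isIntegral e
  have he₀int : IsIntegral Kr e₀ := Algebra.IsIntegral.isIntegral e₀
  have hfdeg : f.natDegree = f₀.natDegree := by
    rw [hf, hf₀, ← IntermediateField.adjoin.finrank heint, ← IntermediateField.adjoin.finrank he₀int, he, he₀]
  have hfeq : f = f₀.scaleRoots cK := (eq_of_monic_of_dvd_of_natDegree_le (minpoly.monic heint)
    ((monic_scaleRoots_iff cK).2 (minpoly.monic he₀int))
    (minpoly.dvd Kr e (scaleRoots_aeval_eq_zero (minpoly.aeval Kr e₀))) (by rw [natDegree_scaleRoots, hfdeg])).symm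
  let ψ : A'[X] →+* Ω := eval₂RingHom (algebraMap A' Ω) ρ
  have hfint : ∀ i, ∃ Z : A'[X], ψ Z = (f.coeff i : Ω) := by
    intro i
    rw [hfeq, coeff_scaleRoots]
    rcases lt_trichotomy i f₀.natDegree with h | h | h
    · obtain ⟨Z, hZ⟩ := hNc (f₀.coeff i) (N₀ * (f₀.natDegree - i))
        ((Finset.le_sup (f := fun i => Nc (f₀.coeff i)) (Finset.mem_range.2 (by omega))).trans
          (Nat.le_mul_of_pos_right _ (by omega)))
      refine ⟨Z, ?_⟩
      rw [show ψ Z = _ from hZ]
      push_cast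
      rw [hcΩ, ← pow_mul, mul_comm]
    · subst h
      exact ⟨1, by rw [map_one, (minpoly.monic he₀int).coeff_natDegree, Nat.sub_self, pow_zero, one_mul]; rfl⟩
    · exact ⟨0, by rw [map_zero, coeff_eq_zero_of_natDegree_lt h, zero_mul]; rfl⟩
  obtain ⟨fZ, hfZ, hfZd, hfZm⟩ := lifts_and_natDegree_eq_and_monic (f := ψ) (p := f.map (algebraMap Kr Ω))
    ((lifts_iff_coeff_lifts _).2 fun i => by
      obtain ⟨Z, hZ⟩ := hfint i
      exact ⟨Z, by rw [coeff_map, hZ]; rfl⟩) ((minpoly.monic heint).map _)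
  have hd : fZ.natDegree ≠ 0 := by
    rw [hfZd, natDegree_map]
    exact (minpoly.natDegree_pos heint).ne'
  set d := fZ.natDegree with hddef
  -- the Bezout identity
  obtain ⟨u₀, w₀, huw⟩ := (separable_def' f).1 (Algebra.IsSeparable.isSeparable Kr e)
  let D := max ((Finset.range (u₀.natDegree + 1)).sup fun i => Nc (u₀.coeff i))
    ((Finset.range (w₀.natDegree + 1)).sup fun i => Nc (w₀.coeff i))
  have hclearp : ∀ P : Kr[X], (∀ i ≤ P.natDegree, Nc (P.coeff i) ≤ D) →
      ∃ Z : A'[X][X], Z.map ψ = Polynomial.C (π ^ D) * P.map (algebraMap Kr Ω) := by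
    intro P hP
    refine (mem_lifts _).1 ((lifts_iff_coeff_lifts _).2 fun i => ?_)
    rw [coeff_C_mul, coeff_map]
    rcases le_or_gt i P.natDegree with h | h
    · obtain ⟨Z, hZ⟩ := hNc _ D (hP i h)
      exact ⟨Z, hZ⟩
    · exact ⟨0, by rw [coeff_eq_zero_of_natDegree_lt h, map_zero, map_zero, mul_zero]⟩
  obtain ⟨uZ, huZ⟩ := hclearp u₀ fun i hi => le_max_of_le_left
    (Finset.le_sup (f := fun i => Nc (u₀.coeff i)) (Finset.mem_range.2 (by omega)))
  obtain ⟨wZ, hwZ⟩ := hclearp w₀ fun i hi => le_max_of_le_right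
    (Finset.le_sup (f := fun i => Nc (w₀.coeff i)) (Finset.mem_range.2 (by omega)))
  have hbez : uZ.map ψ * fZ.map ψ + wZ.map ψ * derivative (fZ.map ψ) = Polynomial.C (π ^ D) := by
    rw [huZ, hwZ, hfZ, derivative_map, mul_assoc, mul_assoc, ← mul_add, ← Polynomial.map_mul, ← Polynomial.map_mul,
      ← Polynomial.map_add, huw, Polynomial.map_one, mul_one]
  -- precision
  let M₀ := D + 1
  let N := d * M₀ + (D + 1)
  obtain ⟨n, hn⟩ : ∃ n, maximalIdeal C ^ n ≤ Ideal.span {algebraMap A' C π₀ ^ N} := by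
    obtain ⟨ϖ, hϖ⟩ := IsDiscreteValuationRing.exists_irreducible C
    obtain ⟨k, hk⟩ := IsDiscreteValuationRing.ideal_eq_span_pow_irreducible
      (s := Ideal.span {algebraMap A' C π₀ ^ N}) (by
        rw [Ne, Ideal.span_singleton_eq_bot, pow_eq_zero_iff']
        exact fun h => hπ₀.ne_zero (hinj' (h.1.trans (map_zero _).symm))) hϖ
    exact ⟨k, by rw [hk, hϖ.maximalIdeal_eq, Ideal.span_singleton_pow]⟩
  let cf : A'[X][X] → Finset A' := fun P => P.support.biUnion fun i => (P.coeff i).support.image fun j => (P.coeff i).coeff j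
  let s : Finset A' := cf fZ ∪ cf uZ ∪ cf wZ
  obtain ⟨G, l₀, hG, hl₀, hroots, hiso, P, hP₀, hPt⟩ :=
    exists_twist Ω hp hinjC (algebraMap A' C) π₀ hπ₀ a₀ ha₀ kc hperf hkc hres hsurj n s
  -- rings of approximants
  have hAW : ∀ c : C, algebraMap C Ω c ∈ W := hW.1
  let toW : C →+* W := RingHom.codRestrict (algebraMap C Ω) W hAW
  let ρW : W := ⟨ρ, hρW⟩
  let θ : C → (A[X][X] →+* W) := fun l => eval₂RingHom (toW.comp (aeval l : A[X] →ₐ[A] C).toRingHom) ρW
  let ψW : A'[X] →+* W := eval₂RingHom (toW.comp (algebraMap A' C)) ρW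
  have hψW : W.subtype.comp ψW = ψ := by
    refine Polynomial.ringHom_ext (fun a => ?_) ?_
    · simp [ψW, ψ, toW, ← IsScalarTower.algebraMap_apply]
    · simp [ψW, ψ, ρW]
  let πW : W := ⟨π, hπW⟩
  let I : Ideal W := Ideal.span {πW ^ N}
  let mk := Ideal.Quotient.mk I
  have hmk : ∀ x y : W, mk x = mk y ↔ W.valuation ((x : Ω) - y) ≤ W.valuation π ^ N := by
    intro x y
    rw [Ideal.Quotient.mk_eq_mk_iff_sub_mem, Ideal.mem_span_singleton]
    constructor
    · rintro ⟨z, hz⟩
      have h2 : (x : Ω) - y = π ^ N * z := congrArg W.subtype hz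
      rw [h2, map_mul, map_pow]
      exact mul_le_of_le_one_right' (W.valuation_le_one z)
    · intro h
      refine ⟨⟨((x : Ω) - y) / π ^ N, (W.valuation_le_one_iff _).1 ?_⟩, Subtype.ext ?_⟩
      · rw [map_div₀, map_pow, div_le_one₀ (pow_pos hvπ N)]
        exact h
      · show (x : Ω) - y = π ^ N * (((x : Ω) - y) / π ^ N)
        rw [mul_div_cancel₀ _ (pow_ne_zero _ hπ0)]
  have hCmk : ∀ x y : C, x - y ∈ maximalIdeal C ^ n → mk (toW x) = mk (toW y) := by
    intro x y h
    obtain ⟨z, hz⟩ := Ideal.mem_span_singleton.1 (hn h)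
    rw [hmk]
    show W.valuation (algebraMap C Ω x - algebraMap C Ω y) ≤ _
    rw [← map_sub, hz, map_mul, map_pow, ← hπC, map_mul, map_pow]
    exact mul_le_of_le_one_right' ((W.valuation_le_one_iff _).2 (hAW z))
  let Lf : A'[X] → A[X][X] := fun Z => ∑ j ∈ Z.support, monomial j (P (Z.coeff j))
  have hLf : ∀ (l : C) (Z Z' : A'[X]),
      (∀ j ∈ Z.support, aeval l (P (Z.coeff j)) - algebraMap A' C (Z'.coeff j) ∈ maximalIdeal C ^ n) →
      Z'.support ⊆ Z.support → mk (θ l (Lf Z)) = mk (ψW Z') := by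
    intro l Z Z' h hs
    have h1 : ψW Z' = ∑ j ∈ Z.support, toW (algebraMap A' C (Z'.coeff j)) * ρW ^ j := by
      show Z'.eval₂ _ _ = _
      rw [eval₂_eq_sum, sum_def]
      exact Finset.sum_subset hs fun j _ hj => by rw [notMem_support_iff.1 hj, map_zero, zero_mul]
    have h2 : θ l (Lf Z) = ∑ j ∈ Z.support, toW (aeval l (P (Z.coeff j))) * ρW ^ j := by
      simp only [θ, Lf, coe_eval₂RingHom, eval₂_finsetSum, eval₂_monomial, RingHom.comp_apply]
      rfl
    rw [h1, h2, map_sum, map_sum]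
    exact Finset.sum_congr rfl fun j hj => by rw [map_mul, map_mul, hCmk _ _ (h j hj)]
  have hLf₀ : ∀ Z : A'[X], (∀ j ∈ Z.support, Z.coeff j ∈ s) → mk (θ l₀ (Lf Z)) = mk (ψW Z) := fun Z hZ =>
    hLf l₀ Z Z (fun j hj => hP₀ _ (hZ j hj)) subset_rfl
  choose! tw htw using hPt
  let twZ : C → A'[X] → A'[X] := fun l Z => ∑ j ∈ Z.support, monomial j (tw l (Z.coeff j))
  have hLft : ∀ l : C, aeval l G = 0 → ∀ Z : A'[X], (∀ j ∈ Z.support, Z.coeff j ∈ s) →
      mk (θ l (Lf Z)) = mk (ψW (twZ l Z)) := by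
    intro l hl Z hZ
    have hco : ∀ j, (twZ l Z).coeff j = if j ∈ Z.support then tw l (Z.coeff j) else 0 := fun j => by
      simp only [twZ, finsetSum_coeff, coeff_monomial, Finset.sum_ite_eq']
    refine hLf l Z _ (fun j hj => ?_) fun j hj => by_contra fun hn => ?_
    · rw [hco, if_pos hj]
      exact htw l hl _ (hZ j hj)
    · rw [mem_support_iff, hco, if_neg hn] at hj
      exact hj rfl
  have hcfs : ∀ (Q : A'[X][X]), cf Q ⊆ s → ∀ i, ∀ j ∈ (Q.coeff i).support, (Q.coeff i).coeff j ∈ s := by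
    intro Q hQ i j hj
    refine hQ (Finset.mem_biUnion.2 ⟨i, ?_, Finset.mem_image.2 ⟨j, hj, rfl⟩⟩)
    rw [mem_support_iff]
    intro h0
    rw [h0] at hj
    simp at hj
  -- lifted polynomials
  let up : A'[X][X] → A[X][X][X] := fun Q => ∑ i ∈ Q.support, monomial i (Lf (Q.coeff i))
  have hup : ∀ Q i, (up Q).coeff i = if i ∈ Q.support then Lf (Q.coeff i) else 0 := fun Q i => by
    simp only [up, finsetSum_coeff, coeff_monomial, Finset.sum_ite_eq']
  let gT : A[X][X][X] := X ^ d + ∑ i ∈ Finset.range d, monomial i (Lf (fZ.coeff i))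
  have hgTm : gT.Monic := monic_X_pow_add ((degree_sum_le _ _).trans_lt ((Finset.sup_lt_iff (WithBot.bot_lt_coe d)).2
    fun i hi => (degree_monomial_le _ _).trans_lt (WithBot.coe_lt_coe.2 (Finset.mem_range.1 hi))))
  have hup₀ : ∀ Q, cf Q ⊆ s → (up Q).map (mk.comp (θ l₀)) = Q.map (mk.comp ψW) := fun Q hQ => by
    ext i
    rw [coeff_map, coeff_map, hup]
    split_ifs with h
    · exact hLf₀ _ (hcfs Q hQ i)
    · rw [notMem_support_iff.1 h, map_zero, map_zero]
  have hgTcoe : ∀ i, gT.coeff i = if i < d then Lf (fZ.coeff i) else if i = d then 1 else 0 := by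
    intro i
    simp only [gT, coeff_add, coeff_X_pow, finsetSum_coeff, coeff_monomial, Finset.sum_ite_eq', Finset.mem_range]
    by_cases h1 : i < d
    · simp [h1, h1.ne]
    · rw [if_neg h1, if_neg h1, add_zero]
  have hfs : cf fZ ⊆ s := Finset.subset_union_left.trans Finset.subset_union_left
  have hfcoe : ∀ i, d ≤ i → fZ.coeff i = if i = d then 1 else 0 := by
    intro i hi
    rcases hi.lt_or_eq with h | h
    · rw [coeff_eq_zero_of_natDegree_lt h, if_neg h.ne']
    · rw [← h, if_pos rfl]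
      exact hfZm.coeff_natDegree
  have hgT₀ : gT.map (mk.comp (θ l₀)) = fZ.map (mk.comp ψW) := by
    ext i
    rw [coeff_map, coeff_map, hgTcoe]
    split_ifs with h h'
    · exact hLf₀ _ (hcfs fZ hfs i)
    · rw [hfcoe i h'.ge, if_pos h', map_one, map_one]
    · rw [hfcoe i (not_lt.1 h), if_neg h', map_zero, map_zero]
  let fl : C → A'[X][X] := fun l => if l = l₀ then fZ else X ^ d + ∑ i ∈ Finset.range d, monomial i (twZ l (fZ.coeff i))
  have hflm : ∀ l, (fl l).Monic := fun l => by
    simp only [fl]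
    split_ifs
    · exact hfZm
    · exact monic_X_pow_add ((degree_sum_le _ _).trans_lt ((Finset.sup_lt_iff (WithBot.bot_lt_coe d)).2
        fun i hi => (degree_monomial_le _ _).trans_lt (WithBot.coe_lt_coe.2 (Finset.mem_range.1 hi))))
  have hgTl : ∀ l, aeval l G = 0 → gT.map (mk.comp (θ l)) = (fl l).map (mk.comp ψW) := by
    intro l hl
    simp only [fl]
    split_ifs with h0
    · rw [h0]; exact hgT₀
    ext i
    rw [coeff_map, coeff_map, hgTcoe, coeff_add, coeff_X_pow, finsetSum_coeff]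
    simp only [coeff_monomial, Finset.sum_ite_eq', Finset.mem_range]
    split_ifs with h h'
    · omega
    · rw [zero_add]
      exact hLft l hl _ (hcfs fZ hfs i)
    · rw [add_zero, map_one, map_one]
    · rw [add_zero, map_zero, map_zero]
  -- the identity at all roots
  let ET : A[X][X][X] := up uZ * gT + up wZ * derivative gT - Polynomial.C (Polynomial.C (Polynomial.C (a₀ ^ D)))
  have hθc : ∀ l : C, θ l (Polynomial.C (Polynomial.C (a₀ ^ D))) = πW ^ D := fun l => Subtype.ext (by
    simp only [θ, toW, coe_eval₂RingHom, eval₂_C, RingHom.comp_apply, AlgHom.toRingHom_eq_coe, RingHom.coe_coe, aeval_C,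
      map_pow, ← ha₀]
    rw [SubmonoidClass.coe_pow, SubmonoidClass.coe_pow]
    show algebraMap C Ω (algebraMap A' C π₀) ^ D = π ^ D
    rw [← hπC])
  have hET₀ : ET.map (mk.comp (θ l₀)) = 0 := by
    have h1 : uZ.map ψW * fZ.map ψW + wZ.map ψW * derivative (fZ.map ψW) = Polynomial.C (πW ^ D) := by
      refine Polynomial.map_injective W.subtype Subtype.val_injective ?_
      rw [Polynomial.map_add, Polynomial.map_mul, Polynomial.map_mul, ← derivative_map, Polynomial.map_map,
        Polynomial.map_map, Polynomial.map_map, hψW, map_C, hbez]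
      rfl
    have h2 := congrArg (Polynomial.map mk) h1
    simp only [Polynomial.map_add, Polynomial.map_mul, ← derivative_map, Polynomial.map_map, map_C] at h2
    simp only [ET, Polynomial.map_sub, Polynomial.map_add, Polynomial.map_mul, ← derivative_map, map_C,
      RingHom.comp_apply, hθc, hgT₀, hup₀ uZ (Finset.subset_union_right.trans Finset.subset_union_left),
      hup₀ wZ Finset.subset_union_right, h2, sub_self]
  have hθval : ∀ (l : C), aeval l G = 0 → ∀ Z : A[X][X],
      W.valuation (θ l Z : Ω) = W.valuation (θ l₀ Z : Ω) := by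
    have hkey : ∀ (l : C) (Z : A[X][X]), (θ l Z : Ω) ^ q =
        algebraMap C Ω (aeval l (∑ j ∈ Z.support, Z.coeff j ^ q * Polynomial.C a₀ ^ j)) := by
      intro l Z
      have h1 : (θ l Z : Ω) = ∑ j ∈ Z.support, algebraMap C Ω (aeval l (Z.coeff j)) * ρ ^ j := by
        simp only [θ, coe_eval₂RingHom, eval₂_eq_sum, sum_def]
        push_cast
        rfl
      rw [h1, map_sum, map_sum]
      induction Z.support using Finset.induction_on with
      | empty => simp [zero_pow hq.ne']
      | insert j t hj ih =>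
        rw [Finset.sum_insert hj, Finset.sum_insert hj, hadd, ih, mul_pow, pow_right_comm, hρ]
        simp only [map_mul, map_pow, aeval_C, ← ha₀]
        rw [← hπC]
    intro l hl Z
    refine (pow_left_inj₀ zero_le zero_le hq.ne').1 ?_
    rw [← map_pow, ← map_pow, hkey, hkey]
    obtain ⟨v, hv⟩ := hiso l hl (∑ j ∈ Z.support, Z.coeff j ^ q * Polynomial.C a₀ ^ j)
    rw [hv, map_mul, map_mul]
    have hv1 : W.valuation (algebraMap C Ω (v : C)) = 1 := (W.valuation_eq_one_iff (toW v)).1 (v.isUnit.map toW)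
    rw [hv1, one_mul]
  have hmk0 : ∀ x : W, mk x = 0 ↔ W.valuation (x : Ω) ≤ W.valuation π ^ N := fun x => by
    rw [← map_zero mk, hmk, ZeroMemClass.coe_zero, sub_zero]
  have hET : ∀ l, aeval l G = 0 → ET.map (mk.comp (θ l)) = 0 := by
    intro l hl
    ext i
    have h1 := congrArg (fun t => Polynomial.coeff t i) hET₀
    simp only [coeff_map, coeff_zero, RingHom.comp_apply, hmk0] at h1 ⊢
    rwa [hθval l hl]
  -- separation
  have hNlt : W.valuation π ^ N < W.valuation π ^ D :=
    pow_lt_pow_right_of_lt_one₀ hvπ hπlt (by simp only [N]; omega)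
  have hvle : ∀ (Q : (↥W)[X]) (i : ℕ), W.valuation ((Q.map W.subtype).coeff i) ≤ 1 := fun Q i => by
    rw [coeff_map]; exact W.valuation_le_one _
  have hsep : ∀ l, aeval l G = 0 → ∀ Q : (↥W)[X], Q.Monic → Q.map mk = gT.map (mk.comp (θ l)) → ∀ x : Ω,
      (Q.map W.subtype).eval x = 0 → W.valuation π ^ D ≤ W.valuation ((derivative (Q.map W.subtype)).eval x) := by
    intro l hl Q hQ hQe x hx
    rw [← map_pow]
    refine le_valuation_derivative (hQ.map _) (hvle Q) (u := ((up uZ).map (θ l)).map W.subtype)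
      (w := ((up wZ).map (θ l)).map W.subtype) (hvle _) (fun i => ?_) hx
    have h1 := hET l hl
    simp only [ET, Polynomial.map_sub, Polynomial.map_add, Polynomial.map_mul, ← derivative_map, map_C,
      RingHom.comp_apply, hθc, ← hQe] at h1
    have h2 : ((up uZ).map (θ l) * Q + (up wZ).map (θ l) * derivative Q - Polynomial.C (πW ^ D)).map mk = 0 := by
      rw [Polynomial.map_sub, Polynomial.map_add, Polynomial.map_mul, Polynomial.map_mul, Polynomial.map_map,
        Polynomial.map_map, map_C, ← derivative_map]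
      exact h1
    have h3 := congrArg (fun t => Polynomial.coeff t i) h2
    simp only [coeff_map, coeff_zero, hmk0] at h3
    refine lt_of_le_of_lt (le_of_eq_of_le ?_ h3) (by rw [map_pow]; exact hNlt)
    refine congrArg W.valuation ?_
    rw [show (((up uZ).map (θ l) * Q + (up wZ).map (θ l) * derivative Q - Polynomial.C (πW ^ D)).coeff i : Ω) =
      (((up uZ).map (θ l) * Q + (up wZ).map (θ l) * derivative Q - Polynomial.C (πW ^ D)).map W.subtype).coeff i
      from by rw [coeff_map]; rfl]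
    rw [Polynomial.map_sub, Polynomial.map_add, Polynomial.map_mul, Polynomial.map_mul, map_C, ← derivative_map]
    rfl
  let gΩ : C → Polynomial Ω := fun l => (gT.map (θ l)).map W.subtype
  let hΩ : C → Polynomial Ω := fun l => ((fl l).map ψW).map W.subtype
  have hgm : ∀ l, (gΩ l).Monic := fun l => (hgTm.map _).map _
  have hhm : ∀ l, (hΩ l).Monic := fun l => ((hflm l).map _).map _
  have hgsep : ∀ l, aeval l G = 0 → ∀ x, (gΩ l).eval x = 0 →
      W.valuation π ^ D ≤ W.valuation ((derivative (gΩ l)).eval x) := fun l hl =>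
    hsep l hl _ (hgTm.map _) (by rw [Polynomial.map_map])
  have hhsep : ∀ l, aeval l G = 0 → ∀ x, (hΩ l).eval x = 0 →
      W.valuation π ^ D ≤ W.valuation ((derivative (hΩ l)).eval x) := fun l hl =>
    hsep l hl _ ((hflm l).map _) (by rw [Polynomial.map_map, hgTl l hl])
  have hclose : ∀ l, aeval l G = 0 → ∀ i, W.valuation ((hΩ l - gΩ l).coeff i) ≤ W.valuation π ^ N := by
    intro l hl i
    have h1 := congrArg (fun t => Polynomial.coeff t i) (hgTl l hl)
    simp only [coeff_map, RingHom.comp_apply, hmk] at h1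
    simp only [hΩ, gΩ, coeff_sub, coeff_map]
    rw [Valuation.map_sub_swap]
    exact h1
  have hNd : W.valuation π ^ N ≤ (W.valuation π ^ M₀) ^ d := by
    rw [← pow_mul]
    exact pow_le_pow_right_of_le_one' hπlt.le (by simp only [N, mul_comm]; omega)
  have hgd : ∀ l, (gΩ l).natDegree = d := fun l => by
    rw [natDegree_map_eq_of_injective Subtype.val_injective, hgTm.natDegree_map]
    exact le_antisymm (natDegree_le_iff_coeff_eq_zero.2 fun i hi => by
      rw [hgTcoe, if_neg hi.not_gt, if_neg hi.ne']) (le_natDegree_of_ne_zero (by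
        rw [hgTcoe, if_neg (lt_irrefl d), if_pos rfl]; exact one_ne_zero))
  have hhd : ∀ l, aeval l G = 0 → (hΩ l).natDegree = d := fun l hl => by
    rw [natDegree_map_eq_of_injective Subtype.val_injective, (hflm l).natDegree_map]
    simp only [fl]
    split_ifs
    · rfl
    · exact natDegree_eq_of_degree_eq_some (by
        rw [degree_add_eq_left_of_degree_lt, degree_X_pow]
        rw [degree_X_pow]
        exact (degree_sum_le _ _).trans_lt ((Finset.sup_lt_iff (WithBot.bot_lt_coe d)).2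
          fun i hi => (degree_monomial_le _ _).trans_lt (WithBot.coe_lt_coe.2 (Finset.mem_range.1 hi))))
  -- the roots
  let Troot : Finset Ω := (G.map (algebraMap A Ω)).roots.toFinset
  have hT : ∀ y ∈ Troot, aeval y G = 0 := fun y hy => by
    rw [aeval_def, ← eval_map]
    exact (mem_roots'.1 (Multiset.mem_toFinset.1 hy)).2
  have hTl : ∀ l, aeval l G = 0 → algebraMap C Ω l ∈ Troot := fun l hl => Multiset.mem_toFinset.2
    (mem_roots'.2 ⟨(hG.map _).ne_zero, by
      rw [IsRoot.def, eval_map, ← aeval_def, aeval_algebraMap_apply, hl, map_zero]⟩)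
  let Rt : Set Ω := {x | ∃ l, aeval l G = 0 ∧ (hΩ l).eval x = 0}
  have hRtfin : Rt.Finite := by
    refine Set.Finite.subset (Set.Finite.biUnion ((Troot.finite_toSet).preimage (hinjC.injOn))
      fun l _ => (hΩ l).roots.toFinset.finite_toSet) ?_
    rintro x ⟨l, hl, hx⟩
    exact Set.mem_biUnion (hTl l hl) (Multiset.mem_toFinset.2 (mem_roots'.2 ⟨(hhm l).ne_zero, hx⟩))
  have hψmem : ∀ Z, (ψW Z : Ω) ∈ Kr := fun Z => by
    rw [show (ψW Z : Ω) = ψ Z from DFunLike.congr_fun hψW Z]
    show Z.eval₂ _ ρ ∈ Kr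
    rw [eval₂_eq_sum, sum_def]
    exact sum_mem fun j _ => mul_mem (by rw [IsScalarTower.algebraMap_apply A' K' Ω]; exact Kr.algebraMap_mem _)
      (pow_mem (IntermediateField.mem_adjoin_simple_self K' ρ) j)
  have hρac : ρ ∈ algebraicClosure K' Ω := mem_algebraicClosure_iff.2 hρalg'
  have hKrac : Kr ≤ algebraicClosure K' Ω := IntermediateField.adjoin_simple_le_iff.2 hρac
  have hRtalg : ∀ x ∈ Rt, IsIntegral K' x := by
    rintro x ⟨l, -, hx⟩
    refine (mem_algebraicClosure_iff.1 (mem_algebraicClosure_of_root (hhm l) (fun i => hKrac ?_) hx)).isIntegral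
    simp only [hΩ, coeff_map]
    exact hψmem _
  haveI : Finite ({ρ} ∪ Rt : Set Ω) := ((Set.finite_singleton ρ).union hRtfin).to_subtype
  let K₃ : IntermediateField K' Ω := IntermediateField.adjoin K' ({ρ} ∪ Rt)
  have hKint : ∀ x ∈ ({ρ} ∪ Rt : Set Ω), IsIntegral K' x := fun x hx => by
    rcases hx with hx | hx
    · rw [Set.mem_singleton_iff.1 hx]; exact hρalg'.isIntegral
    · exact hRtalg x hx
  haveI : FiniteDimensional K' K₃ := IntermediateField.finiteDimensional_adjoin hKint
  have hρ3 : ρ ∈ K₃ := IntermediateField.subset_adjoin K' _ (Or.inl rfl)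
  have heR : (e : Ω) ∈ Rt := ⟨l₀, hl₀, by
    simp only [hΩ, fl, if_pos]
    rw [Polynomial.map_map, hψW, hfZ, eval_map]
    have := congrArg (algebraMap E Ω) (minpoly.aeval Kr e)
    rwa [map_zero, aeval_def, hom_eval₂, ← IsScalarTower.algebraMap_eq] at this⟩
  have hK13 : K₁ ≤ K₃ := by
    intro x hx
    have hKr3 : Kr ≤ K₃ := IntermediateField.adjoin_simple_le_iff.2 hρ3
    have hE : ∀ y : E, (y : Ω) ∈ K₃ := by
      intro y
      have hy : y ∈ IntermediateField.adjoin Kr ({e} : Set E) := he ▸ IntermediateField.mem_top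
      induction hy using IntermediateField.adjoin_induction with
      | mem y hy => rw [Set.mem_singleton_iff.1 hy]; exact IntermediateField.subset_adjoin K' _ (Or.inr heR)
      | algebraMap r => exact hKr3 r.2
      | add _ _ _ _ ha hb => push_cast; exact K₃.add_mem ha hb
      | inv _ _ ha => push_cast; exact K₃.inv_mem ha
      | mul _ _ _ _ ha hb => push_cast; exact K₃.mul_mem ha hb
    have h2 : ((⟨x, hx⟩ : K₁) : Ω) = ∑ i, b₁.repr ⟨x, hx⟩ i • (b₁ i : Ω) := by
      conv_lhs => rw [← b₁.sum_repr ⟨x, hx⟩]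
      push_cast
      rfl
    show ((⟨x, hx⟩ : K₁) : Ω) ∈ K₃
    rw [h2]
    refine sum_mem fun i _ => ?_
    rw [Algebra.smul_def]
    exact mul_mem (K₃.algebraMap_mem _) (hE ⟨_, IntermediateField.subset_adjoin Kr _ ⟨i, rfl⟩⟩)
  have hdomA' : EtRam.Dominates A' (algebraMap A' Ω) W := by
    rw [IsScalarTower.algebraMap_eq A' C Ω]
    exact ⟨fun a => hW.1 _, fun a ha => hW.2 _
      (((local_hom_TFAE (algebraMap A' C)).out 0 2 rfl rfl).1 inferInstance (Ideal.mem_map_of_mem _ ha))⟩
  obtain ⟨F₃, hF₃fin, hFF, hK3F, hvg3, -⟩ := exists_baseChange hdomA' K₁ K₃ hK13 F hI.sub hI.vg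
  haveI := hF₃fin
  -- algebraic approximants
  have hCF : ∀ c : C, algebraMap C Ω c ∈ F₃ := fun c => by
    rw [IsScalarTower.algebraMap_apply C L Ω]; exact F₃.algebraMap_mem _
  have hθF : ∀ (Fk : IntermediateField L Ω), ρ ∈ Fk → ∀ (l : C) (Z : A[X][X]), (θ l Z : Ω) ∈ Fk := by
    intro Fk hρk l Z
    simp only [θ, coe_eval₂RingHom, eval₂_eq_sum, sum_def]
    push_cast
    refine sum_mem fun j _ => mul_mem ?_ (pow_mem hρk j)
    show algebraMap C Ω _ ∈ Fk
    rw [IsScalarTower.algebraMap_apply C L Ω]; exact Fk.algebraMap_mem _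
  have hgroot : ∀ l, aeval l G = 0 → ∀ x, (gΩ l).eval x = 0 → x ∈ F₃ := by
    intro l hl x hx
    obtain ⟨y, hy, hxy⟩ := exists_root_near (hgm l) (hhm l) (by rw [hhd l hl]; exact hd) (hvle _)
      (fun i => (hclose l hl i).trans (by rw [hhd l hl]; exact hNd)) hx
    let Fk : IntermediateField L Ω := IntermediateField.adjoin L ({ρ, y} : Set Ω)
    have hFk : Fk ≤ F₃ := IntermediateField.adjoin_le_iff.2 (by
      rintro z (rfl | rfl)
      · exact hK3F hρ3
      · exact hK3F (IntermediateField.subset_adjoin K' _ (Or.inr ⟨l, hl, hy⟩)))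
    have hρk : ρ ∈ Fk := IntermediateField.subset_adjoin L _ (Or.inl rfl)
    refine hFk (krasner_mem Fk (fun σ z hz => ?_) (gΩ l) (hgm l) (fun i => ?_) (c := π ^ D) (pow_ne_zero _ hπ0)
      (fun z hz => by rw [map_pow]; exact hgsep l hl z hz) (hvle _) (d := π ^ M₀) hx
      (IntermediateField.subset_adjoin L _ (Or.inr rfl)) ?_ ?_ (by rw [map_pow]; exact hxy))
    · have hWσ : W.comap σ.toRingHom = W := by
        refine valuationSubring_unique C L Ω _ W ?_ hW
        refine EtRamH7.dominates_comap σ.toRingHom ?_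
        have hc : σ.toRingHom.comp (algebraMap C Ω) = algebraMap C Ω := RingHom.ext fun c => by
          show σ (algebraMap C Ω c) = _
          rw [IsScalarTower.algebraMap_apply C L Ω, IsScalarTower.algebraMap_apply L Fk Ω, σ.commutes]
        rw [hc]; exact hW
      rw [W.valuation_le_one_iff] at hz ⊢
      rw [← hWσ] at hz
      exact hz
    · simp only [gΩ, coeff_map]
      exact hθF Fk hρk l _
    · exact pow_mem (by rw [hπC, IsScalarTower.algebraMap_apply C L Ω]; exact Fk.algebraMap_mem _) _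
    · rw [map_pow, map_pow]
      exact pow_lt_pow_right_of_lt_one₀ hvπ hπlt (Nat.lt_succ_self D)
  have hKF : ∀ k : K, algebraMap K Ω k ∈ F₃.toSubfield := fun k => by
    rw [IsScalarTower.algebraMap_apply K L Ω]; exact F₃.algebraMap_mem _
  let Φ := conjField K F₃.toSubfield hKF
  have hAC : ∀ a : A, algebraMap A Ω a ∈ algebraicClosure K Ω := fun a => by
    rw [IsScalarTower.algebraMap_apply A K Ω]; exact (algebraicClosure K Ω).algebraMap_mem _
  have hrootsΦ : ∀ (G' : A[X]), G'.Monic → (∀ y : Ω, aeval y G' = 0 → ∃ l : C, algebraMap C Ω l = y) →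
      ∀ l : C, aeval l G' = 0 → algebraMap C Ω l ∈ Φ := by
    intro G' hG' hr l hl
    refine mem_conjField_of_root (hG'.map (algebraMap A K)) (fun y hy => ?_) ?_
    · rw [aeval_map_algebraMap] at hy
      obtain ⟨l', rfl⟩ := hr y hy
      exact hCF l'
    · rw [aeval_map_algebraMap, aeval_algebraMap_apply, hl, map_zero]
  have hρΦ : ρ ∈ Φ := by
    refine mem_conjField_of_root (monic_X_pow_sub_C (algebraMap A K a₀) hq.ne') (fun y hy => ?_) ?_
    · rw [map_sub, map_pow, aeval_X, aeval_C, hπK, sub_eq_zero] at hy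
      rw [hρu y hy]
      exact hK3F hρ3
    · rw [map_sub, map_pow, aeval_X, aeval_C, hπK, hρ, sub_self]
  have haΦ : ∀ (l : C), algebraMap C Ω l ∈ Φ → ∀ Q : A[X], algebraMap C Ω (aeval l Q) ∈ Φ := by
    intro l hl Q
    rw [← aeval_algebraMap_apply, aeval_eq_sum_range]
    refine sum_mem fun j _ => ?_
    rw [Algebra.smul_def, IsScalarTower.algebraMap_apply A K Ω]
    exact mul_mem (Φ.algebraMap_mem _) (pow_mem hl j)
  have hθΦ : ∀ l, aeval l G = 0 → ∀ Z, (θ l Z : Ω) ∈ Φ := by
    intro l hl Z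
    simp only [θ, coe_eval₂RingHom, eval₂_eq_sum, sum_def]
    push_cast
    exact sum_mem fun j _ => mul_mem
      (haΦ l (hrootsΦ G hG (fun y hy => (hroots y hy).imp fun _ h => h.1) l hl) _) (pow_mem hρΦ j)
  have hgΦ : ∀ l, aeval l G = 0 → ∀ x, (gΩ l).eval x = 0 → x ∈ Φ := by
    intro l hl x hx
    let Kb := algebraicClosure K Ω
    have hxK : x ∈ Kb := mem_algebraicClosure_of_root (hgm l) (fun i => by
      simp only [gΩ, coeff_map]
      exact (hθΦ l hl _).1) hx
    refine mem_conjField_iff.2 ⟨hxK, fun τ => ?_⟩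
    have hlK : algebraMap C Ω l ∈ Kb := (hrootsΦ G hG (fun y hy => (hroots y hy).imp fun _ h => h.1) l hl).1
    have hρK : ρ ∈ Kb := hρΦ.1
    have hτA : ∀ a : A, τ ⟨_, hAC a⟩ = algebraMap A Ω a := fun a => by
      rw [show (⟨algebraMap A Ω a, hAC a⟩ : Kb) = algebraMap K Kb (algebraMap A K a) from
        Subtype.ext (IsScalarTower.algebraMap_apply A K Ω a), τ.commutes, ← IsScalarTower.algebraMap_apply]
    let jA : A →+* Kb := RingHom.codRestrict (algebraMap A Ω) Kb hAC
    have hτl0 : aeval (τ ⟨_, hlK⟩) G = 0 := by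
      have h0 : G.eval₂ jA (⟨_, hlK⟩ : Kb) = 0 := by
        apply Subtype.ext
        show (algebraMap Kb Ω) (G.eval₂ jA ⟨_, hlK⟩) = 0
        rw [hom_eval₂]
        show G.eval₂ (algebraMap A Ω) (algebraMap C Ω l) = 0
        rw [← aeval_def, aeval_algebraMap_apply, hl, map_zero]
      have h1 := congrArg τ h0
      rw [map_zero] at h1
      rw [show τ (G.eval₂ jA ⟨_, hlK⟩) = G.eval₂ (τ.toRingHom.comp jA) (τ ⟨_, hlK⟩) from hom_eval₂ _ _ τ.toRingHom _,
        show τ.toRingHom.comp jA = algebraMap A Ω from RingHom.ext hτA] at h1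
      exact h1
    obtain ⟨l', hl', hl'G⟩ := hroots _ hτl0
    let Θ : A[X][X] →+* Kb := eval₂RingHom (eval₂RingHom jA ⟨_, hlK⟩) ⟨ρ, hρK⟩
    have hΘ : (algebraMap Kb Ω).comp Θ = W.subtype.comp (θ l) := by
      refine Polynomial.ringHom_ext (fun Q => ?_) ?_
      · simp only [Θ, θ, toW, RingHom.comp_apply, coe_eval₂RingHom, eval₂_C]
        rw [hom_eval₂]
        show Q.eval₂ (algebraMap A Ω) (algebraMap C Ω l) = algebraMap C Ω (aeval l Q)
        rw [← aeval_def, aeval_algebraMap_apply]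
      · simp only [Θ, θ, RingHom.comp_apply, coe_eval₂RingHom, eval₂_X]
        rfl
    have hτρ : τ ⟨ρ, hρK⟩ = ρ := hρu _ (by
      rw [← map_pow, show (⟨ρ, hρK⟩ : Kb) ^ q = ⟨_, hAC a₀⟩ from Subtype.ext (by
        show ρ ^ q = algebraMap A Ω a₀
        exact hρ.trans (hπK.symm.trans (IsScalarTower.algebraMap_apply A K Ω a₀).symm)), hτA, IsScalarTower.algebraMap_apply A K Ω, hπK])
    have hτΘ : τ.toRingHom.comp Θ = W.subtype.comp (θ l') := by
      refine Polynomial.ringHom_ext (fun Q => ?_) ?_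
      · simp only [Θ, θ, toW, RingHom.comp_apply, coe_eval₂RingHom, eval₂_C]
        rw [hom_eval₂, show τ.toRingHom.comp jA = algebraMap A Ω from RingHom.ext hτA]
        show Q.eval₂ (algebraMap A Ω) (τ ⟨_, hlK⟩) = algebraMap C Ω (aeval l' Q)
        rw [← aeval_def, ← hl', aeval_algebraMap_apply]
      · simp only [Θ, θ, RingHom.comp_apply, coe_eval₂RingHom, eval₂_X]
        exact hτρ
    have h0 : (gT.map Θ).eval (⟨x, hxK⟩ : Kb) = 0 := by
      apply Subtype.ext
      show (algebraMap Kb Ω) ((gT.map Θ).eval ⟨x, hxK⟩) = 0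
      rw [← eval₂_at_apply, ← eval_map, Polynomial.map_map, hΘ, ← Polynomial.map_map]
      exact hx
    refine hgroot l' hl'G _ ?_
    have h1 := congrArg τ h0
    rw [map_zero, show τ ((gT.map Θ).eval ⟨x, hxK⟩) = τ.toRingHom ((gT.map Θ).eval ⟨x, hxK⟩) from rfl,
      ← eval₂_at_apply, ← eval_map, Polynomial.map_map, hτΘ, ← Polynomial.map_map] at h1
    exact h1
  -- the closure of the algebraic approximants
  let Xr := approxRing W π Φ.toSubfield hπlt.le
  have hΦX : ∀ y ∈ Φ, W.valuation y ≤ 1 → y ∈ Xr := fun y hy hy1 =>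
    ⟨⟨0, by simpa using hy1⟩, fun M => ⟨y, hy, by simp⟩⟩
  have hA'X : ∀ a : A', algebraMap A' Ω a ∈ Xr := by
    intro a
    refine ⟨⟨0, by simpa using (W.valuation_le_one_iff _).2 (hdomA'.1 a)⟩, fun M => ?_⟩
    obtain ⟨n', hn'⟩ : ∃ n', maximalIdeal C ^ n' ≤ Ideal.span {algebraMap A' C π₀ ^ M} := by
      obtain ⟨ϖ, hϖ⟩ := IsDiscreteValuationRing.exists_irreducible C
      obtain ⟨k, hk⟩ := IsDiscreteValuationRing.ideal_eq_span_pow_irreducible
        (s := Ideal.span {algebraMap A' C π₀ ^ M}) (by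
          rw [Ne, Ideal.span_singleton_eq_bot, pow_eq_zero_iff']
          exact fun h => hπ₀.ne_zero (hinj' (h.1.trans (map_zero _).symm))) hϖ
      exact ⟨k, by rw [hk, hϖ.maximalIdeal_eq, Ideal.span_singleton_pow]⟩
    obtain ⟨G', l', hG', hl', hroots', -, P', hP', -⟩ :=
      exists_twist Ω hp hinjC (algebraMap A' C) π₀ hπ₀ a₀ ha₀ kc hperf hkc hres hsurj n' {a}
    obtain ⟨z, hz⟩ := Ideal.mem_span_singleton.1 (hn' (hP' a (Finset.mem_singleton_self a)))
    refine ⟨algebraMap C Ω (aeval l' (P' a)),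
      haΦ l' (hrootsΦ G' hG' (fun y hy => (hroots' y hy).imp fun _ h => h.1) l' hl') _, ?_⟩
    rw [Valuation.map_sub_swap, IsScalarTower.algebraMap_apply A' C Ω, ← map_sub, hz, map_mul, map_pow, ← hπC,
      map_mul, map_pow]
    exact mul_le_of_le_one_right' ((W.valuation_le_one_iff _).2 (hAW z))
  have hρX : ρ ∈ Xr := hΦX ρ hρΦ hρ1
  have hψX : ∀ Z, (ψW Z : Ω) ∈ Xr := fun Z => by
    rw [show (ψW Z : Ω) = ψ Z from DFunLike.congr_fun hψW Z]
    show Z.eval₂ _ ρ ∈ Xr
    rw [eval₂_eq_sum, sum_def]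
    exact sum_mem fun j _ => mul_mem (hA'X _) (pow_mem hρX j)
  have hRX : ∀ x ∈ Rt, x ∈ Xr := by
    rintro x ⟨l, hl, hx⟩
    obtain ⟨y, hy, hxy⟩ := exists_root_near (hhm l) (hgm l) (by rw [hgd]; exact hd) (hvle _)
      (fun i => by rw [← neg_sub (hΩ l), coeff_neg, Valuation.map_neg, hgd]; exact (hclose l hl i).trans hNd) hx
    have hy1 := valuation_root_le (hgm l) (hvle _) hy
    have hx1 := valuation_root_le (hhm l) (hvle _) hx
    set c := (derivative (gΩ l)).eval y with hc
    have hcD : W.valuation π ^ D ≤ W.valuation c := hgsep l hl y hy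
    have hc0 : c ≠ 0 := fun h0 => by
      rw [h0, map_zero] at hcD
      exact (pow_pos hvπ D).ne' (le_zero_iff.1 hcD)
    have hgcW : ∀ i, W.valuation ((derivative (gΩ l)).coeff i) ≤ 1 := fun i => by
      simp only [gΩ, derivative_map]; exact hvle _ i
    have hc1 : W.valuation c ≤ 1 := valuation_eval_le _ hgcW hy1
    have hcΦ : c ∈ Φ := by
      have hyΦ := hgΦ l hl y hy
      rw [hc, eval_eq_sum_range]
      refine sum_mem fun i _ => mul_mem ?_ (pow_mem hyΦ i)
      rw [coeff_derivative]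
      refine mul_mem ?_ (by exact_mod_cast natCast_mem Φ (i + 1))
      simp only [gΩ, coeff_map]
      exact hθΦ l hl _
    have hM : W.valuation π ^ M₀ ≤ W.valuation c * W.valuation π := by
      simp only [M₀, pow_succ]; exact mul_le_mul' hcD le_rfl
    refine root_mem_approxRing (b := y) (c := c) (D := D) (hvle _) (fun i => by
      simp only [coeff_map]; exact hψX _) hx hx1 (hgΦ l hl y hy) hy1 hcΦ hc0 hc1 hcD ?_
      (by rw [Valuation.map_sub_swap]; exact hxy.trans hM)
    refine le_trans ?_ hM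
    rw [hc, show (derivative (gΩ l)).eval y - (derivative (hΩ l)).eval x =
      (derivative (gΩ l - hΩ l)).eval y + ((derivative (hΩ l)).eval y - (derivative (hΩ l)).eval x) by
        rw [derivative_sub, eval_sub]; ring]
    refine W.valuation.map_add_le ((valuation_eval_le _ (fun i => ?_) hy1).trans
      (pow_le_pow_right_of_le_one' hπlt.le
        ((Nat.le_mul_of_pos_left M₀ (Nat.pos_of_ne_zero hd)).trans (Nat.le_add_right _ _) : M₀ ≤ N))) ?_
    · rw [coeff_derivative, map_mul]
      refine (mul_le_of_le_one_right' ?_).trans ?_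
      · rw [show ((i : Ω) + 1) = ((i + 1 : ℕ) : Ω) by push_cast; rfl]
        exact (W.valuation_le_one_iff _).2 (natCast_mem W _)
      · rw [← neg_sub (hΩ l), coeff_neg, Valuation.map_neg]
        exact hclose l hl _
    · let xW : W := ⟨x, (W.valuation_le_one_iff _).1 hx1⟩
      let yW : W := ⟨y, (W.valuation_le_one_iff _).1 hy1⟩
      obtain ⟨z, hz⟩ := sub_dvd_eval_sub yW xW (derivative ((fl l).map ψW))
      have h2 := congrArg W.subtype hz
      rw [map_sub, ← eval₂_at_apply, ← eval₂_at_apply, ← eval_map, ← eval_map, ← derivative_map] at h2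
      rw [show (derivative (hΩ l)).eval y - (derivative (hΩ l)).eval x = _ from h2, map_mul, map_sub, map_mul,
        Valuation.map_sub_swap]
      exact (mul_le_of_le_one_right' (W.valuation_le_one z)).trans (hxy.trans (le_of_eq (map_pow _ _ _).symm |>.trans (le_of_eq (map_pow _ _ _))))
  have hK'X : ∀ k : K', algebraMap K' Ω k ∈ Xr := by
    intro k
    obtain ⟨c, d', hd', rfl⟩ := IsFractionRing.div_surjective (A := A') k
    obtain ⟨j, v, hv⟩ := IsDiscreteValuationRing.eq_unit_mul_pow_irreducible (nonZeroDivisors.ne_zero hd') hπ₀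
    have he2 : algebraMap K' Ω (algebraMap A' K' c / algebraMap A' K' d') =
        algebraMap A' Ω ((↑v⁻¹ : A') * c) * (π⁻¹) ^ j := by
      rw [map_div₀, ← IsScalarTower.algebraMap_apply, ← IsScalarTower.algebraMap_apply, inv_pow, ← div_eq_mul_inv,
        div_eq_div_iff ?_ (pow_ne_zero _ hπ0), hπdef, ← map_pow, ← map_mul, ← map_mul]
      · congr 1
        rw [hv]
        calc c * π₀ ^ j = ((↑v⁻¹ : A') * ↑v) * (c * π₀ ^ j) := by rw [Units.inv_mul, one_mul]
          _ = _ := by ring
      · rw [hv, map_mul, map_pow]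
        exact mul_ne_zero (v.isUnit.map _).ne_zero (pow_ne_zero _ hπ0)
    rw [he2]
    refine mul_mem (hA'X _) (pow_mem (?_ : π⁻¹ ∈ Xr) j)
    exact ⟨⟨1, by rw [pow_one, inv_mul_cancel₀ hπ0, map_one]⟩,
      fun M => ⟨π⁻¹, Φ.inv_mem (hπK ▸ Φ.algebraMap_mem _), by simp⟩⟩
  have hK3X : ∀ x ∈ K₃, x ∈ Xr := by
    intro x hx
    have hx' : x ∈ K₃.toSubalgebra := hx
    rw [IntermediateField.adjoin_toSubalgebra_of_isAlgebraic fun z hz => (hKint z hz).isAlgebraic] at hx'
    clear hx
    induction hx' using Algebra.adjoin_induction with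
    | mem z hz =>
      rcases hz with hz | hz
      · rw [Set.mem_singleton_iff.1 hz]; exact hρX
      · exact hRX z hz
    | algebraMap k => exact hK'X k
    | add _ _ _ _ ha hb => exact add_mem ha hb
    | mul _ _ _ _ ha hb => exact mul_mem ha hb
  -- an algebraic element with the value of a uniformizer
  obtain ⟨ϖ, hϖK, hϖirr, hϖall⟩ := exists_uniformizer W hW (⟨inferInstance, inferInstance, hK3F, hvg3⟩ : Inv W K₃ F₃)
  set w : Ω := ((ϖ : F₃) : Ω) with hw
  have hw1 : W.valuation w < 1 := by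
    refine lt_of_le_of_ne ((W.valuation_le_one_iff _).2 ϖ.2) fun h1 => hϖirr.not_isUnit ?_
    exact (EtRam.isLocalHom_inclOfComap W (algebraMap F₃ Ω)).map_nonunit ϖ
      ((W.valuation_eq_one_iff (EtRam.inclOfComap W (algebraMap F₃ Ω) ϖ)).2 h1)
  have hw0 : w ≠ 0 := fun h0 => hϖirr.ne_zero (Subtype.ext (Subtype.ext h0))
  have hvw : (0 : W.ValueGroup) < W.valuation w := pos_iff_ne_zero.2 ((_root_.map_ne_zero _).2 hw0)
  obtain ⟨k, hk⟩ := hϖall π (by rw [hπC]; exact hCF _) hπ0
  have hπ2 : W.valuation π ^ 2 < W.valuation w := by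
    have hk1 : 1 ≤ k := by
      by_contra hk0
      rw [hk] at hπlt
      exact absurd hπlt (not_lt.2 (one_le_zpow_of_nonpos₀ hvw hw1.le (by omega)))
    rw [hk, ← zpow_natCast, ← zpow_mul]
    refine lt_of_lt_of_eq (zpow_lt_zpow_right_of_lt_one₀ hvw hw1 ?_) (zpow_one _)
    push_cast
    linarith
  obtain ⟨a, ha, hwa⟩ := (hK3X w hϖK).2 2
  have hva : W.valuation a = W.valuation w := by
    have h1 := W.valuation.map_add_eq_of_lt_left (x := w) (y := a - w)
      (by rw [Valuation.map_sub_swap]; exact hwa.trans_lt hπ2)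
    rwa [add_sub_cancel] at h1
  have haint : IsIntegral K a := (isAlgebraic_of_mem_conjField (hS := hKF) ha).isIntegral
  have hsp : ((minpoly K a).map (algebraMap K Ω)).Splits := IsAlgClosed.splits _
  let K₂ : IntermediateField K Ω := IntermediateField.adjoin K ((minpoly K a).rootSet Ω)
  haveI : IsSplittingField K K₂ (minpoly K a) := IntermediateField.adjoin_rootSet_isSplittingField hsp
  refine ⟨K₂, F₃, Normal.of_isSplittingField (minpoly K a), IsSplittingField.finiteDimensional K₂ (minpoly K a),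
    fun x hx => ?_, fun x hx hx0 => ?_⟩
  · induction hx using IntermediateField.adjoin_induction with
    | mem y hy => exact conj_mem (hS := hKF) ha (mem_rootSet'.1 hy).2
    | algebraMap c => exact hKF c
    | add _ _ _ _ ha hb => exact F₃.add_mem ha hb
    | inv _ _ ha => exact F₃.inv_mem ha
    | mul _ _ _ _ ha hb => exact F₃.mul_mem ha hb
  · obtain ⟨j, hj⟩ := hϖall x hx hx0
    have haK : a ∈ K₂ := IntermediateField.subset_adjoin K _
      (mem_rootSet'.2 ⟨((minpoly.monic haint).map _).ne_zero, minpoly.aeval K a⟩)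
    exact ⟨a ^ j, zpow_mem haK j, by rw [hj, map_zpow₀, hva]⟩

end Groth.Agent.EppASH7
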