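import Groth.Agent.Lib.EppASH7.Tools
import Groth.Agent.Lib.EtRamH7.StrictDVR
import Groth.Agent.Lib.EtRamH7.Good

/-!
# A criterion for weak solutions of Artin–Schreier extensions
-/

set_option autoImplicit false
set_option linter.style.haveILetI false

universe u

open IsLocalRing Polynomial

namespace Groth.Agent.EppASH7

variable {A B C K L M : Type u}
    [CommRing A] [IsDomain A] [IsDiscreteValuationRing A] [CommRing B] [IsDomain B] [IsDiscreteValuationRing B]
    [CommRing C] [IsDomain C] [IsDiscreteValuationRing C]
    [Algebra A B] [Algebra B C] [Algebra A C] [IsScalarTower A B C]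
    [IsLocalHom (algebraMap A B)] [IsLocalHom (algebraMap B C)]
    [Field K] [Field L] [Field M] [Algebra A K] [IsFractionRing A K] [Algebra B L] [IsFractionRing B L]
    [Algebra C M] [IsFractionRing C M] [Algebra K L] [Algebra L M] [Algebra K M] [IsScalarTower K L M]
    [Algebra B M] [IsScalarTower B L M] [IsScalarTower B C M]

omit [IsDiscreteValuationRing A] [IsDomain A] [IsFractionRing A K] [IsLocalHom (algebraMap A B)]
  [IsScalarTower A B C] in
/-- If after adjoining `K₂` the equation is integral, or has a pole of order divisible by `p` with leading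
residue not a `p`-th power, then `K₂` is a weak solution. -/
theorem weakSolution_of_reduced {p : ℕ} (hp : p.Prime) [CharP L p] (ξ : L) (z : M)
    (hz : z ^ p - z = algebraMap L M ξ) (hgenz : IntermediateField.adjoin L {z} = ⊤)
    (K₂ : Type u) [Field K₂] [Algebra K K₂] [FiniteDimensional K K₂] (y : K₂)
    (H : ∀ (E : Type u) [Field E] [Algebra L E] [Algebra K₂ E] [Algebra K E] [IsScalarTower K L E]
      [IsScalarTower K K₂ E], Algebra.adjoin L (Set.range (algebraMap K₂ E)) = ⊤ →
      ∀ V : ValuationSubring E, EtRam.Dominates B ((algebraMap L E).comp (algebraMap B L)) V →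
      ∃ hyV : algebraMap K₂ E y ∈ V, maximalIdeal V = Ideal.span {(⟨_, hyV⟩ : V)} ∧
        ∃ h : E, (algebraMap L E ξ - (h ^ p - h)) ∈ V ∨
          ∃ (e : ℕ) (a : V), 0 < e ∧ p ∣ e ∧ (a : E) = (algebraMap L E ξ - (h ^ p - h)) * algebraMap K₂ E y ^ e ∧
            ∀ r : V, residue V a ≠ residue V r ^ p) :
    EtRam.IsWeakSolution C K M K₂ := by
  classical
  haveI : Fact p.Prime := ⟨hp⟩
  intro M' _ _ _ _ _ _ hgen W hW
  letI : Algebra L M' := ((algebraMap M M').comp (algebraMap L M)).toAlgebra
  haveI : IsScalarTower L M M' := IsScalarTower.of_algebraMap_eq fun _ => rfl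
  haveI : IsScalarTower K L M' := IsScalarTower.of_algebraMap_eq fun k => by
    show algebraMap K M' k = algebraMap M M' (algebraMap L M (algebraMap K L k))
    rw [← IsScalarTower.algebraMap_apply K L M, ← IsScalarTower.algebraMap_apply K M M']
  haveI : FiniteDimensional M M' := EtRamH7.finite_of_adjoin_eq_top K M K₂ M' hgen
  obtain ⟨hfdM, -, -⟩ := EtRamH7.as_galois hp L M ξ z hz hgenz
  haveI := hfdM
  haveI : FiniteDimensional L M' := FiniteDimensional.trans L M M'
  let g : K₂ → M' := algebraMap K₂ M'
  let E : IntermediateField L M' := IntermediateField.adjoin L (Set.range g)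
  let gE : K₂ →+* E := (algebraMap K₂ M').codRestrict E fun x => IntermediateField.subset_adjoin L _ ⟨x, rfl⟩
  letI : Algebra K₂ E := gE.toAlgebra
  haveI : IsScalarTower K K₂ E := IsScalarTower.of_algebraMap_eq fun k => Subtype.ext
    (IsScalarTower.algebraMap_apply K K₂ M' k)
  have htopE : Algebra.adjoin L (Set.range (algebraMap K₂ E)) = ⊤ :=
    EtRamH7.adjoin_range_codRestrict_eq_top g E rfl (fun x => IsIntegral.of_finite L (g x)) gE (fun _ => rfl)
  let V : ValuationSubring E := W.comap (algebraMap E M')
  have hWB : EtRam.Dominates B ((algebraMap L M').comp (algebraMap B L)) W := by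
    have hc : ∀ b, algebraMap L M' (algebraMap B L b) = algebraMap M M' (algebraMap C M (algebraMap B C b)) := fun b => by
      show algebraMap M M' (algebraMap L M (algebraMap B L b)) = _
      rw [← IsScalarTower.algebraMap_apply B L M, IsScalarTower.algebraMap_apply B C M]
    refine ⟨fun b => ?_, fun b hb => ?_⟩
    · show algebraMap L M' (algebraMap B L b) ∈ W
      rw [hc]; exact hW.1 _
    · show W.valuation (algebraMap L M' (algebraMap B L b)) < 1
      rw [hc]
      exact hW.2 _ ((mem_maximalIdeal _).2 fun hu => (mem_maximalIdeal _).1 hb (isUnit_of_map_unit (algebraMap B C) b hu))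
  have hV : EtRam.Dominates B ((algebraMap L E).comp (algebraMap B L)) V :=
    EtRamH7.dominates_comap (algebraMap E M') hWB
  obtain ⟨hyV, hmax, h, hcase⟩ := H E htopE V hV
  haveI : IsDiscreteValuationRing V := EtRamH7.dvr_of_dominates B L E _ rfl V hV
  letI : Algebra V M' := ((algebraMap E M').comp (algebraMap V E)).toAlgebra
  haveI : IsScalarTower V E M' := IsScalarTower.of_algebraMap_eq fun _ => rfl
  haveI : CharP M' p := charP_of_injective_algebraMap (algebraMap L M').injective p
  haveI : CharP E p := charP_of_injective_algebraMap (algebraMap L E).injective p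
  haveI : CharP V p := (RingHom.charP_iff V.subtype Subtype.val_injective p).2 inferInstance
  haveI hchar : CharP (ResidueField V) p := (CharP.charP_iff_prime_eq_zero hp).2 (by
    rw [← map_natCast (residue V), CharP.cast_eq_zero, map_zero])
  set ξ' : E := algebraMap L E ξ - (h ^ p - h) with hξ'
  set z' : M' := algebraMap M M' z - algebraMap E M' h with hz'def
  have hz' : z' ^ p - z' = algebraMap E M' ξ' := by
    rw [hz'def, sub_pow_char, hξ', map_sub, map_sub, map_pow, ← IsScalarTower.algebraMap_apply L E M',
      IsScalarTower.algebraMap_apply L M M', ← hz, map_sub, map_pow]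
    ring
  have hgen' : IntermediateField.adjoin E {z'} = ⊤ := by
    rw [eq_top_iff]
    intro m hm0; clear hm0
    let T := IntermediateField.adjoin E ({z'} : Set M')
    have hzT : algebraMap M M' z ∈ T := by
      have : algebraMap M M' z = z' + algebraMap E M' h := by rw [hz'def, sub_add_cancel]
      rw [this]
      exact T.add_mem (IntermediateField.mem_adjoin_simple_self _ _) (T.algebraMap_mem _)
    have hM : ∀ m : M, algebraMap M M' m ∈ T := by
      intro m
      have hm : m ∈ IntermediateField.adjoin L ({z} : Set M) := hgenz ▸ IntermediateField.mem_top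
      induction hm using IntermediateField.adjoin_induction with
      | mem x hx => rw [Set.mem_singleton_iff.1 hx]; exact hzT
      | algebraMap l =>
        rw [← IsScalarTower.algebraMap_apply L M M', IsScalarTower.algebraMap_apply L E M']
        exact T.algebraMap_mem _
      | add _ _ _ _ ha hb => rw [map_add]; exact T.add_mem ha hb
      | inv _ _ ha => rw [map_inv₀]; exact T.inv_mem ha
      | mul _ _ _ _ ha hb => rw [map_mul]; exact T.mul_mem ha hb
    have hm : m ∈ Algebra.adjoin M (Set.range (algebraMap K₂ M')) := hgen ▸ Algebra.mem_top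
    induction hm using Algebra.adjoin_induction with
    | mem x hx => obtain ⟨x, rfl⟩ := hx; exact T.algebraMap_mem (gE x)
    | algebraMap m => exact hM m
    | add _ _ _ _ ha hb => exact T.add_mem ha hb
    | mul _ _ _ _ ha hb => exact T.mul_mem ha hb
  obtain ⟨hfd', -, hrk⟩ := EtRamH7.as_galois hp E M' ξ' z' hz' hgen'
  haveI := hfd'
  have hd : Module.finrank E M' ≤ p := by rcases hrk with h | h <;> rw [h]; exact hp.pos
  have hPm : (X ^ p - X : V[X]).Monic := monic_X_pow_sub (by rw [degree_X]; exact_mod_cast hp.one_lt)
  have hPd : (X ^ p - X : V[X]).natDegree = p := by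
    rw [natDegree_sub_eq_left_of_natDegree_lt (by rw [natDegree_X, natDegree_X_pow]; exact hp.one_lt), natDegree_X_pow]
  have hdomW : EtRam.Dominates V (algebraMap V M') W := EtRamH7.dominates_self_comap (algebraMap E M') W
  have hy : Irreducible (⟨algebraMap K₂ E y, hyV⟩ : V) :=
    (IsDiscreteValuationRing.irreducible_iff_uniformizer _).2 hmax
  have hweak : (maximalIdeal V).map (RingHom.codRestrict (algebraMap V M') W hdomW.1) = maximalIdeal W := by
    letI : Algebra V W := (RingHom.codRestrict (algebraMap V M') W hdomW.1).toAlgebra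
    haveI : IsLocalHom (algebraMap V W) := EtRamH7.isLocalHom_cod hdomW
    rcases hcase with hint | ⟨e, a, he, hpe, ha, hres⟩
    · obtain ⟨_, _, hq⟩ := EtRamH7.generator_facts E M' hgen'
        (minpoly.monic (IsIntegral.of_finite E z')) (minpoly.aeval E z')
      rcases EtRamH7.case_integral V E M' hp hchar _ hPm hPd (by simp) z' hrk hq ⟨ξ', hint⟩ (by
        rw [map_sub, map_pow, aeval_X]; exact hz') with h1 | ⟨h1, -⟩
      · have hbij : Function.Bijective (algebraMap E M') :=
          ⟨RingHom.injective _, (LinearMap.injective_iff_surjective_of_finrank_eq_finrank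
            (f := (Algebra.ofId E M').toLinearMap) (by rw [h1, Module.finrank_self])).1 (RingHom.injective _)⟩
        exact (EtRamH7.good_of_bijective W (algebraMap E M') hbij).1
      · exact (@h1 W hdomW inferInstance).1
    · have hev : algebraMap V M' ⟨_, hyV⟩ ^ e * aeval z' (X ^ p - X : V[X]) = algebraMap V M' a := by
        rw [map_sub, map_pow, aeval_X, hz', IsScalarTower.algebraMap_apply V E M' a]
        show algebraMap E M' (algebraMap K₂ E y) ^ e * _ = algebraMap E M' (a : E)
        rw [ha, map_mul, map_pow, mul_comm]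
      obtain ⟨⟨-, -, hins⟩, -⟩ :=
        EtRamH7.case_pole_insep V E M' hp hchar _ hPm hPd hd _ hy e a he hpe hres z' hev
      exact (@hins W hdomW inferInstance).1
  let V₂ := W.comap (algebraMap K₂ M')
  letI : Algebra V₂ W := (EtRam.inclOfComap W (algebraMap K₂ M')).toAlgebra
  haveI : IsLocalHom (algebraMap V₂ W) := EtRam.isLocalHom_inclOfComap W _
  show Ideal.map (algebraMap V₂ W) (maximalIdeal V₂) = maximalIdeal W
  refine le_antisymm (((local_hom_TFAE (algebraMap V₂ W)).out 0 2).1 ‹_›) ?_
  have hWmax : maximalIdeal W = Ideal.span {(⟨algebraMap K₂ M' y, hyV⟩ : W)} := by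
    refine hweak.symm.trans ((congrArg (Ideal.map _) hmax).trans ?_)
    rw [Ideal.map_span, Set.image_singleton]
    rfl
  rw [hWmax, Ideal.span_singleton_le_iff_mem]
  refine Ideal.mem_map_of_mem (algebraMap V₂ W) (x := (⟨y, hyV⟩ : V₂)) fun hu => ?_
  exact (mem_maximalIdeal (R := W) _).1 (hWmax ▸ Ideal.mem_span_singleton_self _) (hu.map (algebraMap V₂ W))

end Groth.Agent.EppASH7
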