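import Groth.Agent.Lib.Hens.Local
import Mathlib.FieldTheory.Extension
import Mathlib.FieldTheory.IsAlgClosed.Basic
import Mathlib.FieldTheory.AlgebraicClosure
import Mathlib.RingTheory.DiscreteValuationRing.Basic
import Mathlib.RingTheory.Henselian
import Mathlib.FieldTheory.Separable
import Mathlib.Algebra.Ring.GeomSum

/-!
# Algebraic elements with all conjugates in a complete field, and their density
-/

set_option autoImplicit false
set_option linter.style.haveILetI false

universe u

open IsLocalRing Polynomial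

namespace Groth.Agent.EppASH7

section Conj

variable (K : Type u) {Ω : Type u} [Field K] [Field Ω] [Algebra K Ω] (S : Subfield Ω)

/-- Algebraic elements all of whose conjugates lie in `S`. -/
def conjField (hS : ∀ k : K, algebraMap K Ω k ∈ S) : IntermediateField K Ω where
  carrier := {x | ∃ h : x ∈ algebraicClosure K Ω, ∀ τ : algebraicClosure K Ω →ₐ[K] Ω, τ ⟨x, h⟩ ∈ S}
  mul_mem' := fun {a b} ⟨ha, ha'⟩ ⟨hb, hb'⟩ => ⟨mul_mem ha hb, fun τ => by
    show τ (⟨a, ha⟩ * ⟨b, hb⟩) ∈ S
    rw [map_mul]; exact S.mul_mem (ha' τ) (hb' τ)⟩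
  one_mem' := ⟨one_mem _, fun τ => by
    show τ 1 ∈ S
    rw [map_one]; exact S.one_mem⟩
  add_mem' := fun {a b} ⟨ha, ha'⟩ ⟨hb, hb'⟩ => ⟨add_mem ha hb, fun τ => by
    show τ (⟨a, ha⟩ + ⟨b, hb⟩) ∈ S
    rw [map_add]; exact S.add_mem (ha' τ) (hb' τ)⟩
  zero_mem' := ⟨zero_mem _, fun τ => by
    show τ 0 ∈ S
    rw [map_zero]; exact S.zero_mem⟩
  algebraMap_mem' := fun k => ⟨(algebraicClosure K Ω).algebraMap_mem k, fun τ => by
    show τ (algebraMap K _ k) ∈ S
    rw [AlgHom.commutes]; exact hS k⟩
  inv_mem' := fun a ⟨ha, ha'⟩ => ⟨inv_mem ha, fun τ => by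
    show τ (⟨a, ha⟩⁻¹) ∈ S
    rw [map_inv₀]; exact S.inv_mem (ha' τ)⟩

variable {K S} {hS : ∀ k : K, algebraMap K Ω k ∈ S}

theorem mem_conjField_of_root {g : K[X]} (hg : g.Monic) (hroot : ∀ y : Ω, aeval y g = 0 → y ∈ S) {x : Ω}
    (hx : aeval x g = 0) : x ∈ conjField K S hS := by
  have hmem : x ∈ algebraicClosure K Ω := mem_algebraicClosure_iff.2 ⟨g, hg.ne_zero, hx⟩
  refine ⟨hmem, fun τ => hroot _ ?_⟩
  have h0 : aeval (⟨x, hmem⟩ : algebraicClosure K Ω) g = 0 := Subtype.ext (by
    rw [← IntermediateField.aeval_coe]; exact hx)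
  rw [aeval_algHom_apply, h0, map_zero]

theorem isAlgebraic_of_mem_conjField {x : Ω} (hx : x ∈ conjField K S hS) : IsAlgebraic K x :=
  mem_algebraicClosure_iff.1 hx.1

theorem conj_mem [IsAlgClosed Ω] {x : Ω} (hx : x ∈ conjField K S hS) {y : Ω} (hy : aeval y (minpoly K x) = 0) :
    y ∈ S := by
  obtain ⟨hxm, h⟩ := hx
  haveI : Algebra.IsAlgebraic K (algebraicClosure K Ω) := algebraicClosure.isAlgebraic K Ω
  obtain ⟨τ, hτ⟩ := IntermediateField.exists_algHom_of_splits_of_aeval (F := K) (E := algebraicClosure K Ω) (K := Ω)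
    (fun s => ⟨(Algebra.IsAlgebraic.isAlgebraic s).isIntegral, IsAlgClosed.splits _⟩) (x := ⟨x, hxm⟩) (y := y) (by
      rw [IntermediateField.minpoly_eq]
      exact hy)
  exact hτ ▸ h τ

end Conj

theorem pow_sub_pow_mem {R : Type u} [CommRing R] [IsLocalRing R] {p : ℕ} (hpR : (p : R) ∈ maximalIdeal R) {j : ℕ}
    (hj : j ≠ 0) {x y : R} (h : x - y ∈ maximalIdeal R ^ j) : x ^ p - y ^ p ∈ maximalIdeal R ^ (j + 1) := by
  rw [← geom_sum₂_mul, pow_succ']
  refine Ideal.mul_mem_mul ?_ h
  have hxy : residue R x = residue R y := by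
    rw [← sub_eq_zero, ← map_sub, residue_eq_zero_iff]
    exact Ideal.pow_le_self hj h
  rw [← residue_eq_zero_iff, map_sum]
  simp only [map_mul, map_pow, hxy, ← pow_add]
  rw [Finset.sum_congr rfl fun i hi => by rw [show i + (p - 1 - i) = p - 1 by have := Finset.mem_range.1 hi; omega],
    Finset.sum_const, Finset.card_range, nsmul_eq_mul, ← map_natCast (residue R), (residue_eq_zero_iff _).2 hpR,
    zero_mul]

theorem pow_pow_sub_mem {R : Type u} [CommRing R] [IsLocalRing R] {p : ℕ} (hpR : (p : R) ∈ maximalIdeal R) {x y : R}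
    (h : x - y ∈ maximalIdeal R) (m : ℕ) : x ^ p ^ m - y ^ p ^ m ∈ maximalIdeal R ^ (m + 1) := by
  induction m with
  | zero => simpa using h
  | succ m ih => rw [pow_succ p m, pow_mul, pow_mul]; exact pow_sub_pow_mem hpR m.succ_ne_zero ih

section Lift

variable (A C Ω : Type u) [CommRing A] [IsLocalRing A] [CommRing C] [IsLocalRing C] [Field Ω]
  [Algebra A C] [IsLocalHom (algebraMap A C)] [HenselianLocalRing C] [Algebra C Ω]
  [Algebra A Ω] [IsScalarTower A C Ω]

/-- Hensel lifts of separable elements with split minimal polynomial: all roots are in the image. -/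
theorem exists_hensel_lift (hinjC : Function.Injective (algebraMap C Ω))
    (c : ResidueField C) (hc : IsSeparable (ResidueField A) c)
    (hsplit : ((minpoly (ResidueField A) c).map (algebraMap (ResidueField A) (ResidueField C))).Splits) :
    ∃ (g : A[X]) (l : C), g.Monic ∧ g.map (residue A) = minpoly (ResidueField A) c ∧ residue C l = c ∧
      aeval (algebraMap C Ω l) g = 0 ∧ ∀ y : Ω, aeval y g = 0 → ∃ r : C, algebraMap C Ω r = y := by
  classical
  have hint : IsIntegral (ResidueField A) c := hc.isIntegral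
  obtain ⟨g, hg, hgd, hgm⟩ := lifts_and_natDegree_eq_and_monic (f := residue A)
    (p := minpoly (ResidueField A) c) ((mem_lifts _).2 (map_surjective _ residue_surjective _)) (minpoly.monic hint)
  set gb := (minpoly (ResidueField A) c).map (algebraMap (ResidueField A) (ResidueField C)) with hgb
  have hgb0 : gb ≠ 0 := ((minpoly.monic hint).map _).ne_zero
  have hsep : gb.Separable := Polynomial.Separable.map hc
  have hcomm : (g.map (algebraMap A C)).map (residue C) = gb := by
    rw [hgb, ← hg, Polynomial.map_map, Polynomial.map_map]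
    rfl
  have hH : ∀ c' : ResidueField C, gb.IsRoot c' → ∃ r : C, (g.map (algebraMap A C)).IsRoot r ∧ residue C r = c' := by
    intro c' hc'
    obtain ⟨r₀, rfl⟩ := residue_surjective c'
    obtain ⟨r, hr, hr'⟩ := HenselianLocalRing.is_henselian (g.map (algebraMap A C)) (hgm.map _) r₀
      (by
        rw [← residue_eq_zero_iff, ← eval₂_at_apply, ← eval_map, hcomm]
        exact hc')
      (by
        refine notMem_maximalIdeal.1 fun hm => ?_
        rw [← residue_eq_zero_iff, ← eval₂_at_apply, ← eval_map, ← derivative_map, hcomm] at hm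
        exact hsep.eval₂_derivative_ne_zero (RingHom.id _) (x := residue C r₀) hc' hm)
    exact ⟨r, hr, by rw [← sub_eq_zero, ← map_sub, residue_eq_zero_iff]; exact hr'⟩
  choose r hr hrc using hH
  have hcroot : gb.IsRoot c := by
    rw [IsRoot.def, hgb, eval_map, ← aeval_def]
    exact minpoly.aeval _ c
  have heval : ∀ y : Ω, aeval y g = (g.map (algebraMap A Ω)).eval y := fun y => by
    rw [eval_map, ← aeval_def]
  have hrootΩ : ∀ c' hc', (g.map (algebraMap A Ω)).eval (algebraMap C Ω (r c' hc')) = 0 := fun c' hc' => by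
    rw [IsScalarTower.algebraMap_eq A C Ω, ← Polynomial.map_map, eval_map, eval₂_at_apply,
      show (g.map (algebraMap A C)).eval (r c' hc') = 0 from hr c' hc', map_zero]
  refine ⟨g, r c hcroot, hgm, hg, hrc c hcroot, by rw [heval]; exact hrootΩ c hcroot, fun y hy => ?_⟩
  by_contra hyS
  let T : Finset Ω := gb.roots.toFinset.attach.image fun c' =>
    algebraMap C Ω (r c'.1 (isRoot_of_mem_roots (Multiset.mem_toFinset.1 c'.2)))
  have hTcard : T.card = g.natDegree := by
    rw [Finset.card_image_of_injective _ (fun a b hab => Subtype.ext (by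
      have h1 := congrArg (residue C) (hinjC hab)
      rwa [hrc, hrc] at h1)), Finset.card_attach, Multiset.toFinset_card_of_nodup (nodup_roots hsep),
      ← hsplit.natDegree_eq_card_roots, hgb, natDegree_map_eq_of_injective (RingHom.injective _), hgd]
  have hy' : y ∉ T := fun hyT => by
    obtain ⟨c', -, rfl⟩ := Finset.mem_image.1 hyT
    exact hyS ⟨_, rfl⟩
  refine (hgm.map (algebraMap A Ω)).ne_zero
    (eq_zero_of_natDegree_lt_card_of_eval_eq_zero' _ (insert y T) (fun z hz => ?_) ?_)
  · rcases Finset.mem_insert.1 hz with rfl | hz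
    · rw [← heval]; exact hy
    · obtain ⟨c', -, rfl⟩ := Finset.mem_image.1 hz
      exact hrootΩ _ _
  · rw [Finset.card_insert_of_notMem hy', hTcard]
    exact (natDegree_map_le).trans_lt g.natDegree.lt_succ_self

end Lift

end Groth.Agent.EppASH7
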