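import Groth.Agent.Lib.EppASH7.Bridge
import Mathlib.RingTheory.Polynomial.ScaleRoots

/-!
# Roots of Artin–Schreier like polynomials
-/

set_option autoImplicit false
set_option linter.style.haveILetI false

universe u

open IsLocalRing Polynomial

namespace Groth.Agent.EppASH7

variable {L Ω B : Type u} [Field L] [Field Ω] [Algebra L Ω] [Algebra.IsAlgebraic L Ω]
  [CommRing B] [IsDomain B] [IsDiscreteValuationRing B] [Algebra B L] [IsFractionRing B L]
  [Algebra B Ω] [IsScalarTower B L Ω]

omit [Field L] [Algebra L Ω] [Algebra.IsAlgebraic L Ω] [IsDomain B] [IsDiscreteValuationRing B] [Algebra B L]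
  [IsFractionRing B L] [IsScalarTower B L Ω] [CommRing B] [Algebra B Ω] in
theorem charP_residue {W : ValuationSubring Ω} {p : ℕ} (hp : p.Prime) (hpW : W.valuation (p : Ω) < 1)
    {F : Type u} [Field F] (f : F →+* Ω) : CharP (ResidueField (W.comap f)) p := by
  refine (CharP.charP_iff_prime_eq_zero hp).2 ?_
  rw [← map_natCast (residue (W.comap f)), residue_eq_zero_iff, mem_maximalIdeal]
  intro hu
  have h := (W.valuation_eq_one_iff (EtRam.inclOfComap W f (p : W.comap f))).1 (hu.map _)
  rw [map_natCast] at h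
  exact hpW.ne h

/-- The common final step: `P (y) = η` integral, or with a pole of order divisible by `p` and stable residue. -/
theorem vg_of_form (W : ValuationSubring Ω) (hB : EtRam.Dominates B (algebraMap B Ω) W) {p : ℕ} (hp : p.Prime)
    (hpW : W.valuation (p : Ω) < 1) (F : IntermediateField L Ω) [FiniteDimensional L F]
    (P : (W.comap (algebraMap F Ω))[X]) (hP : P.Monic) (hPd : P.natDegree = p)
    (hPr : P.map (residue _) = X ^ p - X) (y : Ω) (η : F)
    (hy : P.eval₂ ((algebraMap F Ω).comp (W.comap (algebraMap F Ω)).subtype) y = η)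
    (hcase : η ∈ W.comap (algebraMap F Ω) ∨ ∃ (r a : W.comap (algebraMap F Ω)), (r : F) ≠ 0 ∧ r ∈ maximalIdeal _ ∧
      (a : F) = η * (r : F) ^ p ∧ ∀ b, residue _ a ≠ residue _ b ^ p) :
    VG W (F : Set Ω) (adj F y : Set Ω) := by
  classical
  let VF := W.comap (algebraMap F Ω)
  let ι : VF →+* Ω := (algebraMap F Ω).comp VF.subtype
  haveI : CharP (ResidueField VF) p := charP_residue hp hpW _
  haveI : Fact p.Prime := ⟨hp⟩
  rcases hcase with hint | ⟨r, a, hr0, hrm, ha, hna⟩
  · refine vg_of_sepRoot W hB F (P - C (⟨η, hint⟩ : VF)) (hP.sub_of_left ?_) ?_ ?_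
    · exact degree_C_le.trans_lt (by rw [degree_eq_natDegree hP.ne_zero, hPd]; exact_mod_cast hp.pos)
    · rw [Polynomial.map_sub, hPr, map_C, separable_def, derivative_sub, derivative_sub, derivative_X_pow,
        derivative_X, derivative_C, CharP.cast_eq_zero, map_zero, zero_mul, zero_sub, sub_zero]
      exact isCoprime_one_right.neg_right
    · rw [eval₂_sub, eval₂_C, hy]; exact sub_self _
  · set t : Ω := ((r : F) : Ω) * y with ht
    let g : VF[X] := P.scaleRoots r - C a
    have hgd0 : (P.scaleRoots r).natDegree = p := by rw [natDegree_scaleRoots, hPd]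
    have hsm : (P.scaleRoots r).Monic := (monic_scaleRoots_iff r).2 hP
    have hlt : (C a).degree < (P.scaleRoots r).degree := degree_C_le.trans_lt (by
      rw [degree_eq_natDegree hsm.ne_zero, hgd0]; exact_mod_cast hp.pos)
    have hgm : g.Monic := hsm.sub_of_left hlt
    have hgd : g.natDegree = p := by
      rw [← hgd0]; exact natDegree_eq_of_degree_eq (degree_sub_eq_left_of_degree_lt hlt)
    have hgt : g.eval₂ ι t = 0 := by
      rw [eval₂_sub, eval₂_C, ht, show ((r : F) : Ω) = ι r from rfl, scaleRoots_eval₂_mul, hPd, hy]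
      show ((r : F) : Ω) ^ p * (η : Ω) - ((a : F) : Ω) = 0
      rw [ha]; push_cast; ring
    let incl : VF →+* W := EtRam.inclOfComap W (algebraMap F Ω)
    have htW : t ∈ W := by
      obtain ⟨w, hw⟩ := IsIntegrallyClosed.algebraMap_eq_of_integral (R := W) (K := Ω) (x := t)
        ⟨g.map incl, hgm.map _, by rw [eval₂_map]; exact hgt⟩
      rw [← hw]; exact w.2
    have hta : W.valuation (t ^ p - ((a : F) : Ω)) < 1 := by
      have h0 : g.eval₂ incl (⟨t, htW⟩ : W) = 0 := Subtype.ext (by
        show W.subtype _ = 0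
        rw [hom_eval₂]; exact hgt)
      have h1 := congrArg (residue W) h0
      rw [map_zero, hom_eval₂, show (residue W).comp incl = (ResidueField.map incl).comp (residue VF) from rfl,
        ← eval₂_map, Polynomial.map_sub, map_scaleRoots _ _ _ (by rw [hP.leadingCoeff, map_one]; exact one_ne_zero),
        hPr, map_C, (residue_eq_zero_iff r).2 hrm, scaleRoots_zero] at h1
      have hd : (X ^ p - X : (ResidueField VF)[X]).natDegree = p := by
        rw [natDegree_sub_eq_left_of_natDegree_lt (by rw [natDegree_X, natDegree_X_pow]; exact hp.one_lt), natDegree_X_pow]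
      have hm : (X ^ p - X : (ResidueField VF)[X]).leadingCoeff = 1 := by
        rw [← hPr]; exact (hP.map _)
      rw [hm, hd, one_smul, eval₂_sub, eval₂_X_pow, eval₂_C, ← map_pow, ResidueField.map_residue, ← map_sub,
        residue_eq_zero_iff, ValuationSubring.valuation_lt_one_iff] at h1
      exact h1
    have hadj : adj F y ≤ adj F t := adj_le F (le_adj F t) (by
      have : y = ((r : F) : Ω)⁻¹ * t := by
        rw [ht, ← mul_assoc, inv_mul_cancel₀ (fun h => hr0 (Subtype.ext h)), one_mul]
      rw [this]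
      exact (adj F t).mul_mem ((adj F t).inv_mem (le_adj F t (r : F).2)) (mem_adj F t))
    refine VG.mono (vg_of_insep hp F.toSubfield t ((a : F) : Ω) htW a.2 (a : F).2 hta
      (fun b hb hbW h => hna ⟨⟨b, hb⟩, hbW⟩ ?_) (adj F t : Set Ω) ?_) (fun x hx => hadj hx)
    · rw [← map_pow, ← sub_eq_zero, ← map_sub, residue_eq_zero_iff, mem_maximalIdeal]
      intro hu
      refine (h.ne ?_)
      exact (W.valuation_eq_one_iff (incl (a - (⟨⟨b, hb⟩, hbW⟩ : VF) ^ p))).1 (hu.map incl)
    · exact fun x hx => adj_repr F (g.map VF.subtype) (hgm.map _)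
        (by rw [hgm.natDegree_map, hgd]) (by rw [aeval_def, eval₂_map]; exact hgt) x hx

end Groth.Agent.EppASH7
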