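import Groth.Agent.Lib.EppASH7.GoodLevel
import Groth.Agent.Lib.EtRamH7.InsepPrime
import Groth.Agent.S1983
import Mathlib.FieldTheory.PrimitiveElement
import Mathlib.FieldTheory.IsAlgClosed.AlgebraicClosure

/-!
# Solutions for extensions which are finite separable over a residually independent purely transcendental field
-/

set_option autoImplicit false
set_option linter.style.haveILetI false

universe u

open IsLocalRing Polynomial

namespace Groth.Agent.EppASH7

section Tools

variable {K Ω : Type u} [Field K] [Field Ω] [Algebra K Ω] {ι : Type u} [Finite ι] {x : ι → Ω}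

omit [Finite ι] in
theorem resIndep_bot {W : ValuationSubring Ω} {hx : ∀ i, x i ∈ W}
    (h : AlgebraicIndependent (rsub W (algebraMap K Ω).fieldRange) fun i => res (W := W) (x i) (hx i)) :
    ResIndep (⊥ : IntermediateField K Ω) hx :=
  resIndep_of_isAlgebraic hx h fun c hc => by
    obtain ⟨a, rfl⟩ := IntermediateField.mem_bot.1 hc
    exact isAlgebraic_algebraMap a

omit [Finite ι] in
theorem mem_adjoin_over (E : IntermediateField K Ω) {y : Ω} (hy : y ∈ IntermediateField.adjoin K (Set.range x)) :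
    y ∈ IntermediateField.adjoin E (Set.range x) := by
  induction hy using IntermediateField.adjoin_induction with
  | mem z hz => exact IntermediateField.subset_adjoin E _ hz
  | algebraMap c => exact (IntermediateField.adjoin E (Set.range x)).algebraMap_mem ⟨_, E.algebraMap_mem c⟩
  | add _ _ _ _ ha hb => exact add_mem ha hb
  | inv _ _ ha => exact inv_mem ha
  | mul _ _ _ _ ha hb => exact mul_mem ha hb

omit [Finite ι] in
/-- Two Gauss extensions of the same valuation agree on the field generated by the independent elements. -/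
theorem mem_iff_of_gauss (W W' : ValuationSubring Ω) (hx : ∀ i, x i ∈ W) (hx' : ∀ i, x i ∈ W')
    {E : IntermediateField K Ω} (hi : ResIndep E hx) (hi' : ResIndep E hx')
    (hE : ∀ c ∈ E, c ∈ W' ↔ c ∈ W) {y : Ω}
    (hy : y ∈ IntermediateField.adjoin E (Set.range x)) : y ∈ W ↔ y ∈ W' := by
  classical
  obtain ⟨P, Q, rfl⟩ := (IntermediateField.mem_adjoin_range_iff _ x y).1 hy
  obtain ⟨α, hα, hαm⟩ := valuation_mvaeval hx hi P
  obtain ⟨γ, hγ, hγm⟩ := valuation_mvaeval hx hi Q
  obtain ⟨α', hα', hαm'⟩ := valuation_mvaeval hx' hi' P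
  obtain ⟨γ', hγ', hγm'⟩ := valuation_mvaeval hx' hi' Q
  rcases eq_or_ne (MvPolynomial.aeval x Q) 0 with h0 | h0
  · rw [h0, div_zero]; exact iff_of_true (zero_mem _) (zero_mem _)
  have hmem : ∀ (V : ValuationSubring Ω) (a b : Ω), b ≠ 0 → (a / b ∈ V ↔ V.valuation a ≤ V.valuation b) :=
    fun V a b hb => by
      rw [← V.valuation_le_one_iff, map_div₀, div_le_one₀ (pos_iff_ne_zero.2 ((_root_.map_ne_zero _).2 hb))]
  -- comparisons between elements of the ground field agree
  have hcmp : ∀ a b : E, W.valuation (a : Ω) ≤ W.valuation (b : Ω) ↔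
      W'.valuation (a : Ω) ≤ W'.valuation (b : Ω) := by
    intro a b
    rcases eq_or_ne (b : Ω) 0 with hb | hb
    · rw [hb, map_zero, map_zero, le_zero_iff, le_zero_iff, map_eq_zero, map_eq_zero]
    rw [← hmem W _ _ hb, ← hmem W' _ _ hb]
    exact (hE _ (div_mem a.2 b.2)).symm
  rw [hmem W _ _ h0, hmem W' _ _ h0, hα, hγ, hα', hγ']
  refine ⟨fun h => ?_, fun h => ?_⟩
  · exact ((hcmp _ _).1 ((hαm α').trans h)).trans (hγm' γ)
  · exact ((hcmp _ _).2 ((hαm' α).trans h)).trans (hγm γ')

omit [Finite ι] in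
/-- Residual independence over the residue field of a dominated DVR. -/
theorem resIndep_range {A B : Type u} [CommRing A] [IsDomain A] [IsDiscreteValuationRing A] [CommRing B]
    [IsLocalRing B] [Algebra A B] [IsLocalHom (algebraMap A B)] [Algebra A K] [IsFractionRing A K] [Algebra A Ω]
    [IsScalarTower A K Ω] [Algebra B Ω] [IsScalarTower A B Ω] {W : ValuationSubring Ω}
    (hW : EtRam.Dominates B (algebraMap B Ω) W) (y : ι → B)
    (hy : AlgebraicIndependent (ResidueField A) fun i => residue B (y i)) (hx : ∀ i, algebraMap B Ω (y i) ∈ W) :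
    AlgebraicIndependent (rsub W (algebraMap K Ω).fieldRange) fun i => res (W := W) (algebraMap B Ω (y i)) (hx i) := by
  classical
  let cB : B →+* W := RingHom.codRestrict (algebraMap B Ω) W hW.1
  haveI : IsLocalHom cB := EtRamH7.isLocalHom_cod hW
  let jB : ResidueField B →+* ResidueField W := ResidueField.map cB
  let φ : ResidueField A →+* ResidueField W := jB.comp (algebraMap (ResidueField A) (ResidueField B))
  letI : Algebra (ResidueField A) (ResidueField W) := φ.toAlgebra
  let jBa : ResidueField B →ₐ[ResidueField A] ResidueField W := { jB with commutes' := fun _ => rfl }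
  have h1 : AlgebraicIndependent (ResidueField A) fun i => res (W := W) (algebraMap B Ω (y i)) (hx i) :=
    hy.map' (f := jBa) jB.injective
  have hsurj : ∀ r ∈ rsub W (algebraMap K Ω).fieldRange, ∃ a : ResidueField A, φ a = r := by
    intro r hr
    obtain ⟨c, hcW, ⟨k, rfl⟩, rfl⟩ := exists_of_mem_rsub hr
    obtain ⟨a, rfl⟩ : ∃ a, algebraMap A K a = k := by
      rcases ValuationRing.isInteger_or_isInteger A k with h | ⟨a, ha⟩
      · exact h
      by_cases hu : IsUnit a
      · obtain ⟨u, rfl⟩ := hu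
        exact ⟨↑u⁻¹, by rw [map_units_inv, ha, inv_inv]⟩
      have h1 : W.valuation (algebraMap B Ω (algebraMap A B a)) < 1 :=
        hW.2 _ (((local_hom_TFAE (algebraMap A B)).out 0 2 rfl rfl).1 inferInstance
          (Ideal.mem_map_of_mem _ ((mem_maximalIdeal a).2 hu)))
      rw [← IsScalarTower.algebraMap_apply, IsScalarTower.algebraMap_apply A K Ω, ha, map_inv₀, map_inv₀] at h1
      rcases eq_or_ne k 0 with rfl | hk
      · exact ⟨0, map_zero _⟩
      rw [inv_lt_one₀ (pos_iff_ne_zero.2 ((_root_.map_ne_zero _).2 ((_root_.map_ne_zero _).2 hk)))] at h1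
      exact absurd ((W.valuation_le_one_iff _).2 hcW) (not_le.2 h1)
    refine ⟨residue A a, ?_⟩
    show residue W (cB (algebraMap A B a)) = residue W ⟨_, hcW⟩
    exact congrArg (residue W) (Subtype.ext (by
      show algebraMap B Ω (algebraMap A B a) = algebraMap K Ω (algebraMap A K a)
      rw [← IsScalarTower.algebraMap_apply, IsScalarTower.algebraMap_apply A K Ω]))
  rw [algebraicIndependent_iff] at h1 ⊢
  intro Q hQ
  choose g hg using fun r : rsub W (algebraMap K Ω).fieldRange => hsurj r r.2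
  let P : MvPolynomial ι (ResidueField A) := ∑ α ∈ Q.support, MvPolynomial.monomial α (g (Q.coeff α))
  have hP : P = 0 := h1 P (by
    rw [← hQ, show MvPolynomial.aeval _ P = ∑ α ∈ Q.support, MvPolynomial.aeval _
      (MvPolynomial.monomial α (g (Q.coeff α))) from map_sum _ _ _]
    conv_rhs => rw [Q.as_sum, map_sum]
    refine Finset.sum_congr rfl fun α _ => ?_
    rw [MvPolynomial.aeval_monomial, MvPolynomial.aeval_monomial]
    exact congrArg (· * _) (hg _))
  refine MvPolynomial.ext _ _ fun α => ?_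
  rw [MvPolynomial.coeff_zero]
  by_contra hne
  have h2 : P.coeff α = g (Q.coeff α) := by
    simp [P, MvPolynomial.coeff_sum, MvPolynomial.coeff_monomial, MvPolynomial.mem_support_iff.2 hne]
  rw [hP, MvPolynomial.coeff_zero] at h2
  refine hne (Subtype.ext ?_)
  rw [← hg, ← h2, map_zero]
  rfl

/-- Goodness is invariant under conjugation. -/
theorem good_conj {E F : Type u} [Field E] [Field F] (W : ValuationSubring F) (i : E →+* F) (τ : F →+* F)
    (τ₁ : E →+* E) (hτ₁ : Function.Bijective τ₁) (h : τ.comp i = i.comp τ₁) (hg : EtRamH7.Good W i) :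
    EtRamH7.Good (W.comap τ) i :=
  EtRamH7.good_descend W i τ (h ▸ EtRamH7.good_comp W τ₁ i (EtRamH7.good_of_bijective _ _ hτ₁) hg)

/-- A splitting field inside an algebraically closed field is finite and normal. -/
theorem normal_adjoin_rootSet {F : Type u} [Field F] [Algebra F Ω] [IsAlgClosed Ω] (P : Polynomial F) :
    Normal F (IntermediateField.adjoin F (P.rootSet Ω)) ∧
      FiniteDimensional F (IntermediateField.adjoin F (P.rootSet Ω)) := by
  haveI : IsSplittingField F (IntermediateField.adjoin F (P.rootSet Ω)) P :=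
    IntermediateField.adjoin_rootSet_isSplittingField (IsAlgClosed.splits _)
  exact ⟨Normal.of_isSplittingField P, IsSplittingField.finiteDimensional _ P⟩

end Tools

/-- A primitive element for the roots of a separable polynomial. -/
theorem exists_split_element {F Ω : Type u} [Field F] [Field Ω] [Algebra F Ω] [IsAlgClosed Ω] {f : Polynomial F}
    (hf : f.Separable) :
    ∃ θ ∈ IntermediateField.adjoin F (f.rootSet Ω), IsSeparable F θ ∧
      (∀ r : Ω, aeval r (minpoly F θ) = 0 → r ∈ IntermediateField.adjoin F ({θ} : Set Ω)) ∧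
      f.rootSet Ω ⊆ IntermediateField.adjoin F ({θ} : Set Ω) := by
  set N : IntermediateField F Ω := IntermediateField.adjoin F (f.rootSet Ω) with hN
  haveI : IsSplittingField F N f := IntermediateField.adjoin_rootSet_isSplittingField (IsAlgClosed.splits _)
  haveI : Normal F N := Normal.of_isSplittingField f
  haveI : FiniteDimensional F N := IsSplittingField.finiteDimensional _ f
  haveI : IsGalois F N := IsGalois.of_separable_splitting_field hf
  obtain ⟨θ₀, hθ₀⟩ := Field.exists_primitive_element F N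
  have hNθ : N = IntermediateField.adjoin F ({(θ₀ : Ω)} : Set Ω) := by
    have h1 := congrArg (IntermediateField.map N.val) hθ₀
    rw [IntermediateField.adjoin_map, ← AlgHom.fieldRange_eq_map, IntermediateField.fieldRange_val,
      Set.image_singleton] at h1
    exact h1.symm
  have hmin : minpoly F (θ₀ : Ω) = minpoly F θ₀ := minpoly.algHom_eq N.val Subtype.val_injective θ₀
  refine ⟨θ₀, θ₀.2, ?_, fun r hr => ?_, fun r hr => hNθ ▸ IntermediateField.subset_adjoin F _ hr⟩
  · show (minpoly F (θ₀ : Ω)).Separable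
    rw [hmin]
    exact Algebra.IsSeparable.isSeparable F θ₀
  · rw [← hNθ]
    rw [hmin] at hr
    have h0 : (minpoly F θ₀).map (algebraMap F N) ≠ 0 :=
      ((minpoly.monic (IsIntegral.of_finite F θ₀)).map _).ne_zero
    obtain ⟨s, hs⟩ := Splits.mem_range_of_isRoot (Normal.splits (inferInstance : Normal F N) θ₀) h0
      (i := algebraMap N Ω) (x := r)
      (by rw [IsRoot, Polynomial.map_map, ← IsScalarTower.algebraMap_eq, eval_map, ← aeval_def, hr])
    exact hs ▸ s.2

variable {K Ω : Type u} [Field K] [Field Ω] [Algebra K Ω]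

/-- Enlarging the finite bottom keeps goodness. -/
theorem good_compositum (W : ValuationSubring Ω) {K' M' : IntermediateField K Ω} (hKM' : K' ≤ M')
    (hgood : EtRamH7.Good (W.comap (algebraMap M' Ω)) (IntermediateField.inclusion hKM').toRingHom)
    [IsDiscreteValuationRing (W.comap (algebraMap M' Ω))] [IsDiscreteValuationRing (W.comap (algebraMap K' Ω))]
    {K₁ : IntermediateField K Ω} (hK : K' ≤ K₁) [FiniteDimensional K K₁] :
    ∃ (M₀ : IntermediateField M' Ω) (g₀ : K₁ →+* M₀), (∀ c : K₁, ((g₀ c : M₀) : Ω) = c) ∧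
      M₀ = IntermediateField.adjoin M' (K₁ : Set Ω) ∧ EtRamH7.Good (W.comap (algebraMap M₀ Ω)) g₀ := by
  let cM : M' →+* Ω := algebraMap M' Ω
  letI algK : Algebra K' M' := (IntermediateField.inclusion hKM').toRingHom.toAlgebra
  letI : Algebra K' K₁ := (IntermediateField.inclusion hK).toRingHom.toAlgebra
  haveI : IsScalarTower K K' K₁ := IsScalarTower.of_algebraMap_eq fun _ => rfl
  haveI : IsScalarTower K' K₁ Ω := IsScalarTower.of_algebraMap_eq fun _ => rfl
  haveI : IsScalarTower K' M' Ω := IsScalarTower.of_algebraMap_eq fun _ => rfl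
  haveI : FiniteDimensional K' K₁ := Module.Finite.of_restrictScalars_finite K K' K₁
  let VM : ValuationSubring M' := W.comap cM
  let VK : ValuationSubring K' := VM.comap (algebraMap K' M')
  haveI : IsDiscreteValuationRing VK := ‹IsDiscreteValuationRing (W.comap (algebraMap K' Ω))›
  letI algV : Algebra VK VM := (EtRam.inclOfComap VM (algebraMap K' M')).toAlgebra
  haveI : IsLocalHom (algebraMap VK VM) := EtRam.isLocalHom_inclOfComap _ _
  haveI : IsScalarTower VK K' M' := IsScalarTower.of_algebraMap_eq fun _ => rfl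
  haveI : IsScalarTower VK VM M' := IsScalarTower.of_algebraMap_eq fun _ => rfl
  haveI : Algebra.IsGeometricallyReduced (ResidueField VK) (ResidueField VM) :=
    EtRamH7.geomRed_canonical hgood.2
  have hsol := Groth.Agent.S1983.result VK VM K' M'
    (fun a c h => Subtype.ext ((algebraMap K' M').injective (congrArg Subtype.val h))) hgood.1 K₁
  let M₀ : IntermediateField M' Ω := IntermediateField.adjoin M' (Set.range fun c : K₁ => (c : Ω))
  have hcM : ∀ c : K₁, (c : Ω) ∈ M₀ := fun c => IntermediateField.subset_adjoin M' _ ⟨c, rfl⟩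
  let g₀ : K₁ →+* M₀ := RingHom.codRestrict (algebraMap K₁ Ω) M₀ hcM
  letI : Algebra K₁ M₀ := g₀.toAlgebra
  haveI : IsScalarTower K' K₁ M₀ := IsScalarTower.of_algebraMap_eq fun _ => rfl
  have htop : Algebra.adjoin M' (Set.range (algebraMap K₁ M₀)) = ⊤ :=
    EtRamH7.adjoin_range_codRestrict_eq_top (fun c : K₁ => (c : Ω)) M₀ rfl
      (fun c => ((IsIntegral.of_finite K' c).map (IsScalarTower.toAlgHom K' K₁ Ω)).tower_top) g₀ fun _ => rfl
  refine ⟨M₀, g₀, fun _ => rfl, ?_, hsol M₀ htop (W.comap (algebraMap M₀ Ω))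
    (EtRamH7.dominates_comap (algebraMap M₀ Ω) (EtRamH7.dominates_self_comap cM W))⟩
  exact congrArg (IntermediateField.adjoin M') (Set.ext fun z => ⟨fun ⟨c, hc⟩ => hc ▸ c.2, fun hz => ⟨⟨z, hz⟩, rfl⟩⟩)

variable [IsAlgClosed Ω]

omit [IsAlgClosed Ω] in
/-- A finite normal extension containing a given finite one. -/
theorem exists_normal_over (K' : IntermediateField K Ω) [FiniteDimensional K K'] :
    ∃ g : Polynomial K, g.Monic ∧ K' ≤ IntermediateField.adjoin K (g.rootSet Ω) := by
  classical
  let b := Module.finBasis K K'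
  let g : Polynomial K := ∏ j, minpoly K ((b j : K') : Ω)
  have hg0 : g.Monic := monic_prod_of_monic _ _ fun j _ =>
    minpoly.monic ((IsIntegral.of_finite K (b j)).map K'.val)
  refine ⟨g, hg0, fun z hz => ?_⟩
  have hbz : ∀ j, ((b j : K') : Ω) ∈ IntermediateField.adjoin K (g.rootSet Ω) := fun j =>
    IntermediateField.subset_adjoin K _ (by
      rw [mem_rootSet']
      refine ⟨(hg0.map _).ne_zero, ?_⟩
      rw [map_prod]
      exact Finset.prod_eq_zero (Finset.mem_univ j) (minpoly.aeval K _))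
  have h2 := congrArg (fun w : K' => (w : Ω)) (b.sum_repr ⟨z, hz⟩)
  push_cast at h2
  rw [← h2]
  exact sum_mem fun j _ => IntermediateField.smul_mem _ (hbz j)

theorem normal_level_aux (W : ValuationSubring Ω) {F₀ M' K₁ : IntermediateField K Ω} (f : Polynomial F₀)
    (hf : f ≠ 0) {g : Polynomial K} (hg0 : g.Monic) (hK₁ : K₁ = IntermediateField.adjoin K (g.rootSet Ω))
    (hFM : ∀ c ∈ F₀, c ∈ M') (hfM : ∀ r ∈ f.rootSet Ω, r ∈ M') {M₀ : IntermediateField M' Ω}
    (hM₀ : M₀ = IntermediateField.adjoin M' (K₁ : Set Ω)) {g₀ : K₁ →+* M₀} (hg₀ : ∀ c : K₁, ((g₀ c : M₀) : Ω) = c)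
    (hgood : EtRamH7.Good (W.comap (algebraMap M₀ Ω)) g₀) :
    ∃ (M₂ : IntermediateField F₀ Ω) (i : K₁ →+* M₂), FiniteDimensional F₀ M₂ ∧ Normal F₀ M₂ ∧
      (∀ c : K₁, ((i c : M₂) : Ω) = c) ∧ f.rootSet Ω ⊆ M₂ ∧ EtRamH7.Good (W.comap (algebraMap M₂ Ω)) i := by
  classical
  obtain ⟨hPn, hPf⟩ := normal_adjoin_rootSet (Ω := Ω) (f * g.map (algebraMap K F₀))
  have hP0 : f * g.map (algebraMap K F₀) ≠ 0 := mul_ne_zero hf (hg0.map _).ne_zero
  haveI : Module.IsTorsionFree F₀ Ω := .trans_faithfulSMul F₀ Ω Ω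
  have hrootP : (f * g.map (algebraMap K F₀)).rootSet Ω = f.rootSet Ω ∪ g.rootSet Ω := by
    ext r
    simp only [Set.mem_union, mem_rootSet_of_ne hP0, mem_rootSet_of_ne hf,
      mem_rootSet_of_ne hg0.ne_zero, map_mul, mul_eq_zero, aeval_map_algebraMap]
  set M₂ : IntermediateField F₀ Ω := IntermediateField.adjoin F₀ ((f * g.map (algebraMap K F₀)).rootSet Ω) with hM₂
  have hK₁M₂ : ∀ c : K₁, (c : Ω) ∈ M₂ := fun c => by
    have h1 : K₁ ≤ M₂.restrictScalars K := hK₁.le.trans (IntermediateField.adjoin_le_iff.2 fun r hr =>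
      IntermediateField.subset_adjoin F₀ _ (hrootP.symm ▸ Or.inr hr))
    exact h1 c.2
  have hM₂M₀ : ∀ z : M₂, (z : Ω) ∈ M₀ := fun z => by
    obtain ⟨z, hz⟩ := z
    induction hz using IntermediateField.adjoin_induction with
    | mem y hy =>
      rw [hrootP] at hy
      rcases hy with hy | hy
      · exact M₀.algebraMap_mem ⟨y, hfM y hy⟩
      · rw [hM₀]
        exact IntermediateField.subset_adjoin M' _ (hK₁ ▸ IntermediateField.subset_adjoin K _ hy)
    | algebraMap a => exact M₀.algebraMap_mem ⟨_, hFM _ a.2⟩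
    | add _ _ _ _ ha hb => exact M₀.add_mem ha hb
    | inv _ _ ha => exact M₀.inv_mem ha
    | mul _ _ _ _ ha hb => exact M₀.mul_mem ha hb
  let i : K₁ →+* M₂ := RingHom.codRestrict (algebraMap K₁ Ω) M₂ hK₁M₂
  let e : M₂ →+* M₀ := RingHom.codRestrict (algebraMap M₂ Ω) M₀ hM₂M₀
  have hei : e.comp i = g₀ := RingHom.ext fun c => Subtype.ext (hg₀ c).symm
  exact ⟨M₂, i, hPf, hPn, fun _ => rfl,
    fun r hr => IntermediateField.subset_adjoin F₀ _ (hrootP.symm ▸ Or.inl hr),
    EtRamH7.good_descend (W.comap (algebraMap M₀ Ω)) i e (hei.symm ▸ hgood)⟩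

/-- A finite normal level which is good, in a form convenient for conjugation. -/
theorem exists_normal_good_level {p : ℕ} (hp : p.Prime) {A : Type u} [CommRing A] [IsDomain A]
    [IsDiscreteValuationRing A] [Algebra A K] [IsFractionRing A K] [Algebra A Ω] [IsScalarTower A K Ω]
    (W : ValuationSubring Ω) (hA : EtRam.Dominates A (algebraMap A Ω) W) [CharP (ResidueField W) p] {ι : Type u}
    [Finite ι] {x : ι → Ω} (hx : ∀ i, x i ∈ W)
    (hind : AlgebraicIndependent (rsub W (algebraMap K Ω).fieldRange) fun i => res (W := W) (x i) (hx i))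
    (f : Polynomial (IntermediateField.adjoin K (Set.range x))) (hf : f.Separable) :
    ∃ (K₁ : IntermediateField K Ω) (M₂ : IntermediateField (IntermediateField.adjoin K (Set.range x)) Ω)
      (i : K₁ →+* M₂), FiniteDimensional K K₁ ∧ Normal K K₁ ∧
      FiniteDimensional (IntermediateField.adjoin K (Set.range x)) M₂ ∧
      Normal (IntermediateField.adjoin K (Set.range x)) M₂ ∧
      (∀ c : K₁, ((i c : M₂) : Ω) = c) ∧ f.rootSet Ω ⊆ M₂ ∧
      EtRamH7.Good (W.comap (algebraMap M₂ Ω)) i := by
  classical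
  obtain ⟨θ, hθN, hsepθ, hsplit, hfθ⟩ := exists_split_element (Ω := Ω) hf
  obtain ⟨E₁, ϖ, hE₁, hϖE, hϖ0, hϖ1, hval, hperf⟩ := exists_perfLevel (K := K) W hp hA hx hind {θ}
    ⟨{θ}, by simp, fun z hz => IntermediateField.subset_adjoin K _ (Or.inr (by simpa using hz)),
      fun t ht => by rw [Finset.mem_singleton.1 ht]; exact hsepθ.isIntegral⟩
  obtain ⟨K', M', hKM', hK'fin, hM', hgood, hdM, hdK⟩ :=
    exists_good_level hp W hx hind θ hsepθ hsplit E₁ hE₁ ϖ hϖE hϖ0 hϖ1 hval hperf
  haveI := hK'fin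
  haveI := hdM
  haveI := hdK
  obtain ⟨g, hg0, hK'K₁⟩ := exists_normal_over (Ω := Ω) K'
  obtain ⟨hK₁n, hK₁f⟩ := normal_adjoin_rootSet (Ω := Ω) g
  set K₁ : IntermediateField K Ω := IntermediateField.adjoin K (g.rootSet Ω) with hK₁
  haveI := hK₁f
  obtain ⟨M₀, g₀, hg₀, hM₀, hgood₀⟩ := good_compositum W hKM' hgood hK'K₁
  obtain ⟨M₂, i, hfin, hnor, hi, hfM, hg⟩ := normal_level_aux W f hf.ne_zero hg0 hK₁
    (fun c hc => by rw [hM']; exact IntermediateField.adjoin.mono K _ _ (fun w hw => Or.inl (Or.inr hw)) hc)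
    (fun r hr => by
      rw [hM']
      exact IntermediateField.adjoin.mono K _ _ (Set.union_subset_union_left _ Set.subset_union_right)
        (mem_adjoin_union_singleton (hfθ hr)))
    hM₀ hg₀ hgood₀
  exact ⟨K₁, M₂, i, hK₁f, hK₁n, hfin, hnor, hi, hfM, hg⟩

end Groth.Agent.EppASH7
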