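import Groth.Agent.S1403
import Mathlib.RingTheory.AlgebraicIndependent.TranscendenceBasis
import Mathlib.FieldTheory.IntermediateField.Adjoin.Algebra

/-!
# Existence of a residually independent frame
-/

set_option autoImplicit false
set_option linter.style.haveILetI false

universe u

open IsLocalRing

namespace Groth.Agent.EppASH7

/-- An essentially finite type extension of DVRs is finite over a residually independent frame. -/
theorem exists_frame (A B K L : Type u) [CommRing A] [IsDomain A] [IsDiscreteValuationRing A]
    [CommRing B] [IsDomain B] [IsDiscreteValuationRing B] [Algebra A B] [IsLocalHom (algebraMap A B)]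
    (hinj : Function.Injective (algebraMap A B))
    [Field K] [Field L] [Algebra A K] [IsFractionRing A K] [Algebra B L] [IsFractionRing B L]
    [Algebra K L] [Algebra A L] [IsScalarTower A K L] [IsScalarTower A B L] [Algebra.EssFiniteType A B] :
    ∃ (ι : Type u) (_ : Finite ι) (x : ι → B), AlgebraicIndependent (ResidueField A) (fun i => residue B (x i)) ∧
      FiniteDimensional (IntermediateField.adjoin K (Set.range fun i => algebraMap B L (x i))) L := by
  classical
  haveI : FaithfulSMul A B := (faithfulSMul_iff_algebraMap_injective A B).2 hinj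
  haveI : Module.Flat A B := by
    haveI : Module.IsTorsionFree A B := .trans_faithfulSMul A B B
    infer_instance
  obtain ⟨d, e, hd, he, htr⟩ := Groth.Agent.S1403.result (A := A) (B := B)
  -- the closed fibre is zero-dimensional
  have hd0 : d = 0 := by
    obtain ⟨π, hπ⟩ := IsDiscreteValuationRing.exists_irreducible A
    set I := Ideal.map (algebraMap A B) (maximalIdeal A) with hI
    have hI0 : I ≠ ⊥ := fun h => IsDiscreteValuationRing.not_a_field A ((Ideal.map_eq_bot_iff_of_injective hinj).1 h)
    haveI : Ring.KrullDimLE 0 (B ⧸ I) := Ring.KrullDimLE.mk₀ fun P hP => by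
      haveI := hP
      have h1 : (P.comap (Ideal.Quotient.mk I)).IsMaximal :=
        Ideal.IsPrime.isMaximal inferInstance fun h => hI0 (le_bot_iff.1 (h ▸ fun z hz => by
          show Ideal.Quotient.mk I z ∈ P
          rw [Ideal.Quotient.eq_zero_iff_mem.2 hz]; exact P.zero_mem))
      haveI := h1
      rcases Ideal.map_eq_top_or_isMaximal_of_surjective (Ideal.Quotient.mk I) Ideal.Quotient.mk_surjective h1 with
        h2 | h2
      · rw [Ideal.map_comap_of_surjective _ Ideal.Quotient.mk_surjective] at h2
        exact absurd h2 hP.ne_top
      · rwa [Ideal.map_comap_of_surjective _ Ideal.Quotient.mk_surjective] at h2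
    have h0 : ringKrullDim (B ⧸ I) ≤ 0 := Ring.krullDimLE_iff.1 inferInstance
    rw [hd] at h0
    exact Nat.le_zero.1 (by exact_mod_cast h0)
  subst hd0
  rw [zero_add] at htr
  obtain ⟨ι, y, hy⟩ := exists_isTranscendenceBasis' (ResidueField A) (ResidueField B)
  have hι : Cardinal.mk ι = e := hy.cardinalMk_eq_trdeg.trans he
  haveI : Finite ι := Cardinal.lt_aleph0_iff_finite.1 (hι ▸ Cardinal.natCast_lt_aleph0)
  let x : ι → B := fun i => Function.surjInv residue_surjective (y i)
  have hxy : (fun i => residue B (x i)) = y := funext fun i => Function.surjInv_eq residue_surjective (y i)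
  refine ⟨ι, inferInstance, x, hxy ▸ hy.1, ?_⟩
  have hindA : AlgebraicIndependent A x :=
    DimClosedH1.algebraicIndependent_of_flat (IsScalarTower.toAlgHom A B (ResidueField B)) x (by
      show AlgebraicIndependent (ResidueField A) fun i => residue B (x i)
      rw [hxy]; exact hy.1)
  have htb : IsTranscendenceBasis A x :=
    hindA.isTranscendenceBasis_of_trdeg_le_of_finite (le_of_eq (htr.trans hι.symm))
  set F := IntermediateField.adjoin K (Set.range fun i => algebraMap B L (x i)) with hF
  haveI : Algebra.EssFiniteType A L := by
    haveI : Algebra.EssFiniteType B L := Algebra.EssFiniteType.of_isLocalization L (nonZeroDivisors B)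
    exact Algebra.EssFiniteType.comp A B L
  haveI : Algebra.EssFiniteType K L := Algebra.EssFiniteType.of_comp A K L
  obtain ⟨S, hS⟩ := IntermediateField.fg_top (F := K) (E := L)
  have halg : ∀ b : B, IsIntegral F (algebraMap B L b) := by
    intro b
    have h1 : IsAlgebraic (Algebra.adjoin A (Set.range x)) b := htb.isAlgebraic.isAlgebraic b
    obtain ⟨P, hP0, hPb⟩ := h1
    let j : Algebra.adjoin A (Set.range x) →+* F :=
      RingHom.codRestrict ((algebraMap B L).comp (Algebra.adjoin A (Set.range x)).val.toRingHom) F fun a => by
        obtain ⟨a, ha⟩ := a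
        show algebraMap B L a ∈ F
        induction ha using Algebra.adjoin_induction with
        | mem z hz => obtain ⟨i, rfl⟩ := hz; exact IntermediateField.subset_adjoin K _ ⟨i, rfl⟩
        | algebraMap r =>
          rw [← IsScalarTower.algebraMap_apply, IsScalarTower.algebraMap_apply A K L]
          exact F.algebraMap_mem _
        | add _ _ _ _ h1 h2 => rw [map_add]; exact F.add_mem h1 h2
        | mul _ _ _ _ h1 h2 => rw [map_mul]; exact F.mul_mem h1 h2
    have hj : Function.Injective j := fun a c h =>
      Subtype.ext (IsFractionRing.injective B L (congrArg (fun z : F => (z : L)) h))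
    refine IsAlgebraic.isIntegral ⟨P.map j, (Polynomial.map_ne_zero_iff hj).2 hP0, ?_⟩
    rw [Polynomial.aeval_def, Polynomial.eval₂_map]
    have h2 := congrArg (algebraMap B L) hPb
    rw [Polynomial.aeval_def, Polynomial.hom_eval₂, map_zero] at h2
    exact h2
  have hint : ∀ l : L, IsIntegral F l := by
    intro l
    obtain ⟨b, c, -, rfl⟩ := IsFractionRing.div_surjective (A := B) l
    rw [div_eq_mul_inv]
    exact (halg b).mul (IsIntegral.inv (halg c))
  have htop : IntermediateField.adjoin F (S : Set L) = ⊤ := by
    apply IntermediateField.restrictScalars_injective K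
    rw [IntermediateField.restrictScalars_top, eq_top_iff, ← hS]
    exact IntermediateField.adjoin_le_iff.2 fun z hz => IntermediateField.subset_adjoin F _ hz
  haveI : FiniteDimensional F (IntermediateField.adjoin F (S : Set L)) :=
    IntermediateField.finiteDimensional_adjoin fun z _ => hint z
  rw [htop] at this
  exact IntermediateField.topEquiv.toLinearEquiv.finiteDimensional

end Groth.Agent.EppASH7
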