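import Groth.Agent.Lib.EppASH7.FrameSol
import Groth.Agent.S1988
import Mathlib.FieldTheory.SeparableClosure
import Mathlib.FieldTheory.PurelyInseparable.Basic

/-!
# Removing inseparability of a frame
-/

set_option autoImplicit false
set_option linter.style.haveILetI false

universe u

open IsLocalRing Polynomial

namespace Groth.Agent.EppASH7

variable {K Ω : Type u} [Field K] [Field Ω] [Algebra K Ω]

/-- Roots of elements of a purely transcendental field. -/
theorem exists_root_mem [IsAlgClosed Ω] (p m : ℕ) [ExpChar Ω p] (hp : 0 < p) {ι : Type u} (y : ι → Ω) {d : Ω}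
    (hd : d ∈ IntermediateField.adjoin K (Set.range fun i => y i ^ p ^ m)) :
    ∃ z ∈ IntermediateField.adjoin K ({z : Ω | ∃ c : K, z ^ p ^ m = algebraMap K Ω c} ∪ Set.range y),
      z ^ p ^ m = d := by
  induction hd using IntermediateField.adjoin_induction with
  | mem w hw =>
    obtain ⟨i, rfl⟩ := hw
    exact ⟨y i, IntermediateField.subset_adjoin K _ (Or.inr ⟨i, rfl⟩), rfl⟩
  | algebraMap c =>
    obtain ⟨z, hz⟩ := IsAlgClosed.exists_pow_nat_eq (algebraMap K Ω c) (pow_pos hp m)
    exact ⟨z, IntermediateField.subset_adjoin K _ (Or.inl ⟨c, hz⟩), hz⟩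
  | add a b _ _ ha hb =>
    obtain ⟨z, hz, rfl⟩ := ha
    obtain ⟨w, hw, rfl⟩ := hb
    exact ⟨z + w, add_mem hz hw, add_pow_expChar_pow z w p m⟩
  | inv a _ ha =>
    obtain ⟨z, hz, rfl⟩ := ha
    exact ⟨z⁻¹, inv_mem hz, inv_pow z _⟩
  | mul a b _ _ ha hb =>
    obtain ⟨z, hz, rfl⟩ := ha
    obtain ⟨w, hw, rfl⟩ := hb
    exact ⟨z * w, mul_mem hz hw, mul_pow z w _⟩

omit [Algebra K Ω] in
/-- A root of a polynomial with a separable Frobenius twist is separable. -/
theorem isSeparable_of_twist {F M : Type u} [Field F] [Field M] [Algebra F M] (p m : ℕ) [ExpChar F p] [ExpChar M p]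
    {g : F[X]} (hgs : g.Separable) (hgm : g.Monic) (hr : ∀ i, ∃ r, r ^ p ^ m = g.coeff i) {z : M}
    (hz : aeval (z ^ p ^ m) g = 0) : IsSeparable F z := by
  obtain ⟨g', hg', -, hg'm⟩ := lifts_and_natDegree_eq_and_monic (f := iterateFrobenius F p m) (p := g)
    ((lifts_iff_coeff_lifts _).2 fun i => by
      obtain ⟨r, hr⟩ := hr i
      exact ⟨r, (iterateFrobenius_def (R := F) p m r).trans hr⟩) hgm
  have hsep : g'.Separable := (separable_map _).1 (hg'.symm ▸ hgs)
  have hz' : aeval z g' = 0 := by
    refine (iterateFrobenius M p m).injective ?_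
    rw [map_zero, aeval_def, hom_eval₂, iterateFrobenius_def,
      show (iterateFrobenius M p m).comp (algebraMap F M) = (algebraMap F M).comp (iterateFrobenius F p m) from
        RingHom.ext fun c => by simp [iterateFrobenius_def],
      ← eval₂_map, hg', ← aeval_def, hz]
  exact hsep.of_dvd (minpoly.dvd F z hz')

/-- A uniform exponent making all elements separable. -/
theorem exists_pow_isSeparable {F L : Type u} [Field F] [Field L] [Algebra F L] [FiniteDimensional F L] (p : ℕ)
    [ExpChar F p] {n : ℕ} (b : Fin n → L) : ∃ m : ℕ, ∀ j, IsSeparable F (b j ^ p ^ m) := by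
  classical
  haveI : ExpChar (separableClosure F L) p := expChar_of_injective_algebraMap (algebraMap F _).injective p
  have h : ∀ j, ∃ k : ℕ, b j ^ p ^ k ∈ (algebraMap (separableClosure F L) L).range := fun j =>
    IsPurelyInseparable.pow_mem (separableClosure F L) p (b j)
  choose k hk using h
  refine ⟨Finset.univ.sup k, fun j => ?_⟩
  obtain ⟨c, hc⟩ := hk j
  obtain ⟨d, hd⟩ := Nat.exists_eq_add_of_le (Finset.le_sup (f := k) (Finset.mem_univ j))
  rw [hd, pow_add, pow_mul, ← hc, ← map_pow]
  exact mem_separableClosure_iff.1 (c ^ p ^ d).2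

/-- Independence passes to roots of residues. -/
theorem algebraicIndependent_of_pow {k k' κ : Type u} [Field k] [Field k'] [Field κ] (φ : k →+* κ) (ψ : k' →+* κ)
    (p m : ℕ) [ExpChar κ p] {ι : Type u} (y : ι → κ)
    (hr : ∀ c : k', ∃ a : k, φ a = ψ c ^ p ^ m)
    (h : letI := φ.toAlgebra; AlgebraicIndependent k fun i => y i ^ p ^ m) :
    letI := ψ.toAlgebra; AlgebraicIndependent k' y := by
  classical
  letI := φ.toAlgebra
  letI := ψ.toAlgebra
  rw [algebraicIndependent_iff] at h ⊢
  intro Q hQ
  choose a ha using hr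
  let P : MvPolynomial ι k := ∑ α ∈ Q.support, MvPolynomial.monomial α (a (Q.coeff α))
  have hP : P = 0 := h P (by
    have h2 := congrArg (iterateFrobenius κ p m) hQ
    rw [map_zero, Q.as_sum, map_sum, map_sum] at h2
    rw [show MvPolynomial.aeval (R := k) (fun i => y i ^ p ^ m) P = ∑ α ∈ Q.support, MvPolynomial.aeval
      (fun i => y i ^ p ^ m) (MvPolynomial.monomial α (a (Q.coeff α))) from map_sum _ _ _, ← h2]
    refine Finset.sum_congr rfl fun α _ => ?_
    rw [MvPolynomial.aeval_monomial, MvPolynomial.aeval_monomial, map_mul]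
    refine congrArg₂ (· * ·) ?_ ?_
    · rw [iterateFrobenius_def]; exact ha _
    · rw [map_finsuppProd]
      exact Finsupp.prod_congr fun i _ => by rw [iterateFrobenius_def, ← pow_mul, ← pow_mul, mul_comm])
  refine MvPolynomial.ext _ _ fun α => ?_
  rw [MvPolynomial.coeff_zero]
  by_contra hne
  have h2 : P.coeff α = a (Q.coeff α) := by
    simp [P, MvPolynomial.coeff_sum, MvPolynomial.coeff_monomial, MvPolynomial.mem_support_iff.2 hne]
  rw [hP, MvPolynomial.coeff_zero] at h2
  have h3 := ha (Q.coeff α)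
  rw [← h2, map_zero, eq_comm] at h3
  exact hne ((map_eq_zero ψ).1 (pow_eq_zero_iff (pow_ne_zero m (expChar_ne_zero κ p)) |>.1 h3))

/-- Restricting the base along a purely inseparable extension keeps solutions. -/
theorem isSolution_of_purelyInseparable (B : Type u) [CommRing B] [IsLocalRing B] (K K₀ L K₁ : Type u) [Field K]
    [Field K₀] [Field L] [Field K₁] [Algebra B L] [Algebra K K₀] [Algebra K L] [Algebra K₀ L] [IsScalarTower K K₀ L]
    [Algebra K K₁] [Algebra K₀ K₁] [IsScalarTower K K₀ K₁] (p : ℕ) [ExpChar K p]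
    (hq : ∀ c : K₀, ∃ n : ℕ, ∃ a : K, c ^ p ^ n = algebraMap K K₀ a)
    (h : EtRam.IsSolution B K₀ L K₁) : EtRam.IsSolution B K L K₁ := by
  intro M _ _ _ _ _ _ hgen W hW
  letI : Algebra K₀ M := ((algebraMap L M).comp (algebraMap K₀ L)).toAlgebra
  haveI : IsScalarTower K₀ L M := IsScalarTower.of_algebraMap_eq fun _ => rfl
  haveI : ExpChar M p := expChar_of_injective_algebraMap (algebraMap K M).injective p
  haveI : IsScalarTower K K₀ M := IsScalarTower.of_algebraMap_eq fun a => by
    show _ = algebraMap L M (algebraMap K₀ L (algebraMap K K₀ a))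
    rw [← IsScalarTower.algebraMap_apply K K₀ L, ← IsScalarTower.algebraMap_apply K L M]
  haveI : IsScalarTower K₀ K₁ M := IsScalarTower.of_algebraMap_eq fun c => by
    obtain ⟨n, a, ha⟩ := hq c
    refine (iterateFrobenius M p n).injective ?_
    show iterateFrobenius M p n (algebraMap L M (algebraMap K₀ L c)) = _
    rw [iterateFrobenius_def, iterateFrobenius_def, ← map_pow, ← map_pow, ← map_pow, ← map_pow, ha,
      ← IsScalarTower.algebraMap_apply K K₀ L, ← IsScalarTower.algebraMap_apply K L M,
      ← IsScalarTower.algebraMap_apply K K₀ K₁, ← IsScalarTower.algebraMap_apply K K₁ M]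
  exact h M hgen W hW

end Groth.Agent.EppASH7
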