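import Groth.Agent.Lib.EppASH7.FrameRed

/-!
# Solutions for a frame, without separability
-/

set_option autoImplicit false
set_option linter.style.haveILetI false

universe u

open IsLocalRing Polynomial

namespace Groth.Agent.EppASH7

/-- The residues of the roots of the frame stay independent at the enlarged bottom. -/
theorem indep_of_roots {A B : Type u} [CommRing A] [IsDomain A] [IsDiscreteValuationRing A] [CommRing B]
    [IsLocalRing B] [Algebra A B] [IsLocalHom (algebraMap A B)] {ι : Type u} (x : ι → B)
    (hind : AlgebraicIndependent (ResidueField A) fun i => residue B (x i))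
    {K LP : Type u} [Field K] [Field LP] [Algebra A K] [IsFractionRing A K] [Algebra A LP] [Algebra K LP]
    [IsScalarTower A K LP] [Algebra B LP] [IsScalarTower A B LP]
    (BP : ValuationSubring LP) (hdom : EtRam.Dominates B (algebraMap B LP) BP) {K₀ : Type u} [Field K₀] (g : K₀ →+* LP)
    (p m : ℕ) (hp : p.Prime) [CharP (ResidueField A) p]
    (hq : ∀ c : K₀, ∃ a : K, g c ^ p ^ m = algebraMap K LP a) (y : ι → BP)
    (hy : ∀ i, (y i : LP) ^ p ^ m = algebraMap B LP (x i)) :
    letI : Algebra (BP.comap g) BP := (EtRam.inclOfComap BP g).toAlgebra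
    haveI : IsLocalHom (algebraMap (BP.comap g) BP) := EtRam.isLocalHom_inclOfComap BP g
    AlgebraicIndependent (ResidueField (BP.comap g)) fun i => residue BP (y i) := by
  letI : Algebra (BP.comap g) BP := (EtRam.inclOfComap BP g).toAlgebra
  haveI : IsLocalHom (algebraMap (BP.comap g) BP) := EtRam.isLocalHom_inclOfComap BP g
  letI : Algebra B BP := (RingHom.codRestrict _ BP hdom.1).toAlgebra
  haveI : IsLocalHom (algebraMap B BP) := EtRamH7.isLocalHom_cod hdom
  let jB : ResidueField B →+* ResidueField BP := ResidueField.map (algebraMap B BP)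
  let φ : ResidueField A →+* ResidueField BP := jB.comp (algebraMap (ResidueField A) (ResidueField B))
  haveI : CharP (ResidueField BP) p := (φ.charP_iff (RingHom.injective _) p).1 inferInstance
  haveI : ExpChar (ResidueField BP) p := ExpChar.prime hp
  have hA : EtRam.Dominates A (algebraMap A LP) BP := by
    rw [IsScalarTower.algebraMap_eq A B LP]
    exact ⟨fun a => hdom.1 _, fun a ha => hdom.2 _
      (((local_hom_TFAE (algebraMap A B)).out 0 2 rfl rfl).1 inferInstance (Ideal.mem_map_of_mem _ ha))⟩
  have h1 : letI := φ.toAlgebra; AlgebraicIndependent (ResidueField A) fun i => residue BP (y i) ^ p ^ m := by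
    letI := φ.toAlgebra
    let jBa : ResidueField B →ₐ[ResidueField A] ResidueField BP := { jB with commutes' := fun _ => rfl }
    have h2 := hind.map' (f := jBa) jB.injective
    refine (show (fun i => residue BP (y i) ^ p ^ m) = jBa ∘ fun i => residue B (x i) from funext fun i => ?_) ▸ h2
    rw [← map_pow]
    exact congrArg (residue BP) (Subtype.ext (hy i))
  have h3 := algebraicIndependent_of_pow φ (ResidueField.map (algebraMap (BP.comap g) BP)) p m
    (fun i => residue BP (y i)) (fun c => by
      obtain ⟨c, rfl⟩ := residue_surjective c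
      obtain ⟨a, ha⟩ := hq (c : K₀)
      obtain ⟨a', rfl⟩ := (mem_of_dominates hA a).1 (by rw [← ha]; exact pow_mem (show g (c : K₀) ∈ BP from c.2) _)
      refine ⟨residue A a', ?_⟩
      rw [ResidueField.map_residue, ← map_pow]
      refine congrArg (residue BP) (Subtype.ext ?_)
      show algebraMap B LP (algebraMap A B a') = g (c : K₀) ^ p ^ m
      rw [ha, ← IsScalarTower.algebraMap_apply, ← IsScalarTower.algebraMap_apply]) h1
  exact h3

/-- The reduction to the separable case in characteristic `p`. -/
theorem solution_of_frame_charP (A B K L : Type u) [CommRing A] [IsDomain A] [IsDiscreteValuationRing A]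
    [CommRing B] [IsDomain B] [IsDiscreteValuationRing B] [Algebra A B] [IsLocalHom (algebraMap A B)]
    (hinj : Function.Injective (algebraMap A B))
    [Field K] [Field L] [Algebra A K] [IsFractionRing A K] [Algebra B L] [IsFractionRing B L]
    [Algebra K L] [Algebra A L] [IsScalarTower A K L] [IsScalarTower A B L]
    {p : ℕ} (hp : p.Prime) [CharP (ResidueField A) p] [CharP K p] {ι : Type u} [Finite ι] (x : ι → B)
    (hind : AlgebraicIndependent (ResidueField A) fun i => residue B (x i))
    (hfin : FiniteDimensional (IntermediateField.adjoin K (Set.range fun i => algebraMap B L (x i))) L) :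
    ∃ (K₁ : Type u) (_ : Field K₁) (_ : Algebra K K₁) (_ : FiniteDimensional K K₁), EtRam.IsSolution B K L K₁ := by
  classical
  haveI := hfin
  haveI : ExpChar K p := ExpChar.prime hp
  let Ω := AlgebraicClosure L
  haveI : CharP Ω p := charP_of_injective_algebraMap (algebraMap K Ω).injective p
  obtain ⟨W₀, hW₀B⟩ := EtRamH7.exists_comap_eq (algebraMap L Ω) (EtRamH7.rangeSubring B L)
  have hdomB : EtRam.Dominates B (algebraMap B Ω) W₀ := by
    rw [IsScalarTower.algebraMap_eq B L Ω]
    exact EtRamH7.dominates_trans (A := B) (g := algebraMap B L) (by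
      haveI : IsLocalHom (algebraMap B B) := isLocalHom_id B
      have h := EtRamH7.dominates_rangeSubring B B L
      rwa [Algebra.algebraMap_self, RingHom.comp_id] at h) (algebraMap L Ω)
      (hW₀B ▸ EtRamH7.dominates_self_comap (algebraMap L Ω) W₀)
  obtain ⟨m, T, y, S, hT, hy, hSsep, hSgen⟩ := exists_sep_data (K := K) (Ω := Ω) hp fun i => algebraMap B L (x i)
  let K₀ : IntermediateField K Ω := IntermediateField.adjoin K (T : Set Ω)
  let LP : IntermediateField L Ω := IntermediateField.adjoin L ((T : Set Ω) ∪ Set.range y)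
  have hqpos : 0 < p ^ m := pow_pos hp.pos m
  haveI : FiniteDimensional K K₀ := IntermediateField.finiteDimensional_adjoin fun z hz => by
    obtain ⟨c, hc⟩ := hT z hz
    exact ⟨X ^ p ^ m - C c, monic_X_pow_sub_C c hqpos.ne', by
      rw [eval₂_sub, eval₂_X_pow, eval₂_C, hc, sub_self]⟩
  haveI : Finite ((T : Set Ω) ∪ Set.range y : Set Ω) :=
    (T.finite_toSet.union (Set.finite_range y)).to_subtype
  haveI : FiniteDimensional L LP := IntermediateField.finiteDimensional_adjoin fun z hz => by
    obtain ⟨c, hc⟩ : ∃ c : L, z ^ p ^ m = algebraMap L Ω c := by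
      rcases hz with hz | ⟨i, rfl⟩
      · obtain ⟨c, hc⟩ := hT z hz
        exact ⟨algebraMap K L c, by rw [hc, ← IsScalarTower.algebraMap_apply]⟩
      · exact ⟨_, hy i⟩
    exact ⟨X ^ p ^ m - C c, monic_X_pow_sub_C c hqpos.ne', by
      rw [eval₂_sub, eval₂_X_pow, eval₂_C, hc, sub_self]⟩
  have hyLP : ∀ i, y i ∈ LP := fun i => IntermediateField.subset_adjoin L _ (Or.inr ⟨i, rfl⟩)
  have hKL : ∀ c ∈ K₀, c ∈ LP := fun c hc => by
    have h1 : K₀ ≤ LP.restrictScalars K :=
      IntermediateField.adjoin_le_iff.2 fun z hz => IntermediateField.subset_adjoin L _ (Or.inl hz)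
    exact h1 hc
  have hq : ∀ c ∈ K₀, ∃ a : K, c ^ p ^ m = algebraMap K Ω a := by
    haveI : ExpChar Ω p := ExpChar.prime hp
    intro c hc
    induction hc using IntermediateField.adjoin_induction with
    | mem z hz => exact hT z hz
    | algebraMap a => exact ⟨a ^ p ^ m, (map_pow _ _ _).symm⟩
    | add a c _ _ ha hc =>
      obtain ⟨a', ha'⟩ := ha
      obtain ⟨c', hc'⟩ := hc
      exact ⟨a' + c', by rw [add_pow_expChar_pow, ha', hc', map_add]⟩
    | inv a _ ha =>
      obtain ⟨a', ha'⟩ := ha
      exact ⟨a'⁻¹, by rw [inv_pow, ha', map_inv₀]⟩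
    | mul a c _ _ ha hc =>
      obtain ⟨a', ha'⟩ := ha
      obtain ⟨c', hc'⟩ := hc
      exact ⟨a' * c', by rw [mul_pow, ha', hc', map_mul]⟩
  let g : K₀ →+* LP := RingHom.codRestrict (algebraMap K₀ Ω) LP fun c => hKL c c.2
  letI : Algebra K₀ LP := g.toAlgebra
  haveI : IsScalarTower K K₀ LP := IsScalarTower.of_algebraMap_eq fun a => Subtype.ext (by
    show algebraMap K Ω a = algebraMap K₀ Ω (algebraMap K K₀ a)
    rw [← IsScalarTower.algebraMap_apply])
  have hgen : ∀ z ∈ LP, z ∈ IntermediateField.adjoin K ((T : Set Ω) ∪ Set.range y ∪ algebraMap L Ω '' (S : Set L)) := by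
    intro z hz
    induction hz using IntermediateField.adjoin_induction with
    | mem w hw => exact IntermediateField.subset_adjoin K _ (Or.inl hw)
    | algebraMap l => exact hSgen l
    | add _ _ _ _ ha hb => exact add_mem ha hb
    | inv _ _ ha => exact inv_mem ha
    | mul _ _ _ _ ha hb => exact mul_mem ha hb
  haveI : IsScalarTower K LP Ω := IsScalarTower.of_algebraMap_eq fun a => (IsScalarTower.algebraMap_apply K L Ω a)
  haveI : IsScalarTower B LP Ω := IsScalarTower.of_algebraMap_eq fun b => (IsScalarTower.algebraMap_apply B L Ω b)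
  haveI : IsScalarTower A K₀ Ω := IsScalarTower.of_algebraMap_eq fun a => by
    rw [IsScalarTower.algebraMap_apply A K K₀, ← IsScalarTower.algebraMap_apply K K₀ Ω, ← IsScalarTower.algebraMap_apply A K Ω]
  haveI : IsScalarTower A K LP := IsScalarTower.of_algebraMap_eq fun a => Subtype.ext (by
    show algebraMap L Ω (algebraMap A L a) = algebraMap L Ω (algebraMap K L (algebraMap A K a))
    rw [← IsScalarTower.algebraMap_apply A K L])
  haveI : IsScalarTower A B LP := IsScalarTower.of_algebraMap_eq fun a => Subtype.ext (by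
    show algebraMap L Ω (algebraMap A L a) = algebraMap L Ω (algebraMap B L (algebraMap A B a))
    rw [← IsScalarTower.algebraMap_apply A B L])
  obtain ⟨hfinP, hsepP⟩ := separable_level (K := K) y hSsep (IntermediateField.subset_adjoin K _) hKL hyLP hgen
  let BP : ValuationSubring LP := W₀.comap (algebraMap LP Ω)
  have hdomP : EtRam.Dominates B (algebraMap B LP) BP := EtRamH7.dominates_comap (algebraMap LP Ω)
    ((IsScalarTower.algebraMap_eq B LP Ω) ▸ hdomB)
  haveI : IsDiscreteValuationRing BP := EtRamH7.dvr_of_dominates B L LP _ (IsScalarTower.algebraMap_eq B L LP) _ hdomP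
  let VP : ValuationSubring K₀ := BP.comap g
  have hdomV : EtRam.Dominates A (algebraMap A K₀) VP := by
    refine EtRamH7.dominates_comap g ?_
    rw [show g.comp (algebraMap A K₀) = (algebraMap B LP).comp (algebraMap A B) from RingHom.ext fun a => Subtype.ext (by
      show algebraMap K₀ Ω (algebraMap A K₀ a) = algebraMap B Ω (algebraMap A B a)
      rw [← IsScalarTower.algebraMap_apply, ← IsScalarTower.algebraMap_apply])]
    exact ⟨fun a => hdomP.1 _, fun a ha => hdomP.2 _
      (((local_hom_TFAE (algebraMap A B)).out 0 2 rfl rfl).1 inferInstance (Ideal.mem_map_of_mem _ ha))⟩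
  haveI : IsDiscreteValuationRing VP := EtRamH7.dvr_of_dominates A K K₀ _ (IsScalarTower.algebraMap_eq A K K₀) _ hdomV
  letI : Algebra VP BP := (EtRam.inclOfComap BP g).toAlgebra
  haveI : IsLocalHom (algebraMap VP BP) := EtRam.isLocalHom_inclOfComap BP g
  haveI : IsScalarTower VP K₀ LP := IsScalarTower.of_algebraMap_eq fun _ => rfl
  haveI : IsScalarTower VP BP LP := IsScalarTower.of_algebraMap_eq fun _ => rfl
  haveI : CharP (ResidueField VP) p := by
    let cA : A →+* VP := RingHom.codRestrict (algebraMap A K₀) VP hdomV.1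
    haveI : IsLocalHom cA := EtRamH7.isLocalHom_cod hdomV
    exact ((ResidueField.map cA).charP_iff (RingHom.injective _) p).1 inferInstance
  have hymem : ∀ i, (⟨y i, hyLP i⟩ : LP) ∈ BP := fun i => by
    show y i ∈ W₀
    rw [← W₀.valuation_le_one_iff, ← pow_le_one_iff hqpos.ne', ← map_pow, W₀.valuation_le_one_iff, hy,
      ← IsScalarTower.algebraMap_apply]
    exact hdomB.1 _
  have hind' := indep_of_roots (K := K) x hind BP hdomP g p m hp
    (fun c => by
      obtain ⟨a, ha⟩ := hq c c.2
      exact ⟨a, Subtype.ext ha⟩)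
    (fun i => ⟨⟨y i, hyLP i⟩, hymem i⟩) fun i => Subtype.ext ((hy i).trans (IsScalarTower.algebraMap_apply B L Ω (x i)).symm)
  obtain ⟨K₁, _, _, hfin₁, hsol⟩ := solution_of_separable_frame VP BP K₀ LP hp
    (fun i => (⟨⟨y i, hyLP i⟩, hymem i⟩ : BP)) hind' hfinP hsepP
  haveI := hfin₁
  letI : Algebra K K₁ := ((algebraMap K₀ K₁).comp (algebraMap K K₀)).toAlgebra
  haveI : IsScalarTower K K₀ K₁ := IsScalarTower.of_algebraMap_eq fun _ => rfl
  haveI : FiniteDimensional K K₁ := Module.Finite.trans K₀ K₁
  refine ⟨K₁, inferInstance, inferInstance, inferInstance, ?_⟩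
  have hsolK : EtRam.IsSolution BP K LP K₁ := isSolution_of_purelyInseparable BP K K₀ LP K₁ p (fun c => by
    obtain ⟨a, ha⟩ := hq c c.2
    exact ⟨m, a, Subtype.ext ha⟩) hsol
  letI : Algebra B BP := (RingHom.codRestrict _ BP hdomP.1).toAlgebra
  haveI : IsLocalHom (algebraMap B BP) := EtRamH7.isLocalHom_cod hdomP
  haveI : IsScalarTower B BP LP := IsScalarTower.of_algebraMap_eq fun _ => rfl
  exact (Groth.Agent.S1988.result A B BP K L LP K₁ hinj
    (EtRamH7.injective_cod B L LP _ (IsScalarTower.algebraMap_eq B L LP) _ hdomP.1)).2 hsolK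

/-- Solutions exist for an extension which is finite over a residually independent frame. -/
theorem solution_of_frame (A B K L : Type u) [CommRing A] [IsDomain A] [IsDiscreteValuationRing A]
    [CommRing B] [IsDomain B] [IsDiscreteValuationRing B] [Algebra A B] [IsLocalHom (algebraMap A B)]
    (hinj : Function.Injective (algebraMap A B))
    [Field K] [Field L] [Algebra A K] [IsFractionRing A K] [Algebra B L] [IsFractionRing B L]
    [Algebra K L] [Algebra A L] [IsScalarTower A K L] [IsScalarTower A B L]
    {p : ℕ} (hp : p.Prime) [CharP (ResidueField A) p] {ι : Type u} [Finite ι] (x : ι → B)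
    (hind : AlgebraicIndependent (ResidueField A) fun i => residue B (x i))
    (hfin : FiniteDimensional (IntermediateField.adjoin K (Set.range fun i => algebraMap B L (x i))) L) :
    ∃ (K₁ : Type u) (_ : Field K₁) (_ : Algebra K K₁) (_ : FiniteDimensional K K₁), EtRam.IsSolution B K L K₁ := by
  obtain ⟨r, hr⟩ := CharP.exists K
  haveI := hr
  rcases CharP.char_is_prime_or_zero K r with hr' | rfl
  · haveI : CharP A r := ((algebraMap A K).charP_iff (IsFractionRing.injective A K) r).2 inferInstance
    have h1 : ((r : ℕ) : ResidueField A) = 0 := by rw [← map_natCast (residue A), CharP.cast_eq_zero, map_zero]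
    have h2 : p = r := (Nat.prime_dvd_prime_iff_eq hp hr').1 ((CharP.cast_eq_zero_iff (ResidueField A) p r).1 h1)
    subst h2
    exact solution_of_frame_charP A B K L hinj hp x hind hfin
  · haveI : CharZero K := CharP.charP_to_charZero _
    haveI := hfin
    exact solution_of_separable_frame A B K L hp x hind hfin inferInstance

end Groth.Agent.EppASH7
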