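import Groth.Agent.Lib.EppASH7.FrameGen
import Mathlib.RingTheory.Finiteness.Basic

/-!
# Solutions for a frame
-/

set_option autoImplicit false
set_option linter.style.haveILetI false

universe u

open IsLocalRing Polynomial

namespace Groth.Agent.EppASH7

section Fields

variable {K L Ω : Type u} [Field K] [Field L] [Field Ω] [Algebra K L] [Algebra K Ω] [Algebra L Ω] [IsScalarTower K L Ω]

/-- The data making a finite extension separable. -/
theorem exists_sep_data [IsAlgClosed Ω] {p : ℕ} (hp : p.Prime) [CharP Ω p] {ι : Type u} [Finite ι] (x : ι → L)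
    [FiniteDimensional (IntermediateField.adjoin K (Set.range x)) L] :
    ∃ (m : ℕ) (T : Finset Ω) (y : ι → Ω) (S : Finset L),
      (∀ z ∈ T, ∃ c : K, z ^ p ^ m = algebraMap K Ω c) ∧ (∀ i, y i ^ p ^ m = algebraMap L Ω (x i)) ∧
      (∀ l ∈ S, IsSeparable (IntermediateField.adjoin K ((T : Set Ω) ∪ Set.range y)) (algebraMap L Ω l)) ∧
      ∀ l : L, algebraMap L Ω l ∈
        IntermediateField.adjoin K ((T : Set Ω) ∪ Set.range y ∪ algebraMap L Ω '' (S : Set L)) := by
  classical
  haveI : ExpChar Ω p := ExpChar.prime hp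
  set F := IntermediateField.adjoin K (Set.range x) with hF
  haveI : ExpChar L p := (algebraMap L Ω).expChar (algebraMap L Ω).injective p
  haveI : ExpChar F p := (algebraMap F L).expChar (algebraMap F L).injective p
  let b := Module.finBasis F L
  obtain ⟨m, hm⟩ := exists_pow_isSeparable (F := F) p (fun j => b j)
  have hy : ∀ i, ∃ z : Ω, z ^ p ^ m = algebraMap L Ω (x i) := fun i =>
    IsAlgClosed.exists_pow_nat_eq _ (pow_pos hp.pos m)
  choose y hy using hy
  have hFy : ∀ d ∈ F, algebraMap L Ω d ∈ IntermediateField.adjoin K (Set.range fun i => y i ^ p ^ m) := by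
    intro d hd
    induction hd using IntermediateField.adjoin_induction with
    | mem w hw => obtain ⟨i, rfl⟩ := hw; exact IntermediateField.subset_adjoin K _ ⟨i, hy i⟩
    | algebraMap c => rw [← IsScalarTower.algebraMap_apply]; exact IntermediateField.algebraMap_mem _ c
    | add _ _ _ _ ha hb => rw [map_add]; exact add_mem ha hb
    | inv _ _ ha => rw [map_inv₀]; exact inv_mem ha
    | mul _ _ _ _ ha hb => rw [map_mul]; exact mul_mem ha hb
  let co : Finset F := Finset.univ.biUnion fun j =>
    (Finset.range ((minpoly F (b j ^ p ^ m)).natDegree + 1)).image fun i => (minpoly F (b j ^ p ^ m)).coeff i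
  choose z hz hzd using fun d : F => exists_root_mem (K := K) p m hp.pos y (hFy (d : L) d.2)
  choose U hU hUm using fun d : F => IntermediateField.exists_finset_of_mem_adjoin (hz d)
  let T : Finset Ω := (co.biUnion U).filter fun w => ∃ c : K, w ^ p ^ m = algebraMap K Ω c
  set G := IntermediateField.adjoin K ((T : Set Ω) ∪ Set.range y) with hG
  have hzG : ∀ d ∈ co, z d ∈ G := by
    intro d hd
    refine (IntermediateField.adjoin_le_iff.2 fun w hw => ?_) (hUm d)
    rcases hU d hw with h | h
    · exact IntermediateField.subset_adjoin K _ (Or.inl (Finset.mem_filter.2 ⟨Finset.mem_biUnion.2 ⟨d, hd, hw⟩, h⟩))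
    · exact IntermediateField.subset_adjoin K _ (Or.inr h)
  have hFG : ∀ d : F, algebraMap L Ω d ∈ G := fun d => by
    refine (IntermediateField.adjoin_le_iff.2 ?_) (hFy (d : L) d.2)
    rintro _ ⟨i, rfl⟩
    show y i ^ p ^ m ∈ G
    exact pow_mem (show y i ∈ G from IntermediateField.subset_adjoin K _ (Or.inr ⟨i, rfl⟩)) _
  let j : F →+* G := RingHom.codRestrict ((algebraMap L Ω).comp (algebraMap F L)) G hFG
  haveI : ExpChar G p := (algebraMap G Ω).expChar (algebraMap G Ω).injective p
  refine ⟨m, T, y, Finset.univ.image fun i => b i, fun w hw => (Finset.mem_filter.1 hw).2, hy, fun l hl => ?_,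
    fun l => ?_⟩
  · obtain ⟨i, -, rfl⟩ := Finset.mem_image.1 hl
    refine isSeparable_of_twist p m (g := (minpoly F (b i ^ p ^ m)).map j) (Polynomial.Separable.map (hm i))
      ((minpoly.monic (hm i).isIntegral).map j) (fun k => ?_) ?_
    · rw [coeff_map]
      rcases lt_or_ge (minpoly F (b i ^ p ^ m)).natDegree k with h | h
      · exact ⟨0, by rw [coeff_eq_zero_of_natDegree_lt h, map_zero, zero_pow (pow_ne_zero m hp.ne_zero)]⟩
      have hd : (minpoly F (b i ^ p ^ m)).coeff k ∈ co :=
        Finset.mem_biUnion.2 ⟨i, Finset.mem_univ i, Finset.mem_image_of_mem _ (Finset.mem_range.2 (Nat.lt_succ_of_le h))⟩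
      exact ⟨⟨z _, hzG _ hd⟩, Subtype.ext (hzd _)⟩
    · rw [aeval_def, eval₂_map, show (algebraMap G Ω).comp j = (algebraMap L Ω).comp (algebraMap F L) from rfl,
        ← map_pow, ← hom_eval₂, ← aeval_def, minpoly.aeval, map_zero]
  · have h1 := congrArg (algebraMap L Ω) (b.sum_repr l)
    rw [← h1, map_sum]
    refine sum_mem fun i _ => ?_
    rw [Algebra.smul_def, map_mul]
    exact mul_mem (IntermediateField.adjoin.mono K _ _ Set.subset_union_left (hFG _))
      (IntermediateField.subset_adjoin K _ (Or.inr (Set.mem_image_of_mem _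
        (Finset.mem_coe.2 (Finset.mem_image_of_mem _ (Finset.mem_univ i))))))

omit [Algebra K L] [IsScalarTower K L Ω] in
theorem separable_level {T : Finset Ω} {ι : Type u} (y : ι → Ω) {S : Finset L}
    (hSsep : ∀ l ∈ S, IsSeparable (IntermediateField.adjoin K ((T : Set Ω) ∪ Set.range y)) (algebraMap L Ω l))
    {K₀ : IntermediateField K Ω} (hT : (T : Set Ω) ⊆ K₀) {LP : IntermediateField L Ω} [Algebra K LP]
    [IsScalarTower K LP Ω] (hKL : ∀ c ∈ K₀, c ∈ LP) (hy : ∀ i, y i ∈ LP)
    (hgen : ∀ z ∈ LP, z ∈ IntermediateField.adjoin K ((T : Set Ω) ∪ Set.range y ∪ algebraMap L Ω '' (S : Set L))) :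
    letI : Algebra K₀ LP := (RingHom.codRestrict (algebraMap K₀ Ω) LP fun c => hKL c c.2).toAlgebra
    FiniteDimensional (IntermediateField.adjoin K₀ (Set.range fun i => (⟨y i, hy i⟩ : LP))) LP ∧
      Algebra.IsSeparable (IntermediateField.adjoin K₀ (Set.range fun i => (⟨y i, hy i⟩ : LP))) LP := by
  classical
  letI : Algebra K₀ LP := (RingHom.codRestrict (algebraMap K₀ Ω) LP fun c => hKL c c.2).toAlgebra
  set Fp := IntermediateField.adjoin K₀ (Set.range fun i => (⟨y i, hy i⟩ : LP)) with hFp
  have hK : ∀ c : K, ∀ w : LP, (w : Ω) = algebraMap K Ω c → w ∈ Fp := fun c w hw => by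
    rw [show w = algebraMap K₀ LP ⟨algebraMap K Ω c, K₀.algebraMap_mem c⟩ from Subtype.ext hw]
    exact Fp.algebraMap_mem _
  set G := IntermediateField.adjoin K ((T : Set Ω) ∪ Set.range y) with hG
  have hGF : ∀ w ∈ G, ∃ f ∈ Fp, ((f : LP) : Ω) = w := by
    intro w hw
    induction hw using IntermediateField.adjoin_induction with
    | mem v hv =>
      rcases hv with hv | ⟨i, rfl⟩
      · exact ⟨_, Fp.algebraMap_mem ⟨v, hT hv⟩, rfl⟩
      · exact ⟨_, IntermediateField.subset_adjoin K₀ _ ⟨i, rfl⟩, rfl⟩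
    | algebraMap c => exact ⟨_, hK c (algebraMap K LP c) (IsScalarTower.algebraMap_apply K LP Ω c).symm,
        (IsScalarTower.algebraMap_apply K LP Ω c).symm⟩
    | add _ _ _ _ ha hb =>
      obtain ⟨f, hf, rfl⟩ := ha
      obtain ⟨g, hg, rfl⟩ := hb
      exact ⟨f + g, add_mem hf hg, rfl⟩
    | inv _ _ ha =>
      obtain ⟨f, hf, rfl⟩ := ha
      exact ⟨f⁻¹, inv_mem hf, rfl⟩
    | mul _ _ _ _ ha hb =>
      obtain ⟨f, hf, rfl⟩ := ha
      obtain ⟨g, hg, rfl⟩ := hb
      exact ⟨f * g, mul_mem hf hg, rfl⟩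
  choose f hf hfw using hGF
  let j : G →+* Fp :=
    { toFun := fun w => ⟨f w w.2, hf w w.2⟩
      map_one' := Subtype.ext (Subtype.ext (hfw _ _))
      map_mul' := fun a c => Subtype.ext (Subtype.ext ((hfw _ _).trans (by
        show (a : Ω) * c = (f a a.2 : Ω) * (f c c.2 : Ω)
        rw [hfw, hfw])))
      map_zero' := Subtype.ext (Subtype.ext (hfw _ _))
      map_add' := fun a c => Subtype.ext (Subtype.ext ((hfw _ _).trans (by
        show (a : Ω) + c = (f a a.2 : Ω) + (f c c.2 : Ω)
        rw [hfw, hfw]))) }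
  letI : Algebra G Fp := j.toAlgebra
  letI : Algebra G LP := ((algebraMap Fp LP).comp j).toAlgebra
  haveI : IsScalarTower G Fp LP := IsScalarTower.of_algebraMap_eq fun _ => rfl
  haveI : IsScalarTower G LP Ω := IsScalarTower.of_algebraMap_eq fun w => (hfw _ w.2).symm
  let S' : Set LP := (fun l : L => algebraMap L LP l) '' (S : Set L)
  have hsep : ∀ s ∈ S', IsSeparable Fp s := by
    rintro _ ⟨l, hl, rfl⟩
    have h1 : IsSeparable G (algebraMap L LP l) := by
      show (minpoly G (algebraMap L LP l)).Separable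
      rw [← minpoly.algebraMap_eq (algebraMap LP Ω).injective]
      exact hSsep l hl
    exact h1.tower_top Fp
  have htop : IntermediateField.adjoin Fp S' = ⊤ := by
    rw [eq_top_iff]
    intro w _
    have key : ∀ v ∈ IntermediateField.adjoin K ((T : Set Ω) ∪ Set.range y ∪ algebraMap L Ω '' (S : Set L)),
        ∃ u ∈ IntermediateField.adjoin Fp S', ((u : LP) : Ω) = v := by
      intro v hv
      induction hv using IntermediateField.adjoin_induction with
      | mem r hr =>
        rcases hr with hr | ⟨l, hl, rfl⟩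
        · exact ⟨_, (IntermediateField.adjoin Fp S').algebraMap_mem
            (j ⟨r, IntermediateField.subset_adjoin K _ hr⟩), hfw _ _⟩
        · exact ⟨_, IntermediateField.subset_adjoin Fp _ ⟨l, hl, rfl⟩, rfl⟩
      | algebraMap c => exact ⟨_, (IntermediateField.adjoin Fp S').algebraMap_mem (j (algebraMap K G c)), hfw _ _⟩
      | add _ _ _ _ ha hb =>
        obtain ⟨a, ha, rfl⟩ := ha
        obtain ⟨c, hc, rfl⟩ := hb
        exact ⟨a + c, add_mem ha hc, rfl⟩
      | inv _ _ ha =>
        obtain ⟨a, ha, rfl⟩ := ha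
        exact ⟨a⁻¹, inv_mem ha, rfl⟩
      | mul _ _ _ _ ha hb =>
        obtain ⟨a, ha, rfl⟩ := ha
        obtain ⟨c, hc, rfl⟩ := hb
        exact ⟨a * c, mul_mem ha hc, rfl⟩
    obtain ⟨u, hu, huw⟩ := key w (hgen w w.2)
    exact Subtype.ext huw ▸ hu
  haveI : Finite S' := (S.finite_toSet.image _).to_subtype
  haveI hfin : FiniteDimensional Fp (IntermediateField.adjoin Fp S') :=
    (IntermediateField.finiteDimensional_adjoin (K := Fp) (S := S') (fun s hs => (hsep s hs).isIntegral) :)
  haveI hsepA : Algebra.IsSeparable Fp (IntermediateField.adjoin Fp S') :=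
    (IntermediateField.isSeparable_adjoin_iff_isSeparable Fp LP).2 hsep
  rw [htop] at hfin hsepA
  exact ⟨IntermediateField.topEquiv.toLinearEquiv.finiteDimensional, AlgEquiv.Algebra.isSeparable IntermediateField.topEquiv⟩

end Fields

end Groth.Agent.EppASH7
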