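import Groth.Agent.Lib.EppASH7.Frame

/-!
# The solution attached to a separable frame
-/

set_option autoImplicit false
set_option linter.style.haveILetI false

universe u

open IsLocalRing Polynomial

namespace Groth.Agent.EppASH7

variable {K L Ω : Type u} [Field K] [Field L] [Field Ω] [Algebra K L] [Algebra K Ω]

/-- A dominating valuation subring restricts to the DVR itself. -/
theorem mem_of_dominates {A : Type u} [CommRing A] [IsDomain A] [IsDiscreteValuationRing A] [Algebra A K]
    [IsFractionRing A K] [Algebra A Ω] [IsScalarTower A K Ω] {W : ValuationSubring Ω}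
    (hW : EtRam.Dominates A (algebraMap A Ω) W) (k : K) :
    algebraMap K Ω k ∈ W ↔ ∃ a, algebraMap A K a = k := by
  refine ⟨fun hk => ?_, fun ⟨a, ha⟩ => by rw [← ha, ← IsScalarTower.algebraMap_apply]; exact hW.1 a⟩
  rcases ValuationRing.isInteger_or_isInteger A k with h | ⟨a, ha⟩
  · exact h
  by_cases hu : IsUnit a
  · obtain ⟨u, rfl⟩ := hu
    exact ⟨↑u⁻¹, by rw [map_units_inv, ha, inv_inv]⟩
  have h1 := hW.2 a ((mem_maximalIdeal a).2 hu)
  rw [IsScalarTower.algebraMap_apply A K Ω, ha, map_inv₀, map_inv₀] at h1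
  rcases eq_or_ne k 0 with rfl | hk0
  · exact ⟨0, map_zero _⟩
  rw [inv_lt_one₀ (pos_iff_ne_zero.2 ((_root_.map_ne_zero _).2 ((_root_.map_ne_zero _).2 hk0)))] at h1
  exact absurd ((W.valuation_le_one_iff _).2 hk) (not_le.2 h1)

/-- The endomorphism of a normal subfield induced by an embedding. -/
theorem exists_bijective_restrict {K₁ : IntermediateField K Ω} [Normal K K₁] (ψ : K₁ →ₐ[K] Ω) :
    ∃ τ : K₁ →+* K₁, Function.Bijective τ ∧ ∀ c : K₁, ((τ c : K₁) : Ω) = ψ c := by
  have h : ψ.fieldRange = K₁ := AlgHom.fieldRange_of_normal ψ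
  refine ⟨RingHom.codRestrict ψ.toRingHom K₁ fun c => (SetLike.ext_iff.1 h _).1 ⟨c, rfl⟩, ⟨?_, ?_⟩, fun _ => rfl⟩
  · exact fun a b hab => ψ.toRingHom.injective (congrArg Subtype.val hab)
  · intro d
    obtain ⟨c, hc⟩ := (SetLike.ext_iff.1 h (d : Ω)).2 d.2
    exact ⟨c, Subtype.ext hc⟩

/-- Every extension of the valuation is conjugate to the given one on a normal level, and stays good. -/
theorem good_of_agree {F₀ : IntermediateField K Ω} {M₂ : IntermediateField F₀ Ω} [FiniteDimensional F₀ M₂]
    [Normal F₀ M₂] {K₁ : IntermediateField K Ω} [Normal K K₁] (i : K₁ →+* M₂)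
    (hi : ∀ c : K₁, ((i c : M₂) : Ω) = c) (W W' : ValuationSubring Ω) (h : ∀ y ∈ F₀, y ∈ W ↔ y ∈ W')
    (hg : EtRamH7.Good (W.comap (algebraMap M₂ Ω)) i) : EtRamH7.Good (W'.comap (algebraMap M₂ Ω)) i := by
  obtain ⟨τ, hτ⟩ := exists_algEquiv_comap_eq (F := F₀) (W := W.comap (algebraMap M₂ Ω))
    (W'.comap (algebraMap M₂ Ω)) (SetLike.ext fun (y : F₀) => (h (y : Ω) y.2).symm)
  let ψ : K₁ →ₐ[K] Ω :=
    { (algebraMap M₂ Ω).comp (τ.toRingHom.comp i) with
      commutes' := fun a => by
        show ((τ (i (algebraMap K K₁ a)) : M₂) : Ω) = algebraMap K Ω a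
        have h1 : i (algebraMap K K₁ a) = algebraMap F₀ M₂ (algebraMap K F₀ a) := Subtype.ext (by rw [hi]; rfl)
        rw [h1, τ.commutes]
        rfl }
  obtain ⟨τ₁, hτ₁, hτ₁ψ⟩ := exists_bijective_restrict ψ
  rw [← hτ]
  exact good_conj _ i τ.toRingHom τ₁ hτ₁ (RingHom.ext fun c => Subtype.ext (by
    show ψ c = ((i (τ₁ c) : M₂) : Ω)
    rw [hi, hτ₁ψ])) hg

/-- A level which is good for every valuation gives solutions. -/
theorem good_of_level [Algebra L Ω] [IsScalarTower K L Ω] {F₀ : IntermediateField K Ω}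
    {M₂ : IntermediateField F₀ Ω} {K₁ : IntermediateField K Ω} [Normal K K₁] (i : K₁ →+* M₂)
    (hi : ∀ c : K₁, ((i c : M₂) : Ω) = c) (hLM : ∀ l : L, algebraMap L Ω l ∈ M₂)
    {M : Type u} [Field M] [Algebra K M] [Algebra L M] [Algebra K₁ M] [IsScalarTower K L M] [IsScalarTower K K₁ M]
    (hgen : Algebra.adjoin L (Set.range (algebraMap K₁ M)) = ⊤) (σ : M →ₐ[L] Ω) (W' : ValuationSubring Ω)
    (hg : EtRamH7.Good (W'.comap (algebraMap M₂ Ω)) i) :
    EtRamH7.Good (W'.comap σ.toRingHom) (algebraMap K₁ M) := by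
  let ψ : K₁ →ₐ[K] Ω :=
    { σ.toRingHom.comp (algebraMap K₁ M) with
      commutes' := fun a => by
        show σ (algebraMap K₁ M (algebraMap K K₁ a)) = algebraMap K Ω a
        rw [← IsScalarTower.algebraMap_apply, IsScalarTower.algebraMap_apply K L M, σ.commutes,
          ← IsScalarTower.algebraMap_apply] }
  obtain ⟨τ₁, hτ₁, hτ₁ψ⟩ := exists_bijective_restrict ψ
  have hσM : ∀ m : M, σ m ∈ M₂ := by
    intro m
    have hm : m ∈ Algebra.adjoin L (Set.range (algebraMap K₁ M)) := by rw [hgen]; trivial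
    induction hm using Algebra.adjoin_induction with
    | mem y hy =>
      obtain ⟨c, rfl⟩ := hy
      show ψ c ∈ M₂
      rw [← hτ₁ψ c, ← hi]
      exact (i (τ₁ c)).2
    | algebraMap l => rw [σ.commutes]; exact hLM l
    | add a b _ _ ha hb => rw [map_add]; exact M₂.add_mem ha hb
    | mul a b _ _ ha hb => rw [map_mul]; exact M₂.mul_mem ha hb
  let σ' : M →+* M₂ := RingHom.codRestrict σ.toRingHom M₂ hσM
  refine EtRamH7.good_descend (W'.comap (algebraMap M₂ Ω)) (algebraMap K₁ M) σ' ?_
  rw [show σ'.comp (algebraMap K₁ M) = i.comp τ₁ from RingHom.ext fun c => Subtype.ext (by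
    show ψ c = ((i (τ₁ c) : M₂) : Ω)
    rw [hi, hτ₁ψ])]
  exact EtRamH7.good_comp _ τ₁ i (EtRamH7.good_of_bijective _ _ hτ₁) hg

/-- A polynomial over the purely transcendental field whose roots generate `L`. -/
theorem exists_separable_generator [Algebra L Ω] [IsScalarTower K L Ω] {F₀ : IntermediateField K Ω}
    {G : IntermediateField K L} [FiniteDimensional G L] [Algebra.IsSeparable G L]
    (hG : ∀ a ∈ G, algebraMap L Ω a ∈ F₀) :
    ∃ f : Polynomial F₀, f.Separable ∧
      ∀ l : L, algebraMap L Ω l ∈ IntermediateField.adjoin F₀ (f.rootSet Ω) := by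
  obtain ⟨α, hα⟩ := Field.exists_primitive_element G L
  let j : G →+* F₀ := RingHom.codRestrict ((algebraMap L Ω).comp (algebraMap G L)) F₀ fun a => hG a a.2
  letI : Algebra G F₀ := j.toAlgebra
  haveI : IsScalarTower G F₀ Ω := IsScalarTower.of_algebraMap_eq fun a => by
    show algebraMap G Ω a = algebraMap L Ω (algebraMap G L a)
    rw [← IsScalarTower.algebraMap_apply]
  set α' : Ω := algebraMap L Ω α
  have hsepG : IsSeparable G α' := by
    show (minpoly G α').Separable
    rw [minpoly.algebraMap_eq (algebraMap L Ω).injective α]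
    exact Algebra.IsSeparable.isSeparable G α
  have hsep : IsSeparable F₀ α' := hsepG.tower_top F₀
  refine ⟨minpoly F₀ α', hsep, fun l => ?_⟩
  have hmem : α' ∈ IntermediateField.adjoin F₀ ((minpoly F₀ α').rootSet Ω) :=
    IntermediateField.subset_adjoin F₀ _ (by
      rw [mem_rootSet']
      exact ⟨((minpoly.monic hsep.isIntegral).map _).ne_zero, minpoly.aeval F₀ α'⟩)
  have hl : l ∈ IntermediateField.adjoin G ({α} : Set L) := hα ▸ IntermediateField.mem_top
  induction hl using IntermediateField.adjoin_induction with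
  | mem y hy => rw [Set.mem_singleton_iff.1 hy]; exact hmem
  | algebraMap a =>
    exact (IntermediateField.adjoin F₀ _).algebraMap_mem ⟨_, hG a a.2⟩
  | add a b _ _ ha hb => rw [map_add]; exact add_mem ha hb
  | inv a _ ha => rw [map_inv₀]; exact inv_mem ha
  | mul a b _ _ ha hb => rw [map_mul]; exact mul_mem ha hb

/-- Solutions exist when the fraction field is finite separable over a residually independent frame. -/
theorem solution_of_separable_frame (A B K L : Type u) [CommRing A] [IsDomain A] [IsDiscreteValuationRing A]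
    [CommRing B] [IsDomain B] [IsDiscreteValuationRing B] [Algebra A B] [IsLocalHom (algebraMap A B)]
    [Field K] [Field L] [Algebra A K] [IsFractionRing A K] [Algebra B L] [IsFractionRing B L]
    [Algebra K L] [Algebra A L] [IsScalarTower A K L] [IsScalarTower A B L]
    {p : ℕ} (hp : p.Prime) [CharP (ResidueField A) p] {ι : Type u} [Finite ι] (x : ι → B)
    (hind : AlgebraicIndependent (ResidueField A) fun i => residue B (x i))
    (hfin : FiniteDimensional (IntermediateField.adjoin K (Set.range fun i => algebraMap B L (x i))) L)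
    (hsep : Algebra.IsSeparable (IntermediateField.adjoin K (Set.range fun i => algebraMap B L (x i))) L) :
    ∃ (K₁ : Type u) (_ : Field K₁) (_ : Algebra K K₁) (_ : FiniteDimensional K K₁), EtRam.IsSolution B K L K₁ := by
  haveI := hfin
  haveI := hsep
  let Ω := AlgebraicClosure L
  obtain ⟨W₀, hW₀B⟩ := EtRamH7.exists_comap_eq (algebraMap L Ω) (EtRamH7.rangeSubring B L)
  have hdomB : EtRam.Dominates B (algebraMap B Ω) W₀ := by
    rw [IsScalarTower.algebraMap_eq B L Ω]
    exact EtRamH7.dominates_trans (A := B) (g := algebraMap B L) (by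
      haveI : IsLocalHom (algebraMap B B) := isLocalHom_id B
      have h := EtRamH7.dominates_rangeSubring B B L
      rwa [Algebra.algebraMap_self, RingHom.comp_id] at h) (algebraMap L Ω)
      (hW₀B ▸ EtRamH7.dominates_self_comap (algebraMap L Ω) W₀)
  have hdomA : ∀ W : ValuationSubring Ω, EtRam.Dominates B (algebraMap B Ω) W →
      EtRam.Dominates A (algebraMap A Ω) W := fun W hW => by
    rw [IsScalarTower.algebraMap_eq A B Ω]
    exact ⟨fun a => hW.1 _, fun a ha => hW.2 _
      (((local_hom_TFAE (algebraMap A B)).out 0 2 rfl rfl).1 inferInstance (Ideal.mem_map_of_mem _ ha))⟩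
  haveI : CharP (ResidueField W₀) p := by
    let cA : A →+* W₀ := RingHom.codRestrict (algebraMap A Ω) W₀ (hdomA W₀ hdomB).1
    haveI : IsLocalHom cA := EtRamH7.isLocalHom_cod (hdomA W₀ hdomB)
    exact ((ResidueField.map cA).charP_iff (RingHom.injective _) p).1 inferInstance
  let x' : ι → Ω := fun i => algebraMap B Ω (x i)
  have hx : ∀ i, x' i ∈ W₀ := fun i => hdomB.1 _
  have hind' := resIndep_range (K := K) hdomB x hind hx
  have hG : ∀ a ∈ IntermediateField.adjoin K (Set.range fun i => algebraMap B L (x i)),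
      algebraMap L Ω a ∈ IntermediateField.adjoin K (Set.range x') := by
    intro a ha
    have : IntermediateField.adjoin K (Set.range fun i => algebraMap B L (x i)) ≤
        (IntermediateField.adjoin K (Set.range x')).comap (IsScalarTower.toAlgHom K L Ω) :=
      IntermediateField.adjoin_le_iff.2 fun y ⟨i, hy⟩ => by
        subst hy
        show algebraMap L Ω (algebraMap B L (x i)) ∈ IntermediateField.adjoin K (Set.range x')
        rw [← IsScalarTower.algebraMap_apply]
        exact IntermediateField.subset_adjoin K _ ⟨i, rfl⟩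
    exact this ha
  obtain ⟨f, hf, hfL⟩ := exists_separable_generator hG
  obtain ⟨K₁, M₂, i, hfinK, hnK, hfin₂, hn₂, hi, hfM, hgood⟩ :=
    exists_normal_good_level hp W₀ (hdomA W₀ hdomB) hx hind' f hf
  haveI := hnK
  haveI := hfin₂
  haveI := hn₂
  refine ⟨K₁, inferInstance, inferInstance, hfinK, ?_⟩
  haveI := hfinK
  intro M _ _ _ _ _ _ hgen W hW
  haveI : FiniteDimensional L M := EtRamH7.finite_of_adjoin_eq_top K L K₁ M hgen
  let σ : M →ₐ[L] Ω := IsAlgClosed.lift
  obtain ⟨W', hW'⟩ := EtRamH7.exists_comap_eq σ.toRingHom W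
  have hdom' : EtRam.Dominates B (algebraMap B Ω) W' := by
    rw [show algebraMap B Ω = σ.toRingHom.comp ((algebraMap L M).comp (algebraMap B L)) from RingHom.ext fun b => by
      show _ = σ (algebraMap L M (algebraMap B L b))
      rw [σ.commutes, ← IsScalarTower.algebraMap_apply]]
    exact EtRamH7.dominates_trans hW σ.toRingHom (hW' ▸ EtRamH7.dominates_self_comap σ.toRingHom W')
  have hx'W : ∀ j, x' j ∈ W' := fun j => hdom'.1 _
  have hagree : ∀ y ∈ IntermediateField.adjoin K (Set.range x'), y ∈ W₀ ↔ y ∈ W' := fun y hy =>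
    mem_iff_of_gauss W₀ W' hx hx'W (resIndep_bot hind') (resIndep_bot (resIndep_range (K := K) hdom' x hind hx'W))
      (fun c hc => by
        obtain ⟨k, rfl⟩ := IntermediateField.mem_bot.1 hc
        exact (mem_of_dominates (hdomA W' hdom') k).trans (mem_of_dominates (hdomA W₀ hdomB) k).symm)
      (mem_adjoin_over _ hy)
  have hlev := good_of_level i hi (fun l => (IntermediateField.adjoin_le_iff.2 hfM) (hfL l)) hgen σ W'
    (good_of_agree i hi W₀ W' hagree hgood)
  rw [hW'] at hlev
  exact hlev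

end Groth.Agent.EppASH7
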