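import Groth.Agent.Lib.EppASH7.Value
import Mathlib.RingTheory.AlgebraicIndependent.AlgebraicClosure
import Mathlib.RingTheory.AlgebraicIndependent.Basic
import Mathlib.FieldTheory.IntermediateField.Adjoin.Basic
import Mathlib.Algebra.MvPolynomial.NoZeroDivisors
import Mathlib.FieldTheory.Perfect

/-!
# Gauss extensions of valuations by residually independent elements
-/

set_option autoImplicit false
set_option linter.style.haveILetI false
set_option linter.unusedSectionVars false

universe u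

open IsLocalRing MvPolynomial

namespace Groth.Agent.EppASH7

variable {K Ω : Type u} [Field K] [Field Ω] [Algebra K Ω] (W : ValuationSubring Ω)

/-- The residues of a subfield. -/
noncomputable def rsub (E : Subfield Ω) : Subfield (ResidueField W) :=
  haveI := EtRam.isLocalHom_inclOfComap W E.subtype
  (ResidueField.map (EtRam.inclOfComap W E.subtype)).fieldRange

variable {W}

theorem res_mem_rsub {E : Subfield Ω} {c : Ω} (hc : c ∈ E) (hW : c ∈ W) : res (W := W) c hW ∈ rsub W E := by
  haveI := EtRam.isLocalHom_inclOfComap W E.subtype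
  exact ⟨residue _ (⟨⟨c, hc⟩, hW⟩ : W.comap E.subtype), rfl⟩

theorem exists_of_mem_rsub {E : Subfield Ω} {r : ResidueField W} (hr : r ∈ rsub W E) :
    ∃ (c : Ω) (hW : c ∈ W), c ∈ E ∧ res c hW = r := by
  haveI := EtRam.isLocalHom_inclOfComap W E.subtype
  obtain ⟨s, rfl⟩ := hr
  obtain ⟨c, rfl⟩ := residue_surjective s
  exact ⟨((c : E) : Ω), c.2, (c : E).2, rfl⟩

theorem rsub_mono {E E' : Subfield Ω} (h : E ≤ E') : rsub W E ≤ rsub W E' := fun r hr => by
  obtain ⟨c, hW, hc, rfl⟩ := exists_of_mem_rsub hr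
  exact res_mem_rsub (h hc) hW

theorem res_zero_iff {c : Ω} (hc : c ∈ W) : res (W := W) c hc = 0 ↔ W.valuation c < 1 := by
  rw [res, residue_eq_zero_iff, ValuationSubring.valuation_lt_one_iff]

/-- Residues of algebraic elements are algebraic. -/
theorem isAlgebraic_res {c : Ω} (hc : IsAlgebraic K c) (hW : c ∈ W) :
    IsAlgebraic (rsub W (algebraMap K Ω).fieldRange) (res (W := W) c hW) := by
  classical
  obtain ⟨P, hP, hPc⟩ := hc
  obtain ⟨i, hi, hmax⟩ := P.support.exists_max_image (fun i => W.valuation (algebraMap K Ω (P.coeff i)))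
    ⟨P.natDegree, Polynomial.natDegree_mem_support_of_nonzero hP⟩
  have hi0 : algebraMap K Ω (P.coeff i) ≠ 0 :=
    (_root_.map_ne_zero _).2 (Polynomial.mem_support_iff.1 hi)
  let d : ℕ → Ω := fun j => algebraMap K Ω (P.coeff j / P.coeff i)
  have hd1 : ∀ j, d j ∈ W := fun j => by
    rw [← W.valuation_le_one_iff]
    by_cases hj : j ∈ P.support
    · simp only [d, map_div₀]
      exact div_le_one_of_le₀ (hmax j hj) zero_le
    · simp [d, Polynomial.notMem_support_iff.1 hj]
  let k₀ := rsub W (algebraMap K Ω).fieldRange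
  let r : ℕ → k₀ := fun j => ⟨res (d j) (hd1 j), res_mem_rsub (RingHom.mem_fieldRange.2 ⟨_, rfl⟩) (hd1 j)⟩
  let Q : Polynomial k₀ := ∑ j ∈ P.support, Polynomial.monomial j (r j)
  have hQi : Q.coeff i = r i := by
    simp only [Q, Polynomial.finsetSum_coeff, Polynomial.coeff_monomial, Finset.sum_ite_eq', if_pos hi]
  refine ⟨Q, fun h0 => ?_, ?_⟩
  · rw [h0, Polynomial.coeff_zero, eq_comm, ← Subtype.coe_inj] at hQi
    have h1 := (res_zero_iff (hd1 i)).1 hQi
    simp only [d, div_self (Polynomial.mem_support_iff.1 hi), map_one] at h1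
    exact lt_irrefl _ h1
  · have h0 : ∑ j ∈ P.support, (⟨d j, hd1 j⟩ : W) * ⟨c, hW⟩ ^ j = 0 := by
      apply Subtype.ext
      push_cast
      rw [Polynomial.aeval_def, Polynomial.eval₂_eq_sum, Polynomial.sum_def] at hPc
      simp only [d, div_eq_mul_inv, map_mul]
      rw [Finset.sum_congr rfl fun j _ => mul_right_comm _ _ _, ← Finset.sum_mul, hPc, zero_mul]
    have h2 := congrArg (residue W) h0
    rw [map_zero, map_sum] at h2
    simp only [map_mul, map_pow] at h2
    simp only [Q, map_sum, Polynomial.aeval_monomial]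
    exact h2

variable {ι : Type u} {x : ι → Ω} {E : IntermediateField K Ω} (hx : ∀ i, x i ∈ W)

/-- The residual independence of `x` over `E`. -/
def ResIndep (E : IntermediateField K Ω) (hx : ∀ i, x i ∈ W) : Prop :=
  AlgebraicIndependent (rsub W E.toSubfield) fun i => res (W := W) (x i) (hx i)

theorem resIndep_of_isAlgebraic
    (h : AlgebraicIndependent (rsub W (algebraMap K Ω).fieldRange) fun i => res (W := W) (x i) (hx i))
    (hE : ∀ c ∈ E, IsAlgebraic K c) : ResIndep E hx := by
  let k₀ := rsub W (algebraMap K Ω).fieldRange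
  let k₁ := rsub W E.toSubfield
  have hle : k₀ ≤ k₁ := rsub_mono (by rintro _ ⟨a, rfl⟩; exact E.algebraMap_mem a)
  letI : Algebra k₀ k₁ := (Subfield.inclusion hle).toAlgebra
  haveI : IsScalarTower k₀ k₁ (ResidueField W) := IsScalarTower.of_algebraMap_eq fun _ => rfl
  haveI : Algebra.IsAlgebraic k₀ k₁ := ⟨fun r => by
    obtain ⟨c, hW, hc, hr⟩ := exists_of_mem_rsub r.2
    have h1 : IsAlgebraic k₀ (algebraMap k₁ (ResidueField W) r) := by
      show IsAlgebraic k₀ (r : ResidueField W)
      rw [← hr]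
      exact isAlgebraic_res (hE c hc) hW
    exact (isAlgebraic_algHom_iff (IsScalarTower.toAlgHom k₀ k₁ (ResidueField W)) Subtype.val_injective).1 h1⟩
  exact AlgebraicIndependent.extendScalars k₁ h

set_option maxHeartbeats 800000 in
theorem mvaeval_mem (P : MvPolynomial ι E) (hP : ∀ α, ((P.coeff α : E) : Ω) ∈ W) :
    ∃ h : aeval x P ∈ W, ∃ Q : MvPolynomial ι (rsub W E.toSubfield),
      (∀ α, ((Q.coeff α : rsub W E.toSubfield) : ResidueField W) = res ((P.coeff α : E) : Ω) (hP α)) ∧
      res (aeval x P) h = aeval (fun i => res (W := W) (x i) (hx i)) Q := by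
  classical
  let V : ValuationSubring E := W.comap (algebraMap E Ω)
  let PV : MvPolynomial ι V := ∑ α ∈ P.support, monomial α ⟨P.coeff α, hP α⟩
  let jW : V →+* W := EtRam.inclOfComap W (algebraMap E Ω)
  let rV : V →+* rsub W E.toSubfield := RingHom.codRestrict ((residue W).comp jW) (rsub W E.toSubfield)
    fun v => res_mem_rsub (W := W) (E := E.toSubfield) (c := ((v : E) : Ω)) (v : E).2 v.2
  have hcoe : ∀ α, ((PV.coeff α : V) : E) = P.coeff α := fun α => by
    simp only [PV, coeff_sum, coeff_monomial, Finset.sum_ite_eq']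
    split_ifs with h
    · rfl
    · rw [notMem_support_iff.1 h]; rfl
  have hmap : PV.map V.subtype = P := by
    ext α
    rw [coeff_map]
    exact congrArg Subtype.val (hcoe α)
  let xW : ι → W := fun i => ⟨x i, hx i⟩
  have hval : ((eval₂Hom jW xW PV : W) : Ω) = aeval x P := by
    rw [show ((eval₂Hom jW xW PV : W) : Ω) = W.subtype (eval₂Hom jW xW PV) from rfl, map_eval₂Hom, ← hmap,
      aeval_def, eval₂_map]
    rfl
  refine ⟨hval ▸ (eval₂Hom jW xW PV).2, PV.map rV, fun α => ?_, ?_⟩
  · rw [coeff_map]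
    exact congrArg (residue W) (Subtype.ext (congrArg (fun e : E => (e : Ω)) (hcoe α)))
  · rw [res, show (⟨aeval x P, hval ▸ (eval₂Hom jW xW PV).2⟩ : W) = eval₂Hom jW xW PV from
      Subtype.ext hval.symm, map_eval₂Hom, aeval_def, eval₂_map]
    rfl

/-- The Gauss formula. -/
theorem valuation_mvaeval (hind : ResIndep E hx) (P : MvPolynomial ι E) :
    ∃ α, W.valuation (aeval x P) = W.valuation ((P.coeff α : E) : Ω) ∧
      ∀ β, W.valuation ((P.coeff β : E) : Ω) ≤ W.valuation ((P.coeff α : E) : Ω) := by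
  classical
  rcases eq_or_ne P 0 with rfl | hP
  · exact ⟨0, by simp, fun β => by simp⟩
  obtain ⟨α, hα, hmax⟩ := P.support.exists_max_image (fun α => W.valuation ((P.coeff α : E) : Ω))
    (support_nonempty.2 hP)
  have hmax' : ∀ β, W.valuation ((P.coeff β : E) : Ω) ≤ W.valuation ((P.coeff α : E) : Ω) := fun β => by
    by_cases hβ : β ∈ P.support
    · exact hmax β hβ
    · simp [notMem_support_iff.1 hβ]
  refine ⟨α, ?_, hmax'⟩
  have hc0 : ((P.coeff α : E) : Ω) ≠ 0 := fun h => mem_support_iff.1 hα (Subtype.ext h)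
  set P' := MvPolynomial.C (P.coeff α)⁻¹ * P with hP'
  have hP'c : ∀ β, ((P'.coeff β : E) : Ω) = ((P.coeff β : E) : Ω) / ((P.coeff α : E) : Ω) := fun β => by
    rw [hP', coeff_C_mul]
    push_cast
    rw [inv_mul_eq_div]
  have hP'W : ∀ β, ((P'.coeff β : E) : Ω) ∈ W := fun β => by
    rw [← W.valuation_le_one_iff, hP'c, map_div₀]
    exact div_le_one_of_le₀ (hmax' β) zero_le
  obtain ⟨hW, Q, hQ, hQe⟩ := mvaeval_mem hx P' hP'W
  have hQ0 : Q ≠ 0 := fun h0 => by
    have h1 := hQ α
    rw [h0, coeff_zero, eq_comm] at h1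
    have h2 := (res_zero_iff (hP'W α)).1 h1
    rw [hP'c, div_self hc0, map_one] at h2
    exact lt_irrefl _ h2
  have h3 : W.valuation (aeval x P') = 1 := by
    refine le_antisymm ((W.valuation_le_one_iff _).2 hW) (not_lt.1 fun hlt => hQ0 ?_)
    exact hind (((hQe.symm.trans ((res_zero_iff hW).2 hlt)).trans (map_zero _).symm))
  rw [hP', map_mul, aeval_C, map_mul] at h3
  rw [show algebraMap E Ω (P.coeff α)⁻¹ = ((P.coeff α : E) : Ω)⁻¹ from rfl, map_inv₀,
    inv_mul_eq_one₀ ((_root_.map_ne_zero _).2 hc0)] at h3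
  exact h3.symm

/-- The Gauss extension adds no values, and its residues are rational functions in those of `x`. -/
theorem gauss_field (hind : ResIndep E hx) {y : Ω} (hy : y ∈ IntermediateField.adjoin E (Set.range x)) :
    (∃ c ∈ E, W.valuation y = W.valuation c) ∧
      ∀ hW : y ∈ W, res y hW ∈ IntermediateField.adjoin (rsub W E.toSubfield)
        (Set.range fun i => res (W := W) (x i) (hx i)) := by
  classical
  obtain ⟨r, s, rfl⟩ := (IntermediateField.mem_adjoin_range_iff E x y).1 hy
  obtain ⟨α, hα, -⟩ := valuation_mvaeval hx hind r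
  obtain ⟨β, hβ, hβmax⟩ := valuation_mvaeval hx hind s
  refine ⟨⟨((r.coeff α : E) : Ω) / ((s.coeff β : E) : Ω), E.div_mem (r.coeff α).2 (s.coeff β).2, by
    rw [map_div₀, map_div₀, hα, hβ]⟩, fun hW => ?_⟩
  rcases eq_or_ne (aeval x s) 0 with h0 | h0
  · have : res (W := W) (aeval x r / aeval x s) hW = 0 := (res_zero_iff hW).2 (by simp [h0])
    rw [this]
    exact zero_mem _
  have hs0 : ((s.coeff β : E) : Ω) ≠ 0 := fun h => h0 ((map_eq_zero W.valuation).1 (by rw [hβ, h, map_zero]))
  set s' := MvPolynomial.C (s.coeff β)⁻¹ * s with hs'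
  set r' := MvPolynomial.C (s.coeff β)⁻¹ * r with hr'
  have hdiv : aeval x r / aeval x s = aeval x r' / aeval x s' := by
    rw [hr', hs', map_mul, map_mul, aeval_C, mul_div_mul_left]
    exact (_root_.map_ne_zero _).2 (inv_ne_zero fun h => hs0 (by rw [h]; rfl))
  have hcC : ∀ (P : MvPolynomial ι E) γ, (((MvPolynomial.C (s.coeff β)⁻¹ * P).coeff γ : E) : Ω) =
      ((P.coeff γ : E) : Ω) / ((s.coeff β : E) : Ω) := fun P γ => by
    rw [coeff_C_mul]; push_cast; rw [inv_mul_eq_div]
  have hs'W : ∀ γ, ((s'.coeff γ : E) : Ω) ∈ W := fun γ => by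
    rw [← W.valuation_le_one_iff, hs', hcC, map_div₀]
    exact div_le_one_of_le₀ (hβmax γ) zero_le
  obtain ⟨hsW, Qs, -, hQs⟩ := mvaeval_mem hx s' hs'W
  have hs1 : W.valuation (aeval x s') = 1 := by
    rw [hs', map_mul, aeval_C, map_mul, hβ, show algebraMap E Ω (s.coeff β)⁻¹ = ((s.coeff β : E) : Ω)⁻¹ from rfl,
      map_inv₀, inv_mul_cancel₀ ((_root_.map_ne_zero _).2 hs0)]
  have hr'W : ∀ γ, ((r'.coeff γ : E) : Ω) ∈ W := fun γ => by
    obtain ⟨δ, hδ, hδmax⟩ := valuation_mvaeval hx hind r'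
    rw [← W.valuation_le_one_iff]
    refine (hδmax γ).trans (hδ ▸ ?_)
    have h1 := (W.valuation_le_one_iff _).2 hW
    rwa [hdiv, map_div₀, hs1, div_one] at h1
  obtain ⟨hrW, Qr, -, hQr⟩ := mvaeval_mem hx r' hr'W
  have hsne : res (W := W) _ hsW ≠ 0 := fun h => ((res_zero_iff hsW).1 h).ne hs1
  have hres : res (W := W) (aeval x r / aeval x s) hW * res _ hsW = res _ hrW := by
    rw [res, res, res, ← map_mul]
    refine congrArg (residue W) (Subtype.ext ?_)
    show aeval x r / aeval x s * aeval x s' = aeval x r'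
    rw [hdiv, div_mul_cancel₀ _ fun h => hsne ((res_zero_iff hsW).2 (by rw [h, map_zero]; exact zero_lt_one))]
  rw [eq_div_of_mul_eq hsne hres, hQr, hQs]
  exact (IntermediateField.mem_adjoin_range_iff _ _ _).2 ⟨Qr, Qs, rfl⟩

/-- Constants which satisfy a linear relation with rational coefficients satisfy one over the small field. -/
theorem exists_relation {k k' κ : Type u} [Field k] [Field k'] [Field κ] [Algebra k k'] [Algebra k κ] [Algebra k' κ]
    [IsScalarTower k k' κ] {ι J N : Type u} [Fintype N] {y : ι → κ} (hy : AlgebraicIndependent k' y)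
    (u : N → J → κ) (hu : ∀ i j, u i j ∈ IntermediateField.adjoin k (Set.range y)) [Finite J]
    (c : N → k') (hc : c ≠ 0) (hsum : ∀ j, ∑ i, algebraMap k' κ (c i) * u i j = 0) :
    ∃ a : N → k, a ≠ 0 ∧ ∀ j, ∑ i, algebraMap k κ (a i) * u i j = 0 := by
  classical
  haveI := Fintype.ofFinite J
  choose r s hrs using fun i j => (IntermediateField.mem_adjoin_range_iff k y (u i j)).1 (hu i j)
  obtain ⟨i₀, hi₀⟩ := Function.ne_iff.1 hc
  obtain ⟨φ, hφ⟩ := Module.Projective.exists_dual_ne_zero k hi₀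
  refine ⟨fun i => φ (c i), fun h => hφ (congrFun h i₀), fun j => ?_⟩
  let S : Finset N := Finset.univ.filter fun i => aeval y (s i j) ≠ 0
  let G : MvPolynomial ι k := ∏ i ∈ S, s i j
  have hG : aeval y G ≠ 0 := by
    rw [map_prod]
    exact Finset.prod_ne_zero_iff.2 fun i hi => (Finset.mem_filter.1 hi).2
  let P : N → MvPolynomial ι k := fun i => if i ∈ S then r i j * ∏ l ∈ S.erase i, s l j else 0
  have hP : ∀ i, aeval y (P i) = u i j * aeval y G := fun i => by
    simp only [P]
    rw [hrs i j]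
    split_ifs with h
    · rw [map_mul, map_prod, map_prod, ← Finset.mul_prod_erase S _ h, ← mul_assoc,
        div_mul_cancel₀ _ (Finset.mem_filter.1 h).2]
    · have h0 : aeval y (s i j) = 0 := by
        by_contra hne
        exact h (Finset.mem_filter.2 ⟨Finset.mem_univ i, hne⟩)
      rw [h0, div_zero, zero_mul, map_zero]
  have h0 : ∑ i, MvPolynomial.C (c i) * (P i).map (algebraMap k k') = 0 := by
    refine hy ?_
    rw [map_sum, map_zero]
    simp only [map_mul, aeval_C, aeval_map_algebraMap, hP, ← mul_assoc]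
    rw [← Finset.sum_mul, hsum j, zero_mul]
  have h1 : ∑ i, MvPolynomial.C (φ (c i)) * P i = 0 := by
    ext α
    have h2 := congrArg (fun Q => φ (coeff α Q)) h0
    simp only [coeff_sum, coeff_C_mul, coeff_map, map_sum, coeff_zero, map_zero] at h2
    simp only [coeff_sum, coeff_C_mul, coeff_zero]
    rw [← h2]
    exact Finset.sum_congr rfl fun i _ => by rw [mul_comm (c i), ← Algebra.smul_def, map_smul, smul_eq_mul, mul_comm]
  have h3 := congrArg (aeval y) h1
  simp only [map_sum, map_mul, aeval_C, hP, ← mul_assoc, map_zero, ← Finset.sum_mul] at h3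
  exact (mul_eq_zero.1 h3).resolve_right hG

end Groth.Agent.EppASH7
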