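import Groth.Agent.Lib.EppASH7.Gauss
import Groth.Agent.Lib.EppASH7.Conj

/-!
# Linear relations between residues descend to a finite level
-/

set_option autoImplicit false
set_option linter.style.haveILetI false

universe u

open IsLocalRing Polynomial

namespace Groth.Agent.EppASH7

theorem valuation_comap_le_one {Ω F : Type u} [Field Ω] [Field F] (W : ValuationSubring Ω) (f : F →+* Ω) (z : F) :
    (W.comap f).valuation z ≤ 1 ↔ W.valuation (f z) ≤ 1 := by
  rw [ValuationSubring.valuation_le_one_iff, ValuationSubring.valuation_le_one_iff]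
  rfl

theorem valuation_comap_lt_one {Ω F : Type u} [Field Ω] [Field F] (W : ValuationSubring Ω) (f : F →+* Ω) (z : F) :
    (W.comap f).valuation z < 1 ↔ W.valuation (f z) < 1 := by
  rcases eq_or_ne z 0 with rfl | hz
  · simp
  have h1 : ∀ {G : Type u} [Field G] (V : ValuationSubring G) (w : G), w ≠ 0 →
      (V.valuation w < 1 ↔ ¬ V.valuation w⁻¹ ≤ 1) := fun V w hw => by
    rw [map_inv₀, inv_le_one₀ (pos_iff_ne_zero.2 ((_root_.map_ne_zero _).2 hw)), not_le]
  rw [h1 _ z hz, h1 _ (f z) ((_root_.map_ne_zero f).2 hz), valuation_comap_le_one, map_inv₀ f]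

theorem valuation_comap_eq_one {Ω F : Type u} [Field Ω] [Field F] (W : ValuationSubring Ω) (f : F →+* Ω) (z : F) :
    (W.comap f).valuation z = 1 ↔ W.valuation (f z) = 1 := by
  rw [eq_iff_le_not_lt, eq_iff_le_not_lt, valuation_comap_lt_one, valuation_comap_le_one]

/-- An automorphism preserving a valuation subring preserves its maximal ideal. -/
theorem conj_lt_of_preserve {F M : Type u} [Field F] [Field M] [Algebra F M] [FiniteDimensional F M]
    {W : ValuationSubring M} {σ : M ≃ₐ[F] M} (h : ∀ z ∈ W, σ z ∈ W) {z : M} (hz : W.valuation z < 1) :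
    W.valuation (σ z) < 1 := by
  have hpow : ∀ (n : ℕ), ∀ w ∈ W, (σ ^ n) w ∈ W := by
    intro n
    induction n with
    | zero => exact fun w hw => hw
    | succ n ih =>
      intro w hw
      rw [pow_succ']
      exact h _ (ih w hw)
  obtain ⟨n, hn, hσ⟩ := (isOfFinOrder_of_finite σ).exists_pow_eq_one
  refine lt_of_le_of_ne ((W.valuation_le_one_iff _).2 (h z ((W.valuation_le_one_iff _).1 hz.le))) fun h1 => ?_
  have hinv : (σ z)⁻¹ ∈ W := by rw [← W.valuation_le_one_iff, map_inv₀, h1, inv_one]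
  have h2 := hpow (n - 1) _ hinv
  rw [map_inv₀, show (σ ^ (n - 1)) (σ z) = z from by
    rw [← AlgEquiv.mul_apply, ← pow_succ, Nat.sub_add_cancel hn, hσ]; rfl] at h2
  have hz0 : z ≠ 0 := fun h0 => by rw [h0, map_zero, map_zero] at h1; exact zero_ne_one h1
  rw [← W.valuation_le_one_iff, map_inv₀, inv_le_one₀ (pos_iff_ne_zero.2 ((_root_.map_ne_zero _).2 hz0))] at h2
  exact absurd hz (not_lt.2 h2)

variable {K Ω : Type u} [Field K] [Field Ω] [Algebra K Ω]

/-- Given a normal extension `Mi` of `Fi` with an integral basis and a separating unit at a level `M'`, linear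
relations over the residues of `E₁` between residues of `M'` give relations over the residues of `K'`. -/
theorem key_relation (W : ValuationSubring Ω) {ι : Type u} [Finite ι] {x : ι → Ω} (hx : ∀ i, x i ∈ W)
    {K' E₁ : IntermediateField K Ω} (hKE : K' ≤ E₁) (hindE : ResIndep E₁ hx) (hindK : ResIndep K' hx)
    {Fi : IntermediateField K Ω} (hEi : E₁ ≤ Fi) {Mi : IntermediateField Fi Ω} [FiniteDimensional Fi Mi]
    {ϖ : Ω} (hϖi : ϖ ∈ Fi) (hϖ0 : ϖ ≠ 0) (hϖ1 : W.valuation ϖ < 1)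
    (hval : ∀ z ∈ Mi, z ≠ 0 → ∃ k : ℤ, W.valuation z = W.valuation ϖ ^ k)
    {d : ℕ} (b : Module.Basis (Fin d) Fi Mi) (hb : ∀ j, ((b j : Mi) : Ω) ∈ W)
    (hrepr : ∀ y ∈ intRing Fi (W.comap (algebraMap Mi Ω)), ∀ j, ((b.repr y j : Fi) : Ω) ∈ W)
    (e : Mi) (he1 : W.valuation (e : Ω) = 1)
    (hesep : ∀ σ : Mi ≃ₐ[Fi] Mi, W.valuation ((σ e : Mi) : Ω) < 1 ∨
      ∀ w ∈ W.comap (algebraMap Mi Ω), σ w ∈ W.comap (algebraMap Mi Ω))
    {M' : IntermediateField K Ω} (hM'i : ∀ z ∈ M', z ∈ Mi) (heM : (e : Ω) ∈ M')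
    (hspan : ∀ z ∈ M', ∃ c : Fin d → Fi, (∀ j, (c j : Ω) ∈ IntermediateField.adjoin K' (Set.range x)) ∧
      z = ∑ j, (c j : Ω) * ((b j : Mi) : Ω))
    {s : Type u} [Fintype s] (z : s → Ω) (hzM : ∀ r, z r ∈ M') (hzW : ∀ r, z r ∈ W)
    (c : s → rsub W E₁.toSubfield)
    (hsum : ∑ r, (c r : ResidueField W) * res (W := W) (z r) (hzW r) = 0) (hc : c ≠ 0) :
    ∃ a : s → rsub W K'.toSubfield, a ≠ 0 ∧
      ∑ r, (a r : ResidueField W) * res (W := W) (z r) (hzW r) = 0 := by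
  classical
  choose Cr hCW hCE hCr using fun r : s => exists_of_mem_rsub (c r).2
  let WM : ValuationSubring Mi := W.comap (algebraMap Mi Ω)
  have hvϖ : (0 : W.ValueGroup) < W.valuation ϖ := pos_iff_ne_zero.2 ((_root_.map_ne_zero _).2 hϖ0)
  let z' : s → Mi := fun r => ⟨z r, hM'i _ (hzM r)⟩
  -- a power of `e` clearing the poles
  have harch : ∀ (r : s) (σ : Mi ≃ₐ[Fi] Mi), ∃ m : ℕ, ∀ m' ≥ m,
      W.valuation ((σ (z' r * e ^ m') : Mi) : Ω) < 1 ∨ ∀ w ∈ WM, σ w ∈ WM := by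
    intro r σ
    rcases hesep σ with h | h
    · by_cases hz0 : σ (z' r) = 0
      · exact ⟨0, fun m' _ => Or.inl (by rw [map_mul, hz0, zero_mul]; simp)⟩
      by_cases he0 : σ e = 0
      · exact ⟨1, fun m' hm' => Or.inl (by rw [map_mul, map_pow, he0, zero_pow (by omega), mul_zero]; simp)⟩
      obtain ⟨k, hk⟩ := hval _ (σ (z' r)).2 fun h0 => hz0 (Subtype.ext h0)
      obtain ⟨l, hl⟩ := hval _ (σ e).2 fun h0 => he0 (Subtype.ext h0)
      have hl1 : 1 ≤ l := by
        by_contra hneg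
        rw [hl] at h
        exact absurd h (not_lt.2 (one_le_zpow_of_nonpos₀ hvϖ hϖ1.le (by omega)))
      refine ⟨k.natAbs + 1, fun m' hm' => Or.inl ?_⟩
      rw [map_mul, map_pow, MulMemClass.coe_mul, SubmonoidClass.coe_pow, map_mul, map_pow, hk, hl, ← zpow_natCast,
        ← zpow_mul, ← zpow_add₀ hvϖ.ne']
      refine zpow_lt_one₀ hvϖ hϖ1 ?_
      have : (m' : ℤ) ≤ l * m' := le_mul_of_one_le_left (by positivity) hl1
      omega
    · exact ⟨0, fun m' _ => Or.inr h⟩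
  choose mm hmm using harch
  let m := Finset.univ.sup fun q : s × (Mi ≃ₐ[Fi] Mi) => mm q.1 q.2
  have hmσ : ∀ (r : s) (σ : Mi ≃ₐ[Fi] Mi), W.valuation ((σ (z' r * e ^ m) : Mi) : Ω) < 1 ∨ ∀ w ∈ WM, σ w ∈ WM := fun r σ =>
    hmm r σ m (Finset.le_sup (f := fun q : s × (Mi ≃ₐ[Fi] Mi) => mm q.1 q.2) (Finset.mem_univ (r, σ)))
  have heW : (e : Ω) ∈ W := (W.valuation_le_one_iff _).1 he1.le
  let y : s → Mi := fun r => z' r * e ^ m
  have hyI : ∀ r, y r ∈ intRing Fi WM := fun r σ => by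
    rcases hmσ r σ with h | h
    · exact (W.valuation_le_one_iff _).1 h.le
    · exact h _ (mul_mem (show z' r ∈ WM from hzW r) (pow_mem (show e ∈ WM from heW) m))
  let C : s → Fi := fun r => ⟨Cr r, hEi (hCE r)⟩
  set Y : Mi := ∑ r, algebraMap Fi Mi (C r) * y r with hY
  have hY0 : W.valuation (Y : Ω) < 1 := by
    have hmemY : ∑ r, Cr r * z r ∈ W := sum_mem fun r _ => mul_mem (hCW r) (hzW r)
    have h1 : W.valuation (∑ r, Cr r * z r) < 1 := by
      rw [← res_zero_iff hmemY, ← hsum]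
      rw [res, show (⟨_, hmemY⟩ : W) = ∑ r, (⟨Cr r, hCW r⟩ : W) * ⟨z r, hzW r⟩ from
        Subtype.ext (by push_cast; rfl), map_sum]
      refine Finset.sum_congr rfl fun r _ => ?_
      rw [map_mul, ← hCr r]
      rfl
    have h2 : (Y : Ω) = (∑ r, Cr r * z r) * (e : Ω) ^ m := by
      rw [hY, Finset.sum_mul]
      push_cast
      exact Finset.sum_congr rfl fun r _ => (mul_assoc _ _ _).symm
    rw [h2, map_mul, map_pow, he1, one_pow, mul_one]
    exact h1
  have hYσ : ∀ σ : Mi ≃ₐ[Fi] Mi, W.valuation ((σ Y : Mi) : Ω) < 1 := by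
    intro σ
    by_cases hP : ∀ w ∈ WM, σ w ∈ WM
    · exact (valuation_comap_lt_one W _ _).1 (conj_lt_of_preserve hP ((valuation_comap_lt_one W _ Y).2 hY0))
    · rw [hY, map_sum, AddSubmonoidClass.coe_finsetSum]
      refine W.valuation.map_sum_lt one_ne_zero fun r _ => ?_
      rw [map_mul σ, σ.commutes, MulMemClass.coe_mul, map_mul W.valuation]
      exact (mul_le_of_le_one_left' ((W.valuation_le_one_iff _).2 (hCW r))).trans_lt ((hmσ r σ).resolve_right hP)
  have hle1 : ∀ w ∈ Mi, W.valuation w < 1 → W.valuation w ≤ W.valuation ϖ := by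
    intro w hw hlt
    rcases eq_or_ne w 0 with rfl | hw0
    · simp
    obtain ⟨k, hk⟩ := hval w hw hw0
    rw [hk] at hlt ⊢
    have hk1 : 1 ≤ k := by
      by_contra hneg
      exact absurd hlt (not_lt.2 (one_le_zpow_of_nonpos₀ hvϖ hϖ1.le (by omega)))
    exact le_of_le_of_eq (zpow_le_zpow_right_of_le_one₀ hvϖ hϖ1.le hk1) (zpow_one _)
  have hYd : (⟨ϖ, hϖi⟩ : Fi)⁻¹ • Y ∈ intRing Fi WM := fun σ => by
    rw [map_smul σ (⟨ϖ, hϖi⟩ : Fi)⁻¹ Y]
    show ((⟨ϖ, hϖi⟩ : Fi)⁻¹ : Ω) * ((σ Y : Mi) : Ω) ∈ W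
    rw [← W.valuation_le_one_iff, map_mul, map_inv₀, inv_mul_le_one₀ hvϖ]
    exact hle1 _ (σ Y).2 (hYσ σ)
  -- coordinates
  choose γ hγF hγ using fun r => hspan ((y r : Mi) : Ω) (by
    show z r * (e : Ω) ^ m ∈ M'
    exact mul_mem (hzM r) (pow_mem heM m))
  have hrep : ∀ r j, b.repr (y r) j = γ r j := fun r j => by
    have hγi : y r = ∑ j, γ r j • b j := by
      apply Subtype.ext
      push_cast
      exact hγ r
    rw [hγi, b.repr_sum_self]
  have hγW : ∀ r j, (γ r j : Ω) ∈ W := fun r j => hrep r j ▸ hrepr (y r) (hyI r) j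
  have hrel : ∀ j, W.valuation (∑ r, Cr r * (γ r j : Ω)) < 1 := by
    intro j
    have h1 := hrepr _ hYd j
    have h3 : b.repr Y j = ∑ r, C r * γ r j := by
      rw [hY, map_sum, Finsupp.finsetSum_apply]
      exact Finset.sum_congr rfl fun r _ => by
        rw [← Algebra.smul_def, map_smul, Finsupp.smul_apply, smul_eq_mul, hrep]
    rw [map_smul, Finsupp.smul_apply, smul_eq_mul, h3] at h1
    have h4 : W.valuation (ϖ⁻¹ * ∑ r, Cr r * (γ r j : Ω)) ≤ 1 := by
      rw [W.valuation_le_one_iff]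
      push_cast at h1
      exact h1
    rw [map_mul, map_inv₀, inv_mul_le_one₀ hvϖ] at h4
    exact h4.trans_lt hϖ1
  letI : Algebra (rsub W K'.toSubfield) (rsub W E₁.toSubfield) :=
    (Subfield.inclusion (rsub_mono fun w hw => hKE hw)).toAlgebra
  haveI : IsScalarTower (rsub W K'.toSubfield) (rsub W E₁.toSubfield) (ResidueField W) :=
    IsScalarTower.of_algebraMap_eq fun _ => rfl
  have hγres : ∀ r j, res (W := W) (γ r j : Ω) (hγW r j) ∈ IntermediateField.adjoin (rsub W K'.toSubfield)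
      (Set.range fun i => res (W := W) (x i) (hx i)) := fun r j => (gauss_field hx hindK (hγF r j)).2 _
  have hres0 : ∀ j, ∑ r, (c r : ResidueField W) * res (W := W) (γ r j : Ω) (hγW r j) = 0 := fun j => by
    have hm : ∑ r, Cr r * (γ r j : Ω) ∈ W := sum_mem fun r _ => mul_mem (hCW r) (hγW r j)
    rw [← (res_zero_iff hm).2 (hrel j), res, show (⟨_, hm⟩ : W) = ∑ r, (⟨Cr r, hCW r⟩ : W) * ⟨_, hγW r j⟩ from
      Subtype.ext (by push_cast; rfl), map_sum]
    refine Finset.sum_congr rfl fun r _ => ?_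
    rw [map_mul, ← hCr r]
    rfl
  obtain ⟨a, ha, hau⟩ := exists_relation (k := rsub W K'.toSubfield) (k' := rsub W E₁.toSubfield)
    (κ := ResidueField W) hindE (fun r (j : ULift.{u} (Fin d)) => res (W := W) (γ r j.down : Ω) (hγW r j.down))
    (fun r j => hγres r j.down) c hc fun j => hres0 j.down
  refine ⟨a, ha, ?_⟩
  choose Ar hAW hAK hAr using fun r : s => exists_of_mem_rsub (a r).2
  have hval0 : W.valuation (∑ r, Ar r * (y r : Ω)) < 1 := by
    have heq : ∑ r, Ar r * (y r : Ω) = ∑ j, (∑ r, Ar r * (γ r j : Ω)) * ((b j : Mi) : Ω) := by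
      simp only [Finset.sum_mul]
      rw [Finset.sum_comm]
      refine Finset.sum_congr rfl fun r _ => ?_
      rw [hγ r, Finset.mul_sum]
      exact Finset.sum_congr rfl fun j _ => (mul_assoc _ _ _).symm
    rw [heq]
    refine W.valuation.map_sum_lt one_ne_zero fun j _ => ?_
    rw [map_mul]
    refine (mul_le_of_le_one_right' ((W.valuation_le_one_iff _).2 (hb j))).trans_lt ?_
    have hm : ∑ r, Ar r * (γ r j : Ω) ∈ W := sum_mem fun r _ => mul_mem (hAW r) (hγW r j)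
    rw [← res_zero_iff hm, res, show (⟨_, hm⟩ : W) = ∑ r, (⟨Ar r, hAW r⟩ : W) * ⟨_, hγW r j⟩ from
      Subtype.ext (by push_cast; rfl), map_sum, ← hau ⟨j⟩]
    refine Finset.sum_congr rfl fun r _ => ?_
    rw [map_mul]
    show _ = (a r : ResidueField W) * _
    rw [← hAr r]
    rfl
  have hfac : ∑ r, Ar r * (y r : Ω) = (∑ r, Ar r * z r) * (e : Ω) ^ m := by
    rw [Finset.sum_mul]
    exact Finset.sum_congr rfl fun r _ => (mul_assoc _ _ _).symm
  rw [hfac, map_mul, map_pow, he1, one_pow, mul_one] at hval0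
  have hm : ∑ r, Ar r * z r ∈ W := sum_mem fun r _ => mul_mem (hAW r) (hzW r)
  rw [← res_zero_iff hm, res, show (⟨_, hm⟩ : W) = ∑ r, (⟨Ar r, hAW r⟩ : W) * ⟨z r, hzW r⟩ from
    Subtype.ext (by push_cast; rfl), map_sum] at hval0
  rw [← hval0]
  refine Finset.sum_congr rfl fun r _ => ?_
  rw [map_mul, ← hAr r]
  rfl

end Groth.Agent.EppASH7
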