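import Groth.Agent.Lib.EppASH7.PerfLevel
import Groth.Agent.Lib.EppASH7.Conj
import Groth.Agent.Lib.EppASH7.KeyRel
import Groth.Agent.Lib.EtRamH7.Good
import Groth.Agent.Lib.Sep.Basic
import Mathlib.RingTheory.DedekindDomain.IntegralClosure

/-!
# A finite level which is good
-/

set_option autoImplicit false
set_option linter.style.haveILetI false

universe u

open IsLocalRing Polynomial

namespace Groth.Agent.EppASH7

/-- A basis of the integers. -/
theorem exists_int_basis {F M : Type u} [Field F] [Field M] [Algebra F M] [FiniteDimensional F M] [Normal F M]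
    [Algebra.IsSeparable F M] (W : ValuationSubring M) [IsDiscreteValuationRing (W.comap (algebraMap F M))] :
    ∃ (n : ℕ) (b : Module.Basis (Fin n) F M), (∀ j, b j ∈ intRing F W) ∧
      ∀ y ∈ intRing F W, ∀ j, algebraMap F M (b.repr y j) ∈ W := by
  classical
  let C := W.comap (algebraMap F M)
  letI : Algebra C M := ((algebraMap F M).comp C.subtype).toAlgebra
  haveI : IsScalarTower C F M := IsScalarTower.of_algebraMap_eq fun _ => rfl
  let R := integralClosure C M
  haveI : Module.Finite C R := IsIntegralClosure.finite C F M R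
  haveI : Module.IsTorsionFree C M := .trans_faithfulSMul C F M
  haveI : Module.Free C R := IsIntegralClosure.module_free C F M R
  haveI : IsLocalization (Algebra.algebraMapSubmonoid R (nonZeroDivisors C)) M :=
    IsIntegralClosure.isLocalization C F M R
  let b₀ := Module.finBasis C R
  let b := b₀.localizationLocalization F (nonZeroDivisors C) M
  refine ⟨_, b, fun j => ?_, fun y hy j => ?_⟩
  · rw [Module.Basis.localizationLocalization_apply]
    obtain ⟨P, hP, hPy⟩ := (b₀ j).2
    refine mem_intRing_of_monic (hP.map C.subtype) (fun i => ?_) ?_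
    · rw [coeff_map]; exact (P.coeff i).2
    · rw [aeval_def, eval₂_map]
      exact hPy
  · obtain ⟨P, hP, hc, hPy⟩ := exists_monic_of_mem_intRing hy
    obtain ⟨Q, hQ, -, hQm⟩ := lifts_and_natDegree_eq_and_monic (f := C.subtype) (p := P)
      ((lifts_iff_coeff_lifts _).2 fun i => ⟨⟨P.coeff i, hc i⟩, rfl⟩) hP
    have hint : IsIntegral C y := ⟨Q, hQm, by
      rw [show algebraMap C M = (algebraMap F M).comp C.subtype from rfl, ← eval₂_map, hQ, ← aeval_def, hPy]⟩
    have h1 := Module.Basis.localizationLocalization_repr_algebraMap F (nonZeroDivisors C) M b₀ ⟨y, hint⟩ j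
    rw [show algebraMap R M ⟨y, hint⟩ = y from rfl] at h1
    show algebraMap F M (b.repr y j) ∈ W
    rw [h1]
    exact (b₀.repr ⟨y, hint⟩ j).2

variable {K Ω : Type u} [Field K] [Field Ω] [Algebra K Ω]

/-- A level is good as soon as it has no new values and linear relations descend. -/
theorem good_of_key {p : ℕ} (hp : p.Prime) (W : ValuationSubring Ω) [CharP (ResidueField W) p]
    (E₁ : IntermediateField K Ω) (hperf : ∀ a ∈ E₁, a ∈ W → ∃ r ∈ E₁, r ∈ W ∧ W.valuation (a - r ^ p) < 1)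
    {K' M' : IntermediateField K Ω} (hK'E : K' ≤ E₁) (hKM' : K' ≤ M')
    {ϖ : Ω} (hϖK' : ϖ ∈ K') (hϖ0 : ϖ ≠ 0) (hϖ1 : W.valuation ϖ < 1)
    (hvM' : ∀ z ∈ M', z ≠ 0 → ∃ k : ℤ, W.valuation z = W.valuation ϖ ^ k)
    (key : ∀ {s : Type u} [Fintype s] (z : s → Ω) (_hzM : ∀ r, z r ∈ M') (hzW : ∀ r, z r ∈ W)
      (c : s → rsub W E₁.toSubfield), ∑ r, (c r : ResidueField W) * res (W := W) (z r) (hzW r) = 0 → c ≠ 0 →
      ∃ a : s → rsub W K'.toSubfield, a ≠ 0 ∧
        ∑ r, (a r : ResidueField W) * res (W := W) (z r) (hzW r) = 0) :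
    EtRamH7.Good (W.comap (algebraMap M' Ω)) (IntermediateField.inclusion hKM').toRingHom := by
  classical
  haveI : Fact p.Prime := ⟨hp⟩
  refine ⟨?_, ?_⟩
  · -- no new values
    let WM' := W.comap (algebraMap M' Ω)
    let f : K' →+* M' := (IntermediateField.inclusion hKM').toRingHom
    show (maximalIdeal (WM'.comap f)).map (EtRam.inclOfComap WM' f) = maximalIdeal WM'
    refine le_antisymm (((local_hom_TFAE _).out 0 2 rfl rfl).1 (EtRam.isLocalHom_inclOfComap WM' f)) fun z hz => ?_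
    rcases eq_or_ne z 0 with rfl | hz0
    · exact zero_mem _
    have hzΩ : ((z : M') : Ω) ≠ 0 := fun h => hz0 (Subtype.ext (Subtype.ext h))
    obtain ⟨k, hk⟩ := hvM' _ (z : M').2 hzΩ
    have hzlt : W.valuation ((z : M') : Ω) < 1 :=
      (valuation_comap_lt_one W (algebraMap M' Ω) (z : M')).1 ((WM'.valuation_lt_one_iff z).1 hz)
    have hk1 : 1 ≤ k := by
      by_contra hneg
      rw [hk] at hzlt
      exact absurd hzlt (not_lt.2 (one_le_zpow_of_nonpos₀ (pos_iff_ne_zero.2 ((_root_.map_ne_zero _).2 hϖ0)) hϖ1.le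
        (by omega)))
    have hq : (z : M') / ⟨ϖ, hKM' hϖK'⟩ ∈ WM' := by
      show ((z : M') : Ω) / ϖ ∈ W
      rw [← W.valuation_le_one_iff, map_div₀, hk, div_eq_mul_inv, ← zpow_neg_one, ← zpow_add₀ ((_root_.map_ne_zero _).2 hϖ0)]
      rcases (show k + -1 = 0 ∨ 0 < k + -1 by omega) with h | h
      · rw [h, zpow_zero]
      · exact (zpow_lt_one₀ (pos_iff_ne_zero.2 ((_root_.map_ne_zero _).2 hϖ0)) hϖ1 h).le
    have hϖW : (⟨ϖ, hϖK'⟩ : K') ∈ WM'.comap f := (W.valuation_le_one_iff _).1 hϖ1.le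
    rw [show z = EtRam.inclOfComap WM' f ⟨_, hϖW⟩ * ⟨_, hq⟩ from Subtype.ext
      (mul_div_cancel₀ _ fun h => hϖ0 (congrArg Subtype.val h)).symm]
    refine Ideal.mul_mem_right _ _ (Ideal.mem_map_of_mem _ ?_)
    rw [ValuationSubring.valuation_lt_one_iff]
    exact (valuation_comap_lt_one W (algebraMap K' Ω) ⟨ϖ, hϖK'⟩).2 hϖ1
  · -- residues
    let WM' := W.comap (algebraMap M' Ω)
    let f : K' →+* M' := (IntermediateField.inclusion hKM').toRingHom
    let V' := WM'.comap f
    let iM : WM' →+* W := EtRam.inclOfComap W (algebraMap M' Ω)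
    haveI : IsLocalHom iM := EtRam.isLocalHom_inclOfComap W _
    haveI : IsLocalHom (EtRam.inclOfComap WM' f) := EtRam.isLocalHom_inclOfComap WM' f
    let κ := ResidueField W
    let jM : ResidueField WM' →+* κ := ResidueField.map iM
    letI algV : Algebra (ResidueField V') (ResidueField WM') := (ResidueField.map (EtRam.inclOfComap WM' f)).toAlgebra
    haveI : CharP (ResidueField WM') p := (jM.charP_iff (RingHom.injective _) p).2 inferInstance
    haveI : CharP (ResidueField V') p :=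
      ((algebraMap (ResidueField V') (ResidueField WM')).charP_iff (RingHom.injective _) p).2 inferInstance
    let kE := rsub W E₁.toSubfield
    let kK := rsub W K'.toSubfield
    have hle : kK ≤ kE := rsub_mono fun z hz => hK'E hz
    letI : Algebra kK kE := (Subfield.inclusion hle).toAlgebra
    haveI : IsScalarTower kK kE κ := IsScalarTower.of_algebraMap_eq fun _ => rfl
    have hjV : ∀ a : ResidueField V', jM (algebraMap _ _ a) ∈ kK := fun a => by
      obtain ⟨a, rfl⟩ := residue_surjective a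
      exact res_mem_rsub (W := W) (E := K'.toSubfield) (c := ((a : K') : Ω)) (a : K').2 a.2
    haveI : ExpChar κ p := ExpChar.prime hp
    letI : Module (ResidueField V') (ResidueField WM') := algV.toModule
    refine Sep.isGeometricallyReduced_of_powLI (ResidueField V') (ResidueField WM') p ?_
    intro s hs
    rw [linearIndepOn_finset_iff]
    intro a ha i hi
    rw [linearIndepOn_finset_iff] at hs
    -- `p`-th roots of the coefficients
    have hroot : ∀ r : s, ∃ c : kE, ((c : κ)) ^ p = jM (algebraMap _ _ (a r)) := by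
      intro r
      obtain ⟨c, hcW, hcK, hc⟩ := exists_of_mem_rsub (hle (hjV (a r)))
      obtain ⟨d', hdE, hdW, hlt⟩ := hperf c hcK hcW
      refine ⟨⟨res d' hdW, res_mem_rsub hdE hdW⟩, ?_⟩
      rw [← hc]
      show residue W ⟨d', hdW⟩ ^ p = residue W ⟨c, hcW⟩
      rw [← map_pow, eq_comm, ← sub_eq_zero, ← map_sub, residue_eq_zero_iff, ValuationSubring.valuation_lt_one_iff]
      exact hlt
    choose c hc using hroot
    have hsum : ∑ r : s, (c r : κ) * jM r = 0 := by
      refine frobenius_inj κ p ?_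
      rw [map_zero, map_sum]
      have h1 := congrArg jM ha
      rw [map_zero, map_sum, ← Finset.sum_coe_sort] at h1
      rw [← h1]
      refine Finset.sum_congr rfl fun r _ => ?_
      rw [frobenius_def, mul_pow, hc r, ← map_pow, ← map_mul, Algebra.smul_def]
    by_contra hne
    have hc0 : c ≠ 0 := fun h0 => hne (by
      have h1 := hc ⟨i, hi⟩
      rw [h0, Pi.zero_apply, ZeroMemClass.coe_zero, zero_pow hp.ne_zero, eq_comm, map_eq_zero, map_eq_zero] at h1
      exact h1)
    choose zr hzr using fun r : s => residue_surjective (R := WM') (r : ResidueField WM')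
    have hjr : ∀ r : s, jM r = res (W := W) ((zr r : M') : Ω) (zr r).2 := fun r => by rw [← hzr r]; rfl
    simp only [hjr] at hsum
    obtain ⟨a', ha', hsum'⟩ := key (fun r : s => ((zr r : M') : Ω)) (fun r => (zr r : M').2) (fun r => (zr r).2)
      c hsum hc0
    simp only [← hjr] at hsum'
    obtain ⟨r₀, hr₀⟩ := Function.ne_iff.1 ha'
    have hlift : ∀ r : s, ∃ q : ResidueField V', jM (algebraMap _ _ q) = (a' r : κ) := fun r => by
      obtain ⟨c', hcW, hcK, hc'⟩ := exists_of_mem_rsub (a' r).2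
      exact ⟨residue V' (⟨⟨c', hcK⟩, hcW⟩ : V'), hc'⟩
    choose q hq using hlift
    have h0 := hs (fun r => if h : r ∈ s then q ⟨r, h⟩ else 0) (jM.injective (by
      rw [map_zero, map_sum, ← Finset.sum_coe_sort, ← hsum']
      refine Finset.sum_congr rfl fun r _ => ?_
      rw [dif_pos r.2, Algebra.smul_def, map_mul, hq]
      rfl)) r₀ r₀.2
    rw [dif_pos r₀.2] at h0
    refine hr₀ (Subtype.ext ?_)
    have h1 := hq r₀
    rw [h0, map_zero, map_zero] at h1
    exact h1.symm

variable [IsAlgClosed Ω]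

omit [IsAlgClosed Ω] in
theorem exists_finite_sublevel (E₁ : IntermediateField K Ω) (hE₁ : ∀ c ∈ E₁, IsAlgebraic K c) (S : Set Ω)
    (T : Finset Ω) (hT : ∀ z ∈ T, z ∈ IntermediateField.adjoin K ((E₁ : Set Ω) ∪ S)) :
    ∃ K' : IntermediateField K Ω, K' ≤ E₁ ∧ FiniteDimensional K K' ∧
      ∀ z ∈ T, z ∈ IntermediateField.adjoin K ((K' : Set Ω) ∪ S) := by
  classical
  choose! f hfs hfm using fun z (hz : z ∈ T) => IntermediateField.exists_finset_of_mem_adjoin (hT z hz)
  let U : Finset Ω := (T.biUnion f).filter (· ∈ E₁)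
  have hU : ∀ z ∈ U, z ∈ E₁ := fun z hz => (Finset.mem_filter.1 hz).2
  refine ⟨IntermediateField.adjoin K (U : Set Ω), IntermediateField.adjoin_le_iff.2 hU,
    IntermediateField.finiteDimensional_adjoin fun z hz => (hE₁ z (hU z hz)).isIntegral, fun z hz => ?_⟩
  refine (IntermediateField.adjoin_le_iff.2 fun y hy => ?_) (hfm z hz)
  rcases hfs z hz hy with h | h
  · exact IntermediateField.subset_adjoin K _ (Or.inl (IntermediateField.subset_adjoin K _
      (Finset.mem_filter.2 ⟨Finset.mem_biUnion.2 ⟨z, hz, hy⟩, h⟩)))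
  · exact IntermediateField.subset_adjoin K _ (Or.inr h)

/-- A splitting element stays splitting over a larger field. -/
theorem normal_adjoin_of_le {F₀ Fi : IntermediateField K Ω} (h : F₀ ≤ Fi) (θ : Ω) (hθ : IsSeparable F₀ θ)
    (hsplit : ∀ r : Ω, aeval r (minpoly F₀ θ) = 0 → r ∈ IntermediateField.adjoin F₀ ({θ} : Set Ω)) :
    IsSeparable Fi θ ∧ Normal Fi (IntermediateField.adjoin Fi ({θ} : Set Ω)) := by
  letI : Algebra F₀ Fi := (IntermediateField.inclusion h).toRingHom.toAlgebra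
  haveI : IsScalarTower F₀ Fi Ω := IsScalarTower.of_algebraMap_eq fun _ => rfl
  have hsepi : IsSeparable Fi θ := hθ.tower_top Fi
  refine ⟨hsepi, ?_⟩
  set Mi : IntermediateField Fi Ω := IntermediateField.adjoin Fi ({θ} : Set Ω)
  have h0i : ∀ r ∈ IntermediateField.adjoin F₀ ({θ} : Set Ω), r ∈ Mi := by
    intro r hr
    induction hr using IntermediateField.adjoin_induction with
    | mem y hy => exact IntermediateField.subset_adjoin Fi _ hy
    | algebraMap c => exact Mi.algebraMap_mem ⟨c, h c.2⟩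
    | add _ _ _ _ ha hb => exact Mi.add_mem ha hb
    | inv _ _ ha => exact Mi.inv_mem ha
    | mul _ _ _ _ ha hb => exact Mi.mul_mem ha hb
  have hMi : Mi = IntermediateField.adjoin Fi ((minpoly Fi θ).rootSet Ω) := by
    refine le_antisymm (IntermediateField.adjoin.mono Fi _ _ ?_) (IntermediateField.adjoin_le_iff.2 fun r hr => ?_)
    · rw [Set.singleton_subset_iff, mem_rootSet']
      exact ⟨((minpoly.monic hsepi.isIntegral).map _).ne_zero, minpoly.aeval Fi θ⟩
    · refine h0i r (hsplit r ?_)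
      obtain ⟨c, hc⟩ := minpoly.dvd_map_of_isScalarTower F₀ Fi θ
      rw [← aeval_map_algebraMap Fi, hc, map_mul, (mem_rootSet'.1 hr).2, zero_mul]
  haveI : IsSplittingField Fi Mi (minpoly Fi θ) :=
    hMi ▸ IntermediateField.adjoin_rootSet_isSplittingField (IsAlgClosed.splits _)
  exact Normal.of_isSplittingField (minpoly Fi θ)

omit [IsAlgClosed Ω] in
/-- A basis with members and minimal polynomial defined over a smaller field spans there. -/
theorem exists_span_of_descended {F' Fi : IntermediateField K Ω} (h : F' ≤ Fi) {θ : Ω} (hθ : IsIntegral Fi θ)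
    (hg : ∀ i, (((minpoly Fi θ).coeff i : Fi) : Ω) ∈ F') {d : ℕ}
    (b : Module.Basis (Fin d) Fi (IntermediateField.adjoin Fi ({θ} : Set Ω)))
    (hb : ∀ j, ((b j : IntermediateField.adjoin Fi ({θ} : Set Ω)) : Ω) ∈ IntermediateField.adjoin F' ({θ} : Set Ω))
    {z : Ω} (hz : z ∈ IntermediateField.adjoin F' ({θ} : Set Ω)) :
    ∃ c : Fin d → Fi, (∀ j, (c j : Ω) ∈ F') ∧
      z = ∑ j, (c j : Ω) * ((b j : IntermediateField.adjoin Fi ({θ} : Set Ω)) : Ω) := by
  classical
  set M'' : IntermediateField F' Ω := IntermediateField.adjoin F' ({θ} : Set Ω)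
  obtain ⟨g', hg', hg'd, hg'm⟩ := lifts_and_natDegree_eq_and_monic (f := algebraMap F' Ω)
    (p := (minpoly Fi θ).map (algebraMap Fi Ω))
    ((lifts_iff_coeff_lifts _).2 fun i => ⟨⟨_, hg i⟩, by rw [coeff_map]; rfl⟩) ((minpoly.monic hθ).map _)
  have hg'θ : aeval θ g' = 0 := by
    rw [aeval_def, ← eval_map, hg', eval_map, ← aeval_def, minpoly.aeval]
  have hθint' : IsIntegral F' θ := ⟨g', hg'm, hg'θ⟩
  haveI : FiniteDimensional F' M'' := IntermediateField.adjoin.finiteDimensional hθint'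
  have hdim : Module.finrank F' M'' ≤ d := by
    rw [IntermediateField.adjoin.finrank hθint', show d = Module.finrank Fi (IntermediateField.adjoin Fi ({θ} : Set Ω)) by
      rw [Module.finrank_eq_card_basis b, Fintype.card_fin], IntermediateField.adjoin.finrank hθ,
      ← natDegree_map (algebraMap Fi Ω), ← hg'd]
    exact natDegree_le_of_dvd (minpoly.dvd F' θ hg'θ) hg'm.ne_zero
  let v : Fin d → M'' := fun j => ⟨_, hb j⟩
  have hli : LinearIndependent F' v := by
    rw [Fintype.linearIndependent_iff]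
    intro c hc j
    have h1 : ∑ j, (⟨(c j : Ω), h (c j).2⟩ : Fi) • b j = 0 := by
      apply Subtype.ext
      push_cast
      have := congrArg (fun z : M'' => (z : Ω)) hc
      push_cast at this
      exact this
    exact Subtype.ext (congrArg (fun z : Fi => (z : Ω)) (Fintype.linearIndependent_iff.1 b.linearIndependent _ h1 j))
  have hcard : Fintype.card (Fin d) = Module.finrank F' M'' :=
    le_antisymm hli.fintype_card_le_finrank (by rw [Fintype.card_fin]; exact hdim)
  have hmem : (⟨z, hz⟩ : M'') ∈ Submodule.span F' (Set.range v) :=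
    hli.span_eq_top_of_card_eq_finrank' hcard ▸ Submodule.mem_top
  rw [Submodule.mem_span_range_iff_exists_fun] at hmem
  obtain ⟨c, hc⟩ := hmem
  refine ⟨fun j => ⟨(c j : Ω), h (c j).2⟩, fun j => (c j).2, ?_⟩
  have := congrArg (fun w : M'' => (w : Ω)) hc.symm
  push_cast at this
  exact this

omit [IsAlgClosed Ω] in
theorem mem_adjoin_union_singleton {S : Set Ω} {θ z : Ω}
    (hz : z ∈ IntermediateField.adjoin (IntermediateField.adjoin K S) ({θ} : Set Ω)) :
    z ∈ IntermediateField.adjoin K (S ∪ {θ}) := by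
  rw [← IntermediateField.mem_restrictScalars K, IntermediateField.adjoin_adjoin_left] at hz
  exact hz

omit [IsAlgClosed Ω] in
theorem mem_adjoin_singleton_of_union {S : Set Ω} {θ z : Ω} (hz : z ∈ IntermediateField.adjoin K (S ∪ {θ})) :
    z ∈ IntermediateField.adjoin (IntermediateField.adjoin K S) ({θ} : Set Ω) := by
  rw [← IntermediateField.mem_restrictScalars K, IntermediateField.adjoin_adjoin_left]
  exact hz

omit [IsAlgClosed Ω] in
/-- The finite level, given the data. -/
theorem good_level_aux {p : ℕ} (hp : p.Prime) (W : ValuationSubring Ω) [CharP (ResidueField W) p] {ι : Type u}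
    [Finite ι] {x : ι → Ω} (hx : ∀ i, x i ∈ W)
    (hind : AlgebraicIndependent (rsub W (algebraMap K Ω).fieldRange) fun i => res (W := W) (x i) (hx i))
    (θ : Ω) (E₁ : IntermediateField K Ω) (hE₁ : ∀ c ∈ E₁, IsAlgebraic K c) (ϖ : Ω) (hϖ0 : ϖ ≠ 0)
    (hϖ1 : W.valuation ϖ < 1)
    (hval : ∀ z ∈ IntermediateField.adjoin K ((E₁ : Set Ω) ∪ Set.range x ∪ {θ}), z ≠ 0 →
      ∃ k : ℤ, W.valuation z = W.valuation ϖ ^ k)
    (hperf : ∀ a ∈ E₁, a ∈ W → ∃ r ∈ E₁, r ∈ W ∧ W.valuation (a - r ^ p) < 1)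
    {Fi : IntermediateField K Ω} (hFi : Fi = IntermediateField.adjoin K ((E₁ : Set Ω) ∪ Set.range x))
    (hθi : IsIntegral Fi θ) {d : ℕ}
    (b : Module.Basis (Fin d) Fi (IntermediateField.adjoin Fi ({θ} : Set Ω)))
    (hb : ∀ j, ((b j : IntermediateField.adjoin Fi ({θ} : Set Ω)) : Ω) ∈ W)
    (hrepr : ∀ y ∈ intRing Fi (W.comap (algebraMap (IntermediateField.adjoin Fi ({θ} : Set Ω)) Ω)), ∀ j,
      ((b.repr y j : Fi) : Ω) ∈ W)
    (e : IntermediateField.adjoin Fi ({θ} : Set Ω)) (he1 : W.valuation (e : Ω) = 1)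
    (hesep : ∀ σ : IntermediateField.adjoin Fi ({θ} : Set Ω) ≃ₐ[Fi] IntermediateField.adjoin Fi ({θ} : Set Ω),
      W.valuation ((σ e : IntermediateField.adjoin Fi ({θ} : Set Ω)) : Ω) < 1 ∨
      ∀ w ∈ W.comap (algebraMap (IntermediateField.adjoin Fi ({θ} : Set Ω)) Ω),
        σ w ∈ W.comap (algebraMap (IntermediateField.adjoin Fi ({θ} : Set Ω)) Ω))
    {K' : IntermediateField K Ω} (hK'E : K' ≤ E₁) (hϖK' : ϖ ∈ K')
    (hdb : ∀ j, ((b j : IntermediateField.adjoin Fi ({θ} : Set Ω)) : Ω) ∈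
      IntermediateField.adjoin K ((K' : Set Ω) ∪ Set.range x ∪ {θ}))
    (hde : (e : Ω) ∈ IntermediateField.adjoin K ((K' : Set Ω) ∪ Set.range x ∪ {θ}))
    (hg : ∀ i, (((minpoly Fi θ).coeff i : Fi) : Ω) ∈ IntermediateField.adjoin K ((K' : Set Ω) ∪ Set.range x))
    {M' : IntermediateField K Ω} (hM' : M' = IntermediateField.adjoin K ((K' : Set Ω) ∪ Set.range x ∪ {θ}))
    (hKM' : K' ≤ M') :
    EtRamH7.Good (W.comap (algebraMap M' Ω)) (IntermediateField.inclusion hKM').toRingHom := by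
  subst hFi hM'
  haveI : FiniteDimensional (IntermediateField.adjoin K ((E₁ : Set Ω) ∪ Set.range x))
      (IntermediateField.adjoin (IntermediateField.adjoin K ((E₁ : Set Ω) ∪ Set.range x)) ({θ} : Set Ω)) :=
    IntermediateField.adjoin.finiteDimensional hθi
  have hsub : (K' : Set Ω) ∪ Set.range x ⊆ (E₁ : Set Ω) ∪ Set.range x := Set.union_subset_union_left _ hK'E
  have hF'i := IntermediateField.adjoin.mono K _ _ hsub
  have hM'gens : IntermediateField.adjoin K ((K' : Set Ω) ∪ Set.range x ∪ {θ}) ≤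
      IntermediateField.adjoin K ((E₁ : Set Ω) ∪ Set.range x ∪ {θ}) :=
    IntermediateField.adjoin.mono K _ _ (Set.union_subset_union_left _ hsub)
  refine good_of_key hp W E₁ hperf hK'E hKM' hϖK' hϖ0 hϖ1 (fun z hz => hval z (hM'gens hz)) ?_
  intro s _ z hzM hzW c hsum hc
  refine key_relation W hx hK'E (resIndep_of_isAlgebraic hx hind hE₁)
    (resIndep_of_isAlgebraic hx hind fun c hc => hE₁ c (hK'E hc))
    (Fi := IntermediateField.adjoin K ((E₁ : Set Ω) ∪ Set.range x))
    (fun w hw => IntermediateField.subset_adjoin K _ (Or.inl hw))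
    (IntermediateField.subset_adjoin K _ (Or.inl (hK'E hϖK'))) hϖ0 hϖ1
    (fun w hw => hval w (mem_adjoin_union_singleton hw)) b hb hrepr e he1 hesep
    (fun w hw => mem_adjoin_singleton_of_union (hM'gens hw)) hde (fun w hw => ?_) z hzM hzW c hsum hc
  obtain ⟨γ, hγF, hγ⟩ := exists_span_of_descended hF'i hθi hg b
    (fun j => mem_adjoin_singleton_of_union (hdb j)) (mem_adjoin_singleton_of_union hw)
  refine ⟨γ, fun j => ?_, hγ⟩
  refine (IntermediateField.adjoin_le_iff.2 ?_ :
    IntermediateField.adjoin K ((K' : Set Ω) ∪ Set.range x) ≤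
      (IntermediateField.adjoin K' (Set.range x)).restrictScalars K) (hγF j)
  rintro w (hw | hw)
  · exact (IntermediateField.adjoin K' (Set.range x)).algebraMap_mem ⟨w, hw⟩
  · exact IntermediateField.subset_adjoin K' _ hw

/-- The finite level. -/
theorem exists_good_level {p : ℕ} (hp : p.Prime) (W : ValuationSubring Ω) [CharP (ResidueField W) p] {ι : Type u}
    [Finite ι] {x : ι → Ω} (hx : ∀ i, x i ∈ W)
    (hind : AlgebraicIndependent (rsub W (algebraMap K Ω).fieldRange) fun i => res (W := W) (x i) (hx i))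
    (θ : Ω) (hθ : IsSeparable (IntermediateField.adjoin K (Set.range x)) θ)
    (hsplit : ∀ r : Ω, aeval r (minpoly (IntermediateField.adjoin K (Set.range x)) θ) = 0 →
      r ∈ IntermediateField.adjoin (IntermediateField.adjoin K (Set.range x)) {θ})
    (E₁ : IntermediateField K Ω) (hE₁ : ∀ c ∈ E₁, IsAlgebraic K c) (ϖ : Ω) (hϖE : ϖ ∈ E₁) (hϖ0 : ϖ ≠ 0)
    (hϖ1 : W.valuation ϖ < 1)
    (hval : ∀ z ∈ IntermediateField.adjoin K ((E₁ : Set Ω) ∪ Set.range x ∪ {θ}), z ≠ 0 →
      ∃ k : ℤ, W.valuation z = W.valuation ϖ ^ k)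
    (hperf : ∀ a ∈ E₁, a ∈ W → ∃ r ∈ E₁, r ∈ W ∧ W.valuation (a - r ^ p) < 1) :
    ∃ (K' : IntermediateField K Ω) (M' : IntermediateField K Ω) (h : K' ≤ M'), FiniteDimensional K K' ∧
      M' = IntermediateField.adjoin K ((K' : Set Ω) ∪ Set.range x ∪ {θ}) ∧
      EtRamH7.Good (W.comap (algebraMap M' Ω)) (IntermediateField.inclusion h).toRingHom ∧
      IsDiscreteValuationRing (W.comap (algebraMap M' Ω)) ∧ IsDiscreteValuationRing (W.comap (algebraMap K' Ω)) := by
  classical
  obtain ⟨hsepi, hnor⟩ := normal_adjoin_of_le (Fi := IntermediateField.adjoin K ((E₁ : Set Ω) ∪ Set.range x))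
    (IntermediateField.adjoin.mono K _ _ Set.subset_union_right) θ hθ hsplit
  set Fi : IntermediateField K Ω := IntermediateField.adjoin K ((E₁ : Set Ω) ∪ Set.range x) with hFi
  let Mi : IntermediateField Fi Ω := IntermediateField.adjoin Fi ({θ} : Set Ω)
  haveI : Normal Fi Mi := hnor
  haveI : FiniteDimensional Fi Mi := IntermediateField.adjoin.finiteDimensional hsepi.isIntegral
  haveI : Algebra.IsSeparable Fi Mi := (IntermediateField.isSeparable_adjoin_simple_iff_isSeparable Fi Ω).2 hsepi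
  let WM : ValuationSubring Mi := W.comap (algebraMap Mi Ω)
  have hMi_le : ∀ z ∈ Mi, z ∈ IntermediateField.adjoin K ((E₁ : Set Ω) ∪ Set.range x ∪ {θ}) :=
    fun z hz => mem_adjoin_union_singleton hz
  have hϖi : ϖ ∈ Fi := IntermediateField.subset_adjoin K _ (Or.inl hϖE)
  haveI : IsDiscreteValuationRing (WM.comap (algebraMap Fi Mi)) :=
    dvr_of_cyclic W (algebraMap Fi Ω) ⟨ϖ, hϖi⟩ hϖ0 hϖ1 fun z hz =>
      hval _ (IntermediateField.adjoin.mono K _ _ Set.subset_union_left z.2) fun h => hz (Subtype.ext h)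
  obtain ⟨d, b, hb, hrepr⟩ := exists_int_basis (F := Fi) WM
  obtain ⟨e, -, he1, hesep⟩ := exists_separating (F := Fi) (W := WM)
  obtain ⟨K₁, hK₁, hf₁, hT₁⟩ := exists_finite_sublevel E₁ hE₁ (Set.range x ∪ {θ})
    ({(e : Ω)} ∪ Finset.univ.image fun j => ((b j : Mi) : Ω)) fun z hz => by
      rw [← Set.union_assoc]
      rcases Finset.mem_union.1 hz with h | h
      · rw [Finset.mem_singleton.1 h]; exact hMi_le _ e.2
      · obtain ⟨j, -, rfl⟩ := Finset.mem_image.1 h; exact hMi_le _ (b j).2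
  obtain ⟨K₂, hK₂, hf₂, hT₂⟩ := exists_finite_sublevel E₁ hE₁ (Set.range x)
    ((Finset.range ((minpoly Fi θ).natDegree + 1)).image fun i => (((minpoly Fi θ).coeff i : Fi) : Ω)) fun z hz => by
      obtain ⟨i, -, rfl⟩ := Finset.mem_image.1 hz
      exact ((minpoly Fi θ).coeff i).2
  haveI : FiniteDimensional K (IntermediateField.adjoin K ({ϖ} : Set Ω)) :=
    IntermediateField.adjoin.finiteDimensional (hE₁ ϖ hϖE).isIntegral
  haveI := hf₁
  haveI := hf₂
  let K' : IntermediateField K Ω := K₁ ⊔ K₂ ⊔ IntermediateField.adjoin K ({ϖ} : Set Ω)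
  have hK'E : K' ≤ E₁ := sup_le (sup_le hK₁ hK₂) (IntermediateField.adjoin_le_iff.2 (by simpa using hϖE))
  have hϖK' : ϖ ∈ K' := (le_sup_right : _ ≤ K') (IntermediateField.subset_adjoin K _ rfl)
  let M' : IntermediateField K Ω := IntermediateField.adjoin K ((K' : Set Ω) ∪ Set.range x ∪ {θ})
  have hKM' : K' ≤ M' := fun z hz => IntermediateField.subset_adjoin K _ (Or.inl (Or.inl hz))
  have hvM' : ∀ z ∈ M', z ≠ 0 → ∃ k : ℤ, W.valuation z = W.valuation ϖ ^ k := fun z hz =>
    hval z (IntermediateField.adjoin.mono K _ _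
      (Set.union_subset_union_left _ (Set.union_subset_union_left _ hK'E)) hz)
  refine ⟨K', M', hKM', inferInstance, rfl, ?_,
    dvr_of_cyclic W (algebraMap M' Ω) ⟨ϖ, hKM' hϖK'⟩ hϖ0 hϖ1 fun z hz => hvM' z z.2 fun h => hz (Subtype.ext h),
    dvr_of_cyclic W (algebraMap K' Ω) ⟨ϖ, hϖK'⟩ hϖ0 hϖ1 fun z hz => hvM' z (hKM' z.2) fun h => hz (Subtype.ext h)⟩
  have hsub₁ : (K₁ : Set Ω) ⊆ (K' : Set Ω) := (le_sup_left.trans le_sup_left : K₁ ≤ K')
  have hsub₂ : (K₂ : Set Ω) ⊆ (K' : Set Ω) := (le_sup_right.trans le_sup_left : K₂ ≤ K')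
  have hmem₁ : ∀ z, z ∈ IntermediateField.adjoin K ((K₁ : Set Ω) ∪ (Set.range x ∪ {θ})) → z ∈ M' := fun z hz => by
    show z ∈ IntermediateField.adjoin K _
    rw [Set.union_assoc]
    exact IntermediateField.adjoin.mono K _ _ (Set.union_subset_union_left _ hsub₁) hz
  refine good_level_aux hp W hx hind θ E₁ hE₁ ϖ hϖ0 hϖ1 hval hperf hFi hsepi.isIntegral b
    (fun j => (mem_of_mem_intRing (W := WM) (hb j) :)) hrepr e ((valuation_comap_eq_one W _ e).1 he1)
    (fun σ => (hesep σ).imp_left (valuation_comap_lt_one W _ _).1) hK'E hϖK'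
    (fun j => hmem₁ _ (hT₁ _ (Finset.mem_union_right _ (Finset.mem_image_of_mem _ (Finset.mem_univ j)))))
    (hmem₁ _ (hT₁ _ (Finset.mem_union_left _ (Finset.mem_singleton_self _)))) (fun i => ?_) rfl hKM'
  rcases lt_or_ge (minpoly Fi θ).natDegree i with h | h
  · rw [coeff_eq_zero_of_natDegree_lt h]; exact zero_mem _
  exact IntermediateField.adjoin.mono K _ _ (Set.union_subset_union_left _ hsub₂)
    (hT₂ _ (Finset.mem_image_of_mem _ (Finset.mem_range.2 (Nat.lt_succ_of_le h))))

end Groth.Agent.EppASH7
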