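import Groth.Agent.Lib.EppASH7.Residue
import Mathlib.FieldTheory.IsAlgClosed.AlgebraicClosure
import Mathlib.FieldTheory.Perfect
import Mathlib.FieldTheory.SeparableClosure
import Mathlib.FieldTheory.IntermediateField.Adjoin.Basic

/-!
# Adjoining an algebraically closed perfect kernel
-/

set_option autoImplicit false
set_option linter.style.haveILetI false

universe u

open Polynomial

namespace Groth.Agent.EppASH7

/-- The minimal polynomial of an element with separable `p ^ n`-th roots has coefficients with all roots. -/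
theorem coeff_perfect {p : ℕ} (hp : p.Prime) (k₀ l : Type u) [Field k₀] [Field l] [CharP k₀ p] [Algebra k₀ l]
    (x : l) (hxi : IsSeparable k₀ x) (hx : ∀ n : ℕ, ∃ y : l, y ^ (p ^ n) = x ∧ IsSeparable k₀ y) (i n : ℕ) :
    ∃ y : k₀, y ^ (p ^ n) = (minpoly k₀ x).coeff i := by
  haveI : Fact p.Prime := ⟨hp⟩
  haveI : CharP l p := charP_of_injective_algebraMap (algebraMap k₀ l).injective p
  haveI : ExpChar k₀ p := ExpChar.prime hp
  haveI : ExpChar l p := ExpChar.prime hp
  obtain ⟨y, hy, hys⟩ := hx n
  have hxint : IsIntegral k₀ x := hxi.isIntegral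
  have hyint : IsIntegral k₀ y := hys.isIntegral
  refine ⟨(minpoly k₀ y).coeff i, ?_⟩
  let q := (minpoly k₀ y).map (iterateFrobenius k₀ p n)
  have hqm : q.Monic := (minpoly.monic hyint).map _
  have hq0 : aeval x q = 0 := by
    have h2 := congrArg (iterateFrobenius l p n) (minpoly.aeval k₀ y)
    rw [map_zero, aeval_def, hom_eval₂] at h2
    rw [aeval_def, eval₂_map, ← hy]
    convert h2 using 1
    congr 1
    ext r
    simp [iterateFrobenius_def]
  have hdeg : q.natDegree ≤ (minpoly k₀ x).natDegree := by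
    show ((minpoly k₀ y).map _).natDegree ≤ _
    rw [natDegree_map_eq_of_injective (iterateFrobenius k₀ p n).injective]
    haveI : FiniteDimensional k₀ (IntermediateField.adjoin k₀ ({y} : Set l)) :=
      IntermediateField.adjoin.finiteDimensional hyint
    haveI : Algebra.IsSeparable k₀ (IntermediateField.adjoin k₀ ({y} : Set l)) :=
      (IntermediateField.isSeparable_adjoin_simple_iff_isSeparable k₀ l).2 hys
    rw [← IntermediateField.adjoin.finrank hyint, ← IntermediateField.adjoin.finrank hxint,
      IntermediateField.adjoin_simple_eq_adjoin_pow_expChar_pow_of_isSeparable k₀ l hys p n, hy]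
  have hqe : q = minpoly k₀ x := eq_of_monic_of_dvd_of_natDegree_le (minpoly.monic hxint) hqm (minpoly.dvd k₀ x hq0) hdeg
  rw [← hqe, coeff_map, iterateFrobenius_def]

/-- A separable extension of `kB` whose perfect kernel is algebraically closed, separable over `kA`. -/
theorem exists_kernel_extension {p : ℕ} (hp : p.Prime) (kA kB : Type u) [Field kA] [Field kB] [Algebra kA kB]
    [CharP kA p] (hres : ∀ x : kB, (∀ n : ℕ, ∃ y : kB, y ^ (p ^ n) = x) → IsSeparable kA x) :
    ∃ (κ : Type u) (_ : Field κ) (_ : Algebra kA κ) (_ : Algebra kB κ) (_ : IsScalarTower kA kB κ) (kc : Subfield κ),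
      Algebra.IsSeparable kB κ ∧ IsAlgClosed kc ∧
      (∀ x : κ, (∀ n : ℕ, ∃ y : κ, y ^ (p ^ n) = x) → x ∈ kc) ∧
      ∀ c ∈ kc, IsSeparable kA c ∧ ((minpoly kA c).map (algebraMap kA κ)).Splits := by
  classical
  haveI : Fact p.Prime := ⟨hp⟩
  haveI : CharP kB p := charP_of_injective_algebraMap (algebraMap kA kB).injective p
  haveI : ExpChar kB p := ExpChar.prime hp
  haveI : ExpChar kA p := ExpChar.prime hp
  let perf : Subfield kB := ⨅ n : ℕ, (iterateFrobenius kB p n).fieldRange
  have hmem : ∀ x, x ∈ perf ↔ ∀ n : ℕ, ∃ y : kB, y ^ (p ^ n) = x := fun x => by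
    simp [perf, Subfield.mem_iInf, iterateFrobenius_def]
  haveI : CharP perf p := (RingHom.charP_iff perf.subtype Subtype.val_injective p).2 inferInstance
  haveI : ExpChar perf p := ExpChar.prime hp
  have hroot : ∀ x ∈ perf, ∃ y ∈ perf, y ^ p = x := by
    intro x hx
    obtain ⟨y, hy⟩ := (hmem x).1 hx 1
    rw [pow_one] at hy
    refine ⟨y, (hmem y).2 fun n => ?_, hy⟩
    obtain ⟨z, hz⟩ := (hmem x).1 hx (n + 1)
    refine ⟨z, frobenius_inj kB p ?_⟩
    show (z ^ p ^ n) ^ p = y ^ p
    rw [← pow_mul, ← pow_succ, hz, hy]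
  haveI : PerfectRing perf p := PerfectRing.ofSurjective _ p fun x => by
    obtain ⟨y, hy, hyx⟩ := hroot x x.2
    exact ⟨⟨y, hy⟩, Subtype.ext hyx⟩
  haveI : PerfectField perf := PerfectRing.toPerfectField perf p
  let Kb := AlgebraicClosure kB
  haveI : IsAlgClosed Kb := AlgebraicClosure.isAlgClosed kB
  haveI : CharP Kb p := charP_of_injective_algebraMap (algebraMap kB Kb).injective p
  haveI : ExpChar Kb p := ExpChar.prime hp
  let kcl : IntermediateField perf Kb := algebraicClosure perf Kb
  haveI : IsAlgClosure perf kcl := algebraicClosure.isAlgClosure perf Kb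
  haveI : IsAlgClosed kcl := IsAlgClosure.isAlgClosed (R := perf)
  haveI : CharP kcl p := charP_of_injective_algebraMap (algebraMap perf kcl).injective p
  -- separable over `kA`
  have hsepA : ∀ c ∈ kcl, IsSeparable kA c := by
    intro c hc
    let Ss : IntermediateField kA Kb := separableClosure kA Kb
    have hperf : ∀ r : perf, algebraMap kB Kb r ∈ Ss := fun r =>
      mem_separableClosure_iff.2 ((hres _ ((hmem _).1 r.2)).map (IsScalarTower.toAlgHom kA kB Kb) (RingHom.injective _))
    let f : perf →+* Ss := (algebraMap perf Kb).codRestrict Ss hperf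
    have h1 : IsSeparable perf c :=
      PerfectField.separable_of_irreducible (minpoly.irreducible (mem_algebraicClosure_iff.1 hc).isIntegral)
    have h2 : IsSeparable Ss c := by
      have h3 : ((minpoly perf c).map f).Separable := Polynomial.Separable.map h1
      refine h3.of_dvd (minpoly.dvd Ss c ?_)
      rw [aeval_def, eval₂_map]
      exact minpoly.aeval perf c
    exact IsSeparable.of_algebra_isSeparable_of_isSeparable kA h2
  let κI : IntermediateField kB Kb := IntermediateField.adjoin kB (kcl : Set Kb)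
  haveI hsepκ : Algebra.IsSeparable kB κI :=
    (IntermediateField.isSeparable_adjoin_iff_isSeparable kB Kb).2 fun c hc => (hsepA c hc).tower_top kB
  have hsub : ∀ c ∈ kcl, c ∈ κI := fun c hc => IntermediateField.subset_adjoin kB _ hc
  let kc : Subfield κI := kcl.toSubfield.comap (algebraMap κI Kb)
  let e : kc ≃+* kcl :=
    { toFun := fun x => ⟨((x : κI) : Kb), x.2⟩
      invFun := fun x => ⟨⟨(x : Kb), hsub _ x.2⟩, x.2⟩
      left_inv := fun x => Subtype.ext (Subtype.ext rfl)
      right_inv := fun x => Subtype.ext rfl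
      map_mul' := fun _ _ => rfl
      map_add' := fun _ _ => rfl }
  have hcoeff : ∀ (c : κI), IsSeparable kA c → (∀ n : ℕ, ∃ y : κI, y ^ (p ^ n) = c ∧ IsSeparable kA y) → ∀ i,
      algebraMap kA kB ((minpoly kA c).coeff i) ∈ perf := by
    intro c hc hy i
    refine (hmem _).2 fun n => ?_
    obtain ⟨y, hy⟩ := coeff_perfect hp kA κI c hc hy i n
    exact ⟨algebraMap kA kB y, by rw [← map_pow, hy]⟩
  refine ⟨κI, inferInstance, inferInstance, inferInstance, inferInstance, kc, hsepκ, IsAlgClosed.of_ringEquiv _ _ e.symm,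
    fun x hx => ?_, fun c hc => ?_⟩
  · -- the perfect kernel
    have hxi : IsSeparable kB x := Algebra.IsSeparable.isSeparable kB x
    have hco : ∀ i, (minpoly kB x).coeff i ∈ perf := fun i => (hmem _).2 fun n =>
      coeff_perfect hp kB κI x hxi (fun m => (hx m).imp fun y hy => ⟨hy, Algebra.IsSeparable.isSeparable kB y⟩) i n
    show (x : Kb) ∈ kcl
    refine mem_algebraicClosure_iff.2 (IsIntegral.isAlgebraic ?_)
    obtain ⟨g, hg, -, hgm⟩ := lifts_and_natDegree_eq_and_monic
      (f := algebraMap perf kB) (p := minpoly kB x)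
      ((lifts_iff_coeff_lifts _).2 fun i => ⟨⟨_, hco i⟩, rfl⟩) (minpoly.monic hxi.isIntegral)
    refine ⟨g, hgm, ?_⟩
    have h0 : (minpoly kB x).eval₂ (algebraMap kB Kb) (x : Kb) = 0 := by
      rw [← aeval_def, IntermediateField.aeval_coe, minpoly.aeval, ZeroMemClass.coe_zero]
    rw [← hg, eval₂_map] at h0
    exact h0
  · -- separability and splitting
    have hcs : IsSeparable kA c := by
      have h1 := hsepA _ hc
      exact IsSeparable.of_algHom (κI.val.restrictScalars kA) h1
    refine ⟨hcs, ?_⟩
    have hy : ∀ n : ℕ, ∃ y : κI, y ^ (p ^ n) = c ∧ IsSeparable kA y := fun n => by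
      obtain ⟨y, hy⟩ := IsAlgClosed.exists_pow_nat_eq (⟨(c : Kb), hc⟩ : kcl) (pow_pos hp.pos n)
      refine ⟨⟨(y : Kb), hsub _ y.2⟩, Subtype.ext ?_, ?_⟩
      · exact congrArg (fun z : kcl => (z : Kb)) hy
      · exact IsSeparable.of_algHom (κI.val.restrictScalars kA) (hsepA _ y.2)
    let j : perf →+* kcl := algebraMap perf kcl
    have hlift : ((minpoly kA c).map (algebraMap kA kB)) ∈ Polynomial.lifts perf.subtype :=
      (lifts_iff_coeff_lifts _).2 fun i => ⟨⟨_, hcoeff c hcs hy i⟩, (coeff_map _ _).symm⟩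
    obtain ⟨g, hg⟩ := hlift
    have hg' : g.map perf.subtype = (minpoly kA c).map (algebraMap kA kB) := hg
    have hmap : (minpoly kA c).map (algebraMap kA κI) =
        ((g.map j).map e.symm.toRingHom).map kc.subtype := by
      rw [IsScalarTower.algebraMap_eq kA kB κI, ← Polynomial.map_map, ← hg', Polynomial.map_map, Polynomial.map_map,
        Polynomial.map_map]
      rfl
    rw [hmap]
    haveI := IsAlgClosed.of_ringEquiv _ _ e.symm
    exact (IsAlgClosed.splits _).map _

end Groth.Agent.EppASH7
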