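import Groth.Agent.Lib.EppASH7.Shift

/-!
# Normal forms for Kummer elements `1 + w y` modulo `p`-th powers
-/

set_option autoImplicit false
set_option linter.style.haveILetI false

universe u

open Polynomial IsLocalRing

namespace Groth.Agent.EppASH7

variable (p : ℕ) {B : Type u} [CommRing B] (π lam w : B) (S : Subring B)

/-- Congruence of Kummer elements modulo `p`-th powers, `1 + w S`-elements and `1 + w V`. -/
def KRel (a b : ℕ × B[X]) : Prop :=
  ∃ (Ma : ℕ) (Pa : B[X]), InS S Pa ∧ ∃ N₀ : ℕ, ∀ N, N₀ ≤ N → a.1 ≤ N → b.1 ≤ N → Ma ≤ N ∧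
    ∀ (F : Type u) [Field F] (ι : B →+* F) (x : F) (V : ValuationSubring F), RealizesExact p π N ι x V →
      ∃ h v, v ∈ V ∧ 1 + ι w * ev p N a.1 ι x a.2 =
        (1 + ι lam * h) ^ p * (1 + ι w * ev p N Ma ι x Pa) * (1 + ι w * ev p N b.1 ι x b.2) * (1 + ι w * v)

variable {p π lam w S}

theorem KRel.of_eq {a b : ℕ × B[X]} (N₀ : ℕ) (H : ∀ N, N₀ ≤ N → a.1 ≤ N → b.1 ≤ N → ∀ (F : Type u) [Field F]
    (ι : B →+* F) (x : F) (V : ValuationSubring F), RealizesExact p π N ι x V →
      ∃ h v, v ∈ V ∧ 1 + ι w * ev p N a.1 ι x a.2 =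
        (1 + ι lam * h) ^ p * (1 + ι w * ev p N b.1 ι x b.2) * (1 + ι w * v)) : KRel p π lam w S a b := by
  refine ⟨0, 0, fun i => by simp, N₀, fun N hN ha hb => ⟨Nat.zero_le _, fun F _ ι x V h => ?_⟩⟩
  obtain ⟨h', v, hv, he⟩ := H N hN ha hb F ι x V h
  refine ⟨h', v, hv, he.trans ?_⟩
  simp [ev]

theorem KRel.refl (a : ℕ × B[X]) : KRel p π lam w S a a :=
  KRel.of_eq 0 fun N _ _ _ F _ ι x V _ => ⟨0, 0, V.zero_mem, by simp⟩

theorem KRel.trans [Fact p.Prime] (hw : w ∈ S) {a b c : ℕ × B[X]} (h₁ : KRel p π lam w S a b)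
    (h₂ : KRel p π lam w S b c) : KRel p π lam w S a c := by
  have hp : 0 < p := (Fact.out : p.Prime).pos
  obtain ⟨M₁, P₁, hP₁, N₁, H₁⟩ := h₁
  obtain ⟨M₂, P₂, hP₂, N₂, H₂⟩ := h₂
  let Q₁ := expand B (p ^ M₂) P₁
  let Q₂ := expand B (p ^ M₁) P₂
  refine ⟨M₁ + M₂, Q₁ + Q₂ + C w * Q₁ * Q₂, fun i => ?_, max (max N₁ N₂) (max b.1 (M₁ + M₂)), fun N hN ha hc => ?_⟩
  · have h1 : InS S Q₁ := inS_expand hP₁ _ (pow_pos hp _)
    have h2 : InS S Q₂ := inS_expand hP₂ _ (pow_pos hp _)
    rw [coeff_add, coeff_add, mul_assoc, coeff_C_mul, coeff_mul]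
    exact S.add_mem (S.add_mem (h1 i) (h2 i)) (S.mul_mem hw (sum_mem fun x _ => S.mul_mem (h1 _) (h2 _)))
  simp only [max_le_iff] at hN
  obtain ⟨⟨hN₁, hN₂⟩, hb, hM⟩ := hN
  obtain ⟨hM₁, H₁⟩ := H₁ N hN₁ ha hb
  obtain ⟨hM₂, H₂⟩ := H₂ N hN₂ hb hc
  refine ⟨hM, fun F _ ι x V h => ?_⟩
  obtain ⟨h₁, v₁, hv₁, e₁⟩ := H₁ F ι x V h
  obtain ⟨h₂, v₂, hv₂, e₂⟩ := H₂ F ι x V h
  refine ⟨h₁ + h₂ + ι lam * h₁ * h₂, v₁ + v₂ + ι w * v₁ * v₂,
    add_mem (add_mem hv₁ hv₂) (mul_mem (mul_mem (h.mem w) hv₁) hv₂), ?_⟩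
  have hQ₁ : ev p N (M₁ + M₂) ι x Q₁ = ev p N M₁ ι x P₁ := ev_expand hM ι x P₁
  have hQ₂ : ev p N (M₁ + M₂) ι x Q₂ = ev p N M₂ ι x P₂ := by
    rw [add_comm M₁ M₂]; exact ev_expand (by omega) ι x P₂
  have hQ : ev p N (M₁ + M₂) ι x (Q₁ + Q₂ + C w * Q₁ * Q₂) =
      ev p N M₁ ι x P₁ + ev p N M₂ ι x P₂ + ι w * ev p N M₁ ι x P₁ * ev p N M₂ ι x P₂ := by
    simp only [ev] at hQ₁ hQ₂ ⊢
    rw [eval₂_add, eval₂_add, eval₂_mul, eval₂_mul, eval₂_C, hQ₁, hQ₂]
  rw [e₁, e₂, hQ, show (1 + ι lam * (h₁ + h₂ + ι lam * h₁ * h₂)) ^ p =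
    (1 + ι lam * h₁) ^ p * (1 + ι lam * h₂) ^ p by rw [← mul_pow]; congr 1; ring]
  ring

theorem kRel_expand (M k : ℕ) (P : B[X]) : KRel p π lam w S (M, P) (M + k, expand B (p ^ k) P) :=
  KRel.of_eq 0 fun N _ _ hb F _ ι x V _ => ⟨0, 0, V.zero_mem, by rw [ev_expand hb]; simp⟩

section Steps

variable {P₀ n : ℕ} {u : B} (hw : w = π ^ P₀ * u) (hn : n + 2 ≤ P₀)

include hw hn in
/-- `π d T ^ i` drops to the band below. -/
theorem kRel_pi (hp : p ≠ 0) (M i : ℕ) (d : B) (R : B[X]) (hR : R.natDegree ≤ (n + 1) * p ^ M) (hi : i ≤ (n + 1) * p ^ M) :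
    ∃ E : B[X], E.natDegree ≤ n * p ^ M ∧ KRel p π lam w S (M, monomial i (π * d) + R) (M, R + E) := by
  refine ⟨sh p M 1 (monomial i d), (natDegree_sh _ _ _).trans ?_, KRel.of_eq 0 fun N _ hM _ F _ ι x V h => ?_⟩
  · have := natDegree_monomial_le (R := B) d (m := i)
    have e : (n + 1) * p ^ M = n * p ^ M + p ^ M := by ring
    omega
  set E := sh p M 1 (monomial i d) with hE
  have hd : ev p N M ι x (monomial i (π * d)) = ι π ^ 1 * ev p N M ι x (monomial i d) := by
    simp [ev, eval₂_monomial, mul_assoc]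
  have hdiff := h.sh_spec hM 1 (monomial i d)
  rw [← hd, ← hE] at hdiff
  obtain ⟨-, hY, hY'⟩ := h.w_small hp hM hw hn (P := R + E) ((natDegree_add_le _ _).trans (max_le hR
    ((natDegree_sh _ _ _).trans ((Nat.sub_le _ _).trans ((natDegree_monomial_le _).trans hi)))))
  obtain ⟨hne, hinv⟩ := isUnit_one_add hY hY'
  refine ⟨0, (ev p N M ι x (monomial i (π * d)) - ev p N M ι x E) * (1 + ι w * ev p N M ι x (R + E))⁻¹,
    mul_mem hdiff hinv, ?_⟩
  rw [mul_zero, add_zero, one_pow, one_mul, mul_add, mul_one,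
    show ∀ a b c : F, a * (ι w * (b * c)) = ι w * b * (a * c) from fun a b c => by ring, mul_inv_cancel₀ hne]
  simp only [ev, eval₂_add]
  ring

variable {R₁ : B[X]} (hR₁ : R₁.natDegree ≤ p - 1)
  (hid : (1 + C lam * X) ^ p = 1 + C w * (X ^ p - X + C π * R₁))

include hw hn hR₁ hid in
/-- One `p`-th root step. -/
theorem kRel_root [Fact p.Prime] (M j : ℕ) (hj : p * j ≤ (n + 1) * p ^ M) (c : B) (R : B[X])
    (hR : R.natDegree ≤ (n + 1) * p ^ M) :
    ∃ E : B[X], E.natDegree ≤ n * p ^ M ∧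
      KRel p π lam w S (M, monomial (p * j) (c ^ p) + R) (M, monomial j c + (R + E)) := by
  have hp : p ≠ 0 := (Fact.out : p.Prime).ne_zero
  have hband : (n + 1) * p ^ M = n * p ^ M + p ^ M := by ring
  let h₀ : B[X] := monomial j c
  let G : B[X] := sh p M 1 (R₁.comp h₀)
  have hGdeg : G.natDegree ≤ n * p ^ M := by
    refine (natDegree_sh _ _ _).trans ?_
    have h1 : (R₁.comp h₀).natDegree ≤ (n + 1) * p ^ M := by
      refine natDegree_comp_le.trans (le_trans ?_ hj)
      exact Nat.mul_le_mul (hR₁.trans (Nat.sub_le _ _)) (natDegree_monomial_le _)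
    omega
  let X' : B[X] := monomial (p * j) (c ^ p) - h₀ + G
  let Y : B[X] := h₀ - G + R
  have hjle : j ≤ (n + 1) * p ^ M := (Nat.le_mul_of_pos_left _ (Nat.pos_of_ne_zero hp)).trans hj
  have hXdeg : X'.natDegree ≤ (n + 1) * p ^ M :=
    (natDegree_add_le _ _).trans (max_le ((natDegree_sub_le _ _).trans (max_le ((natDegree_monomial_le _).trans hj)
      ((natDegree_monomial_le _).trans hjle))) (hGdeg.trans (Nat.mul_le_mul_right _ n.le_succ)))
  have hYdeg : Y.natDegree ≤ (n + 1) * p ^ M :=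
    (natDegree_add_le _ _).trans (max_le ((natDegree_sub_le _ _).trans (max_le
      ((natDegree_monomial_le _).trans hjle) (hGdeg.trans (Nat.mul_le_mul_right _ n.le_succ)))) hR)
  obtain ⟨E, hEdeg, hE⟩ := exists_split p π hp P₀ u w hw (by omega) M n hn X' Y hXdeg hYdeg
  refine ⟨E - G, (natDegree_sub_le _ _).trans (max_le hEdeg hGdeg), KRel.of_eq 0 fun N _ hM _ F _ ι x V h => ?_⟩
  obtain ⟨v, hv, he⟩ := hE N hM F ι x V h
  rw [show X' + Y = monomial (p * j) (c ^ p) + R by simp only [X', Y]; ring,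
    show Y + E = monomial j c + (R + (E - G)) by simp only [Y, h₀]; ring] at he
  set H := ev p N M ι x h₀ with hH
  have hpow : ev p N M ι x (monomial (p * j) (c ^ p)) = H ^ p := by
    simp only [hH, h₀, ev, eval₂_monomial, map_pow, mul_pow]
    simp only [← pow_mul]
    ring_nf
  have hidF : (1 + ι lam * H) ^ p = 1 + ι w * (H ^ p - H + ι π * R₁.eval₂ ι H) := by
    have := congrArg (eval₂ ι H) hid
    simpa [eval₂_pow, eval₂_add, eval₂_mul, eval₂_sub] using this
  have hcomp : R₁.eval₂ ι H = ev p N M ι x (R₁.comp h₀) := by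
    simp only [hH, ev, eval₂_comp]
  have hg := h.sh_spec hM 1 (R₁.comp h₀)
  rw [pow_one, ← hcomp] at hg
  obtain ⟨-, hA, hA'⟩ := h.w_small hp hM hw hn hXdeg
  obtain ⟨hne, hinv⟩ := isUnit_one_add hA hA'
  -- `(1 + λ H) ^ p = (1 + w X') (1 + w v')`
  set v' := (ι π * R₁.eval₂ ι H - ev p N M ι x G) * (1 + ι w * ev p N M ι x X')⁻¹ with hv'
  have hv'mem : v' ∈ V := mul_mem hg hinv
  have hXev : ev p N M ι x X' = H ^ p - H + ev p N M ι x G := by
    rw [← hpow]; simp only [X', hH, ev, eval₂_add, eval₂_sub]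
  have hfac : (1 + ι w * ev p N M ι x X') * (1 + ι w * v') = (1 + ι lam * H) ^ p := by
    rw [hidF, hv', show ∀ a b c : F, a * (1 + ι w * (b * c)) = a + ι w * b * (a * c) from fun a b c => by ring,
      mul_inv_cancel₀ hne, hXev]
    ring
  have hwv : ι w * v' ∈ V ∧ V.valuation (ι w * v') < 1 := by
    refine ⟨mul_mem (h.mem w) hv'mem, ?_⟩
    have : ι w * v' = (x ^ p ^ N) ^ P₀ * (ι u * v') := by rw [h.eq, hw, map_mul, map_pow]; ring
    rw [this, ← pow_mul]
    exact (V.valuation_lt_one_iff (⟨_, mul_mem (pow_mem h.x_mem _) (mul_mem (h.mem u) hv'mem)⟩ : V)).1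
      (Ideal.mul_mem_right (⟨_, mul_mem (h.mem u) hv'mem⟩ : V) _
        (show (⟨x, h.x_mem⟩ : V) ^ (p ^ N * P₀) ∈ _ from Ideal.pow_mem_of_mem _
          ((V.valuation_lt_one_iff (⟨x, h.x_mem⟩ : V)).2 h.x_lt) _
          (Nat.mul_pos (pow_pos (Nat.pos_of_ne_zero hp) _) (by omega))))
  obtain ⟨hne', hinv'⟩ := isUnit_one_add hwv.1 hwv.2
  refine ⟨H, (v - v') * (1 + ι w * v')⁻¹, mul_mem (sub_mem hv hv'mem) hinv', ?_⟩
  rw [he, ← hfac]
  rw [show ∀ a b c : F, a * (1 + ι w * v') * b * (1 + ι w * ((v - v') * c)) =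
      a * b * ((1 + ι w * v') + ι w * (v - v') * ((1 + ι w * v') * c)) from fun a b c => by ring,
    mul_inv_cancel₀ hne']
  ring

include hw hn hR₁ hid in
/-- Iterated root steps. -/
theorem kRel_root_pow [Fact p.Prime] (hwS : w ∈ S) (M : ℕ) (m : ℕ) : ∀ (j : ℕ), p ^ m * j ≤ (n + 1) * p ^ M →
    ∀ (c : B) (R : B[X]), R.natDegree ≤ (n + 1) * p ^ M →
    ∃ E : B[X], E.natDegree ≤ n * p ^ M ∧
      KRel p π lam w S (M, monomial (p ^ m * j) (c ^ p ^ m) + R) (M, monomial j c + (R + E)) := by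
  induction m with
  | zero => exact fun j _ c R _ => ⟨0, by simp, by simp only [pow_zero, one_mul, pow_one, add_zero]; exact KRel.refl _⟩
  | succ m ih =>
    intro j hj c R hR
    have hj' : p * (p ^ m * j) ≤ (n + 1) * p ^ M := by rw [← mul_assoc, ← pow_succ']; exact hj
    obtain ⟨E₁, hE₁, h₁⟩ := kRel_root hw hn hR₁ hid M (p ^ m * j) hj' (c ^ p ^ m) R hR
    rw [← pow_mul, ← pow_succ, ← mul_assoc, ← pow_succ'] at h₁
    obtain ⟨E₂, hE₂, h₂⟩ := ih j ((Nat.le_mul_of_pos_left _ (Fact.out : p.Prime).pos).trans hj') c (R + E₁)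
      ((natDegree_add_le _ _).trans (max_le hR (hE₁.trans (Nat.mul_le_mul_right _ n.le_succ))))
    exact ⟨E₁ + E₂, (natDegree_add_le _ _).trans (max_le hE₁ hE₂), h₁.trans hwS (by rwa [add_assoc R] at h₂)⟩

include hw hn in
/-- Splitting off an `S`-term. -/
theorem kRel_inS (hp : p ≠ 0) (M i : ℕ) (hi : i ≤ (n + 1) * p ^ M) (a : B) (ha : a ∈ S) (R : B[X])
    (hR : R.natDegree ≤ (n + 1) * p ^ M) :
    ∃ E : B[X], E.natDegree ≤ n * p ^ M ∧ KRel p π lam w S (M, monomial i a + R) (M, R + E) := by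
  obtain ⟨E, hEdeg, hE⟩ := exists_split p π hp P₀ u w hw (by omega) M n hn (monomial i a) R
    ((natDegree_monomial_le _).trans hi) hR
  refine ⟨E, hEdeg, M, monomial i a, fun k => by rw [coeff_monomial]; split_ifs; exacts [ha, S.zero_mem],
    0, fun N _ hM _ => ⟨hM, fun F _ ι x V h => ?_⟩⟩
  obtain ⟨v, hv, he⟩ := hE N hM F ι x V h
  exact ⟨0, v, hv, he.trans (by rw [mul_zero, add_zero, one_pow, one_mul])⟩

end Steps

variable (p π lam w S)

open Classical in
/-- Normal form for Kummer elements. -/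
theorem kummer_normal_form [Fact p.Prime] {P₀ : ℕ} {u : B} (hw : w = π ^ P₀ * u) (hwS : w ∈ S) {R₁ : B[X]}
    (hR₁ : R₁.natDegree ≤ p - 1) (hid : (1 + C lam * X) ^ p = 1 + C w * (X ^ p - X + C π * R₁))
    {Stable : B → Prop}
    (hstep : ∀ c : B, ¬ Stable c → (∃ a ∈ S, ∃ d, c = a + π * d) ∨
      ∃ (m : ℕ) (r d : B), 0 < m ∧ Stable r ∧ c = r ^ p ^ m + π * d) :
    ∀ n, n + 1 ≤ P₀ → ∀ (W M : ℕ) (P : B[X]), P.natDegree ≤ n * p ^ M → weight p Stable n M P ≤ W →
      ∃ (M' : ℕ) (Q : B[X]), KRel p π lam w S (M, P) (M', Q) ∧ Top Stable Q ∧ Q.natDegree ≤ n * p ^ M' := by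
  have hp : p.Prime := Fact.out
  intro n
  induction n with
  | zero =>
    intro _ W M P hdeg _
    have hP : P = C (P.coeff 0) := eq_C_of_natDegree_eq_zero (by rw [zero_mul] at hdeg; omega)
    refine ⟨M, 0, KRel.of_eq 0 fun N _ _ _ F _ ι x V h => ⟨0, ι (P.coeff 0), h.mem _, ?_⟩, Or.inl rfl, by simp⟩
    show 1 + ι w * P.eval₂ ι _ = _
    rw [hP]
    simp [ev]
  | succ n ihn =>
    intro hns W
    have hn : n + 2 ≤ P₀ := hns
    induction W using Nat.strong_induction_on with
    | _ W ihw =>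
    intro M P hdeg hW
    by_cases hlow : P.natDegree ≤ n * p ^ M
    · obtain ⟨M', Q, h1, h3, h5⟩ := ihn (by omega) _ M P hlow le_rfl
      exact ⟨M', Q, h1, h3, h5.trans (Nat.mul_le_mul_right _ (by omega))⟩
    set i := P.natDegree with hidef
    set c := P.coeff i with hc
    by_cases hst : Stable c
    · exact ⟨M, P, KRel.refl _, Or.inr hst, hdeg⟩
    have hP0 : P ≠ 0 := fun h => hlow (by rw [hidef, h, natDegree_zero]; exact Nat.zero_le _)
    have hc0 : c ≠ 0 := leadingCoeff_ne_zero.2 hP0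
    let R : B[X] := P.erase i
    have hPR : monomial i c + R = P := monomial_add_erase P i
    have hRdeg : R.natDegree ≤ (n + 1) * p ^ M := by
      refine natDegree_le_iff_coeff_eq_zero.2 fun j hj => ?_
      rw [show R.coeff j = if j = i then 0 else P.coeff j from coeff_erase P i j]
      split_ifs with h
      · rfl
      · exact coeff_eq_zero_of_natDegree_lt (by omega)
    have hRw : weight p Stable (n + 1) M R + 2 = weight p Stable (n + 1) M P := by
      have hmem : i ∈ P.support.filter (fun j => (n + 1 - 1) * p ^ M < j) := by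
        simp only [Finset.mem_filter, mem_support_iff]
        exact ⟨hc0, by simpa using not_le.1 hlow⟩
      show _ = ∑ j ∈ _, _
      rw [← Finset.sum_erase_add _ _ hmem, if_neg hst]
      congr 1
      refine Finset.sum_congr ?_ fun j hj => ?_
      · ext j
        simp only [R, Finset.mem_erase, Finset.mem_filter, support_erase, mem_support_iff]
        tauto
      · have hji : j ≠ i := by
          rintro rfl
          simp at hj
        rw [show R.coeff j = P.coeff j by rw [coeff_erase, if_neg hji]]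
    have hEw : ∀ E : B[X], E.natDegree ≤ n * p ^ M →
        weight p Stable (n + 1) M (R + E) = weight p Stable (n + 1) M R := fun E hE =>
      weight_eq_of_coeff p fun j hj => by
        rw [coeff_add, coeff_eq_zero_of_natDegree_lt (p := E) (by simp at hj; omega), add_zero]
    rcases hstep c hst with ⟨a, ha, d, hcd⟩ | ⟨m, r, d, hm, hr, hcd⟩
    · have e0 : P = monomial i (π * d) + (monomial i a + R) := by
        conv_lhs => rw [← hPR, hcd, map_add]
        ring
      obtain ⟨E₁, hE₁, h₁⟩ := kRel_pi (S := S) (lam := lam) hw hn hp.ne_zero M i d (monomial i a + R)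
        ((natDegree_add_le _ _).trans (max_le ((natDegree_monomial_le _).trans hdeg) hRdeg)) hdeg
      have hR₁' : (R + E₁).natDegree ≤ (n + 1) * p ^ M :=
        (natDegree_add_le _ _).trans (max_le hRdeg (hE₁.trans (Nat.mul_le_mul_right _ n.le_succ)))
      obtain ⟨E₂, hE₂, h₂⟩ := kRel_inS (lam := lam) hw hn hp.ne_zero M i hdeg a ha (R + E₁) hR₁'
      have hsum : (E₁ + E₂).natDegree ≤ n * p ^ M := (natDegree_add_le _ _).trans (max_le hE₁ hE₂)
      obtain ⟨M', Q, h3, h4, h5⟩ := ihw (weight p Stable (n + 1) M R) (by omega) M (R + (E₁ + E₂))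
        ((natDegree_add_le _ _).trans (max_le hRdeg (hsum.trans (Nat.mul_le_mul_right _ n.le_succ))))
        (hEw _ hsum).le
      refine ⟨M', Q, ?_, h4, h5⟩
      rw [e0]
      rw [add_assoc] at h₁
      rw [add_assoc R] at h₂
      exact (h₁.trans hwS h₂).trans hwS h3
    · have e0 : P = monomial i (π * d) + (monomial i (r ^ p ^ m) + R) := by
        conv_lhs => rw [← hPR, hcd, map_add]
        ring
      obtain ⟨E₁, hE₁, h₁⟩ := kRel_pi (S := S) (lam := lam) hw hn hp.ne_zero M i d (monomial i (r ^ p ^ m) + R)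
        ((natDegree_add_le _ _).trans (max_le ((natDegree_monomial_le _).trans hdeg) hRdeg)) hdeg
      have hpm : (n + 1) * p ^ (M + m) = p ^ m * ((n + 1) * p ^ M) := by ring
      set T := expand B (p ^ m) (R + E₁) with hTdef
      have hTdeg : T.natDegree ≤ (n + 1) * p ^ (M + m) := natDegree_expand_le p
        ((natDegree_add_le _ _).trans (max_le hRdeg (hE₁.trans (Nat.mul_le_mul_right _ n.le_succ)))) m
      obtain ⟨E₂, hE₂, h₂⟩ := kRel_root_pow (S := S) hw hn hR₁ hid hwS (M + m) m i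
        (by rw [hpm]; exact Nat.mul_le_mul_left _ hdeg) r T hTdeg
      let P' : B[X] := monomial i r + (T + E₂)
      have hrel : KRel p π lam w S (M, P) (M + m, P') := by
        rw [e0]
        refine (h₁.trans hwS (kRel_expand M m _)).trans hwS ?_
        rw [show expand B (p ^ m) (monomial i (r ^ p ^ m) + R + E₁) = monomial (p ^ m * i) (r ^ p ^ m) + T by
          simp only [hTdef, map_add, expand_monomial]; rw [mul_comm i]; ring]
        exact h₂
      have hile : i ≤ (n + 1) * p ^ (M + m) :=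
        hdeg.trans (Nat.mul_le_mul_left _ (Nat.pow_le_pow_right hp.pos (by omega)))
      have hP'deg : P'.natDegree ≤ (n + 1) * p ^ (M + m) :=
        (natDegree_add_le _ _).trans (max_le ((natDegree_monomial_le _).trans hile)
          ((natDegree_add_le _ _).trans (max_le hTdeg (hE₂.trans (Nat.mul_le_mul_right _ n.le_succ)))))
      have hwlt : weight p Stable (n + 1) (M + m) P' < weight p Stable (n + 1) M P := by
        have hT : weight p Stable (n + 1) (M + m) T = weight p Stable (n + 1) M R := by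
          rw [hTdef, weight_expand, hEw E₁ hE₁]
        have hE' : ∀ j, n * p ^ (M + m) < j → E₂.coeff j = 0 := fun j hj =>
          coeff_eq_zero_of_natDegree_lt (hE₂.trans_lt hj)
        rw [weight_eq_of_coeff p (Q := monomial i r + T) fun j hj => by
          simp only [P', coeff_add, hE' j (by simpa using hj), add_zero]]
        show ∑ j ∈ _, _ < _
        set s₁ := (monomial i r + T).support.filter fun j => (n + 1 - 1) * p ^ (M + m) < j with hs₁
        set s₂ := T.support.filter fun j => (n + 1 - 1) * p ^ (M + m) < j with hs₂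
        have hsub : s₁ ⊆ insert i s₂ := fun j hj => by
          simp only [hs₁, hs₂, Finset.mem_filter, Finset.mem_insert, mem_support_iff, coeff_add, coeff_monomial] at hj ⊢
          by_cases hji : j = i
          · exact Or.inl hji
          · exact Or.inr ⟨by simpa [Ne.symm hji] using hj.1, hj.2⟩
        have hne : ∀ j, j ≠ i → (monomial i r + T).coeff j = T.coeff j := fun j hji => by
          rw [coeff_add, coeff_monomial, if_neg (Ne.symm hji), zero_add]
        have hbound : ∀ b : B, (if Stable b then (1 : ℕ) else 2) ≤ 2 := fun b => by split_ifs <;> omega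
        have hpos : ∀ b : B, 1 ≤ (if Stable b then (1 : ℕ) else 2) := fun b => by split_ifs <;> omega
        have hWT : ∑ j ∈ s₂, (if Stable (T.coeff j) then (1 : ℕ) else 2) = weight p Stable (n + 1) M R := hT
        by_cases hband : (n + 1 - 1) * p ^ (M + m) < i
        swap
        · have hsub' : s₁ ⊆ s₂ := fun j hj => (Finset.mem_insert.1 (hsub hj)).resolve_left fun h => by
            have := (Finset.mem_filter.1 hj).2; omega
          refine (Finset.sum_le_sum_of_subset hsub').trans_lt ?_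
          rw [Finset.sum_congr rfl fun j hj => by rw [hne j fun h => by
            have := (Finset.mem_filter.1 hj).2; omega]]
          omega
        refine (Finset.sum_le_sum_of_subset hsub).trans_lt ?_
        by_cases his : i ∈ s₂
        · rw [Finset.insert_eq_of_mem his, ← Finset.add_sum_erase _ _ his]
          rw [← Finset.add_sum_erase _ _ his] at hWT
          rw [Finset.sum_congr rfl fun j hj => by rw [hne j (Finset.ne_of_mem_erase hj)]]
          have h1 := hbound ((monomial i r + T).coeff i)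
          have h2 := hpos (T.coeff i)
          omega
        · rw [Finset.sum_insert his, Finset.sum_congr rfl fun j hj => by
            rw [hne j fun h => his (h ▸ hj)]]
          have hTi : T.coeff i = 0 := by
            by_contra h
            exact his (Finset.mem_filter.2 ⟨mem_support_iff.2 h, hband⟩)
          rw [coeff_add, coeff_monomial, if_pos rfl, hTi, add_zero, if_pos hr]
          omega
      obtain ⟨M', Q, h3, h4, h5⟩ := ihw _ (lt_of_lt_of_le hwlt hW) (M + m) P' hP'deg le_rfl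
      exact ⟨M', Q, hrel.trans hwS h3, h4, h5⟩

end Groth.Agent.EppASH7
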