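import Mathlib.RingTheory.DiscreteValuationRing.Basic
import Mathlib.RingTheory.Valuation.ValuationSubring
import Mathlib.RingTheory.LocalRing.ResidueField.Basic
import Mathlib.RingTheory.Polynomial.Basic
import Mathlib.Algebra.Polynomial.Expand
import Mathlib.Algebra.CharP.Lemmas

/-!
# Normal forms for principal parts modulo Artin–Schreier elements

Principal parts are polynomials in `x ^ (-p ^ (N - M))`, uniformly in a uniformizer root `x` with
`x ^ (p ^ N) = π (1 + π ^ s x)`, for all large `N`.
-/

set_option autoImplicit false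
set_option linter.style.haveILetI false

universe u

open Polynomial IsLocalRing

namespace Groth.Agent.EppASH7

section AS

variable {F : Type u} [Field F] (p : ℕ) (V : ValuationSubring F)

/-- Membership in `V + {h ^ p - h}`. -/
def ModAS (y : F) : Prop := ∃ h : F, y - (h ^ p - h) ∈ V

variable {p V}

theorem modAS_of_mem (hp : p ≠ 0) {y : F} (hy : y ∈ V) : ModAS p V y :=
  ⟨0, by rw [zero_pow hp, sub_zero, sub_zero]; exact hy⟩

theorem modAS_add [Fact p.Prime] [CharP F p] {y y' : F} (h : ModAS p V y) (h' : ModAS p V y') :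
    ModAS p V (y + y') := by
  obtain ⟨u, hu⟩ := h
  obtain ⟨v, hv⟩ := h'
  refine ⟨u + v, ?_⟩
  rw [add_pow_char]
  have := add_mem hu hv
  rwa [show y + y' - (u ^ p + v ^ p - (u + v)) = y - (u ^ p - u) + (y' - (v ^ p - v)) by ring]

theorem modAS_wp (h : F) : ModAS p V (h ^ p - h) := ⟨h, by rw [sub_self]; exact V.zero_mem⟩

end AS

variable (p : ℕ) {B : Type u} [CommRing B] (π : B) (s : ℕ)

/-- `x` is a root of `X ^ (p ^ N) = π (1 + π ^ s X)` in the maximal ideal of `V`, which dominates `B`. -/
structure Realizes (N : ℕ) {F : Type u} [Field F] (ι : B →+* F) (x : F) (V : ValuationSubring F) : Prop where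
  mem : ∀ b, ι b ∈ V
  x_mem : x ∈ V
  x_lt : V.valuation x < 1
  x_ne : x ≠ 0
  eq : x ^ (p ^ N) = ι π * (1 + ι π ^ s * x)

/-- Evaluation of a principal part. -/
noncomputable def ev (N M : ℕ) {F : Type u} [Field F] (ι : B →+* F) (x : F) (P : B[X]) : F :=
  P.eval₂ ι (x⁻¹ ^ (p ^ (N - M)))

/-- Congruence of principal parts modulo `V + {h ^ p - h}` for all large `N`. -/
def Rel (a b : ℕ × B[X]) : Prop :=
  ∃ N₀ : ℕ, ∀ N, N₀ ≤ N → a.1 ≤ N → b.1 ≤ N → ∀ (F : Type u) [Field F] [CharP F p] (ι : B →+* F) (x : F)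
    (V : ValuationSubring F), Realizes p π s N ι x V →
      ModAS p V (ev p N a.1 ι x a.2 - ev p N b.1 ι x b.2)

variable {p π s}

section Realizes

variable {N : ℕ} {F : Type u} [Field F] {ι : B →+* F} {x : F} {V : ValuationSubring F}

theorem Realizes.inv_mem (h : Realizes p π s N ι x V) :
    (1 + ι π ^ s * x)⁻¹ ∈ V ∧ (1 + ι π ^ s * x) ≠ 0 := by
  let x' : V := ⟨x, h.x_mem⟩
  let π' : V := ⟨ι π, h.mem π⟩
  have hm : π' ^ s * x' ∈ maximalIdeal V :=
    Ideal.mul_mem_left _ _ ((V.valuation_lt_one_iff x').2 h.x_lt)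
  have hu : IsUnit (1 + π' ^ s * x') := IsLocalRing.notMem_maximalIdeal.1 fun h1 => by
    have := (maximalIdeal V).sub_mem h1 hm
    rw [add_sub_cancel_right] at this
    exact (mem_maximalIdeal _).1 this isUnit_one
  obtain ⟨v, hv⟩ := hu.exists_right_inv
  have hv' : (1 + ι π ^ s * x) * (v : F) = 1 := congrArg Subtype.val hv
  exact ⟨by rw [← eq_inv_of_mul_eq_one_right hv']; exact v.2, left_ne_zero_of_mul_eq_one hv'⟩

theorem Realizes.pow_mem (h : Realizes p π s N ι x V) {n k : ℕ} (hk : k ≤ n * p ^ N) :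
    ι π ^ n * x⁻¹ ^ k ∈ V := by
  obtain ⟨hinv, hne⟩ := h.inv_mem
  obtain ⟨j, hj⟩ := Nat.exists_eq_add_of_le hk
  have h1 : ι π = x ^ (p ^ N) * (1 + ι π ^ s * x)⁻¹ := by
    rw [h.eq, mul_assoc, mul_inv_cancel₀ hne, mul_one]
  have h2 : (x ^ (p ^ N)) ^ n * x⁻¹ ^ k = x ^ j := by
    rw [← pow_mul, mul_comm (p ^ N) n, hj, pow_add, mul_right_comm, ← mul_pow, mul_inv_cancel₀ h.x_ne,
      one_pow, one_mul]
  rw [h1, mul_pow, mul_right_comm, h2]
  exact mul_mem (_root_.pow_mem h.x_mem j) (_root_.pow_mem hinv n)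

end Realizes

variable (p π s)

theorem Rel.refl (hp : p ≠ 0) (a : ℕ × B[X]) : Rel p π s a a :=
  ⟨0, fun _ _ _ _ _ _ _ _ _ V _ => by rw [sub_self]; exact modAS_of_mem hp V.zero_mem⟩

variable {p π s}

theorem Rel.trans [Fact p.Prime] {a b c : ℕ × B[X]} (h : Rel p π s a b) (h' : Rel p π s b c) : Rel p π s a c := by
  obtain ⟨N₀, h⟩ := h
  obtain ⟨N₁, h'⟩ := h'
  refine ⟨max (max N₀ N₁) b.1, fun N hN ha hc F _ _ ι x V hV => ?_⟩
  have := modAS_add (h N ((le_max_left _ _).trans ((le_max_left _ _).trans hN)) ha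
    ((le_max_right _ _).trans hN) F ι x V hV)
    (h' N ((le_max_right _ _).trans ((le_max_left _ _).trans hN)) ((le_max_right _ _).trans hN) hc F ι x V hV)
  rwa [sub_add_sub_cancel] at this

theorem ev_expand {N M k : ℕ} (h : M + k ≤ N) {F : Type u} [Field F] (ι : B →+* F) (x : F) (P : B[X]) :
    ev p N (M + k) ι x (expand B (p ^ k) P) = ev p N M ι x P := by
  show (expand B (p ^ k) P).eval₂ ι _ = P.eval₂ ι _
  rw [expand_eq_comp_X_pow, eval₂_comp, eval₂_X_pow, ← pow_mul, ← pow_add]
  congr 3
  omega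

theorem rel_expand (hp : p ≠ 0) (M k : ℕ) (P : B[X]) : Rel p π s (M, P) (M + k, expand B (p ^ k) P) :=
  ⟨0, fun N _ _ h F _ _ ι x V _ => by
    rw [ev_expand h, sub_self]; exact modAS_of_mem hp V.zero_mem⟩

/-- Replace a summand. -/
theorem Rel.add_right {M : ℕ} {P P' R : B[X]} (h : Rel p π s (M, P) (M, P')) :
    Rel p π s (M, P + R) (M, P' + R) := by
  obtain ⟨N₀, h⟩ := h
  refine ⟨N₀, fun N hN ha hb F _ _ ι x V hV => ?_⟩
  show ModAS p V ((P + R).eval₂ ι _ - (P' + R).eval₂ ι _)
  rw [eval₂_add, eval₂_add, add_sub_add_right_eq_sub]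
  exact h N hN ha hb F ι x V hV

theorem rel_root (hp : p ≠ 0) (M : ℕ) (c : B) (j : ℕ) :
    Rel p π s (M, monomial (p * j) (c ^ p)) (M, monomial j c) := by
  refine ⟨0, fun N _ _ _ F _ _ ι x V _ => ?_⟩
  show ModAS p V ((monomial (p * j) (c ^ p)).eval₂ ι _ - (monomial j c).eval₂ ι _)
  rw [eval₂_monomial, eval₂_monomial, map_pow, mul_comm p j, pow_mul, ← mul_pow]
  exact modAS_wp _

theorem rel_root_pow [Fact p.Prime] (M : ℕ) (m : ℕ) : ∀ (c : B) (j : ℕ),
    Rel p π s (M, monomial (p ^ m * j) (c ^ (p ^ m))) (M, monomial j c) := by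
  induction m with
  | zero => intro c j; rw [pow_zero, pow_one, one_mul]; exact Rel.refl p π s (Fact.out : p.Prime).ne_zero _
  | succ m ih =>
    intro c j
    have h1 := rel_root (π := π) (s := s) (Fact.out : p.Prime).ne_zero M (c ^ p ^ m) (p ^ m * j)
    rw [← pow_mul, ← pow_succ, ← mul_assoc, ← pow_succ'] at h1
    exact h1.trans (ih c j)

theorem rel_const (hp : p ≠ 0) (M : ℕ) (c : B) : Rel p π s (M, C c) (M, 0) :=
  ⟨0, fun N _ _ _ F _ _ ι x V hV => by
    show ModAS p V ((C c).eval₂ ι _ - (0 : B[X]).eval₂ ι _)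
    rw [eval₂_C, eval₂_zero, sub_zero]; exact modAS_of_mem hp (hV.mem c)⟩

theorem rel_pi (hp : p ≠ 0) {n : ℕ} (hn : n ≤ s) (M i : ℕ) (hi : i ≤ n * p ^ M) (d : B) :
    Rel p π s (M, monomial i (π * d)) (M, if p ^ M ≤ i then monomial (i - p ^ M) d else 0) := by
  refine ⟨0, fun N _ hM _ F _ _ ι x V hV => modAS_of_mem hp ?_⟩
  show (monomial i (π * d)).eval₂ ι _ - _ ∈ V
  rw [eval₂_monomial, map_mul]
  set t := x⁻¹ ^ p ^ (N - M) with ht
  have hq : p ^ (N - M) * p ^ M = p ^ N := by
    rw [← pow_add, Nat.sub_add_cancel hM]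
  have hpi : ∀ k ≤ p ^ M, ι π * t ^ k ∈ V := fun k hk => by
    have := hV.pow_mem (n := 1) (k := p ^ (N - M) * k)
      (by rw [one_mul, ← hq]; exact Nat.mul_le_mul_left _ hk)
    rwa [pow_one, pow_mul] at this
  split_ifs with h
  · obtain ⟨j, rfl⟩ := Nat.exists_eq_add_of_le h
    rw [Nat.add_sub_cancel_left]
    show ι π * ι d * t ^ (p ^ M + j) - (monomial j d).eval₂ ι t ∈ V
    rw [eval₂_monomial]
    have he : ι π * t ^ (p ^ M) = (1 + ι π ^ s * x)⁻¹ := by
      obtain ⟨-, hne⟩ := hV.inv_mem
      refine eq_inv_of_mul_eq_one_left ?_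
      rw [ht, ← pow_mul, hq, mul_right_comm, ← hV.eq, ← mul_pow, mul_inv_cancel₀ hV.x_ne, one_pow]
    have hid : ι π * ι d * t ^ (p ^ M + j) - ι d * t ^ j =
        -(ι d * (1 + ι π ^ s * x)⁻¹ * x * (ι π ^ s * t ^ j)) := by
      obtain ⟨-, hne⟩ := hV.inv_mem
      rw [pow_add, show ι π * ι d * (t ^ p ^ M * t ^ j) = ι d * t ^ j * (ι π * t ^ p ^ M) by ring, he]
      field_simp
      ring
    rw [hid]
    refine neg_mem (mul_mem (mul_mem (mul_mem (hV.mem d) hV.inv_mem.1) hV.x_mem) ?_)
    have := hV.pow_mem (n := s) (k := p ^ (N - M) * j) (by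
      calc p ^ (N - M) * j ≤ p ^ (N - M) * (n * p ^ M) := Nat.mul_le_mul_left _ (le_of_add_le_right hi)
        _ = n * p ^ N := by rw [← hq]; ring
        _ ≤ s * p ^ N := Nat.mul_le_mul_right _ hn)
    rwa [pow_mul] at this
  · show ι π * ι d * t ^ i - (0 : B[X]).eval₂ ι t ∈ V
    rw [eval₂_zero, sub_zero, mul_right_comm]
    exact mul_mem (hpi i (le_of_not_ge h)) (hV.mem d)

section Normal

variable (p π s)
variable (S : Subring B) (Stable : B → Prop)

/-- Coefficients in `S`. -/
def InS (P : B[X]) : Prop := ∀ i, P.coeff i ∈ S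

/-- Either zero or stable leading coefficient. -/
def Top (Q : B[X]) : Prop := Q = 0 ∨ Stable Q.leadingCoeff

variable {S Stable}

open Classical in
/-- Weight of the band `((n - 1) p ^ M, n p ^ M]`. -/
noncomputable def weight (Stable : B → Prop) (n M : ℕ) (P : B[X]) : ℕ :=
  ∑ i ∈ P.support.filter (fun i => (n - 1) * p ^ M < i), if Stable (P.coeff i) then 1 else 2

theorem natDegree_monomial_le' {i d : ℕ} (c : B) (h : i ≤ d) : (monomial i c).natDegree ≤ d :=
  (natDegree_monomial_le c).trans h

theorem inS_expand {P : B[X]} (hP : InS S P) (k : ℕ) (hk : 0 < k) : InS S (expand B k P) := fun i => by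
  rw [coeff_expand hk]; split_ifs; exacts [hP _, S.zero_mem]

theorem natDegree_expand_le {P : B[X]} {n M : ℕ} (h : P.natDegree ≤ n * p ^ M) (k : ℕ) :
    (expand B (p ^ k) P).natDegree ≤ n * p ^ (M + k) := by
  rw [natDegree_expand, pow_add, ← mul_assoc]; exact Nat.mul_le_mul_right _ h

open Classical in
theorem weight_eq_of_coeff {n M : ℕ} {P Q : B[X]}
    (h : ∀ i, (n - 1) * p ^ M < i → P.coeff i = Q.coeff i) :
    weight p Stable n M P = weight p Stable n M Q := by
  refine Finset.sum_congr ?_ fun i hi => ?_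
  · ext i
    simp only [Finset.mem_filter, mem_support_iff]
    exact ⟨fun ⟨a, b⟩ => ⟨h i b ▸ a, b⟩, fun ⟨a, b⟩ => ⟨(h i b).symm ▸ a, b⟩⟩
  · rw [h i (Finset.mem_filter.1 hi).2]

open Classical in
theorem weight_expand [Fact p.Prime] (n M k : ℕ) (P : B[X]) :
    weight p Stable n (M + k) (expand B (p ^ k) P) = weight p Stable n M P := by
  have hpk : 0 < p ^ k := pow_pos (Fact.out : p.Prime).pos k
  refine (Finset.sum_bij (fun i _ => i * p ^ k) ?_ ?_ ?_ ?_).symm
  · intro i hi
    simp only [Finset.mem_filter, mem_support_iff] at hi ⊢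
    refine ⟨by rw [coeff_expand_mul hpk]; exact hi.1, ?_⟩
    rw [pow_add, ← mul_assoc]
    exact Nat.mul_lt_mul_of_pos_right hi.2 hpk
  · exact fun i _ j _ h => Nat.eq_of_mul_eq_mul_right hpk h
  · intro j hj
    simp only [Finset.mem_filter, mem_support_iff, coeff_expand hpk] at hj
    by_cases hd : p ^ k ∣ j
    · rw [if_pos hd] at hj
      refine ⟨j / p ^ k, ?_, Nat.div_mul_cancel hd⟩
      simp only [Finset.mem_filter, mem_support_iff]
      refine ⟨hj.1, Nat.lt_of_mul_lt_mul_right (a := p ^ k) ?_⟩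
      rw [Nat.div_mul_cancel hd, mul_assoc, ← pow_add]
      exact hj.2
    · exact absurd (if_neg hd) hj.1
  · intro i _
    rw [coeff_expand_mul hpk]

open Classical in
/-- Normal form: an `S`-part plus a part with stable leading coefficient. -/
theorem normal_form [Fact p.Prime]
    (hstep : ∀ c : B, ¬ Stable c → (∃ a ∈ S, ∃ d, c = a + π * d) ∨
      ∃ (m : ℕ) (r d : B), 0 < m ∧ Stable r ∧ c = r ^ p ^ m + π * d) :
    ∀ n, n ≤ s → ∀ (w M : ℕ) (P : B[X]), P.natDegree ≤ n * p ^ M → weight p Stable n M P ≤ w →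
      ∃ (M' : ℕ) (Pa Q : B[X]), Rel p π s (M, P) (M', Pa + Q) ∧ InS S Pa ∧ Top Stable Q ∧
        Pa.natDegree ≤ n * p ^ M' ∧ Q.natDegree ≤ n * p ^ M' := by
  have hp : p.Prime := Fact.out
  intro n
  induction n with
  | zero =>
    intro _ w M P hdeg _
    have hP : P = C (P.coeff 0) := eq_C_of_natDegree_eq_zero (by rw [zero_mul] at hdeg; omega)
    refine ⟨M, 0, 0, ?_, fun i => by simp, Or.inl rfl, by simp, by simp⟩
    rw [add_zero, hP]
    exact rel_const hp.ne_zero M _
  | succ n ihn =>
    intro hns w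
    induction w using Nat.strong_induction_on with
    | _ w ihw =>
    intro M P hdeg hw
    by_cases hlow : P.natDegree ≤ n * p ^ M
    · obtain ⟨M', Pa, Q, h1, h2, h3, h4, h5⟩ := ihn (by omega) _ M P hlow le_rfl
      exact ⟨M', Pa, Q, h1, h2, h3, h4.trans (Nat.mul_le_mul_right _ (by omega)),
        h5.trans (Nat.mul_le_mul_right _ (by omega))⟩
    set i := P.natDegree with hidef
    set c := P.coeff i with hc
    by_cases hst : Stable c
    · exact ⟨M, 0, P, by rw [zero_add]; exact Rel.refl p π s hp.ne_zero _, fun j => by simp,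
        Or.inr hst, by simp, hdeg⟩
    have hi0 : i ≠ 0 := fun h => hlow (by rw [h]; exact Nat.zero_le _)
    have hP0 : P ≠ 0 := fun h => hi0 (by rw [hidef, h, natDegree_zero])
    have hc0 : c ≠ 0 := leadingCoeff_ne_zero.2 hP0
    let R : B[X] := P.erase i
    have hPR : monomial i c + R = P := monomial_add_erase P i
    have hRdeg : R.natDegree ≤ (n + 1) * p ^ M := by
      refine natDegree_le_iff_coeff_eq_zero.2 fun j hj => ?_
      rw [show R.coeff j = if j = i then 0 else P.coeff j from coeff_erase P i j]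
      split_ifs with h
      · rfl
      · exact coeff_eq_zero_of_natDegree_lt (by omega)
    have hRw : weight p Stable (n + 1) M R + 2 = weight p Stable (n + 1) M P := by
      have hmem : i ∈ P.support.filter (fun j => (n + 1 - 1) * p ^ M < j) := by
        simp only [Finset.mem_filter, mem_support_iff]
        exact ⟨hc0, by simpa using not_le.1 hlow⟩
      show _ = ∑ j ∈ _, _
      rw [← Finset.sum_erase_add _ _ hmem, if_neg hst]
      congr 1
      refine Finset.sum_congr ?_ fun j hj => ?_
      · ext j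
        simp only [R, Finset.mem_erase, Finset.mem_filter, support_erase, mem_support_iff]
        tauto
      · have hji : j ≠ i := by
          rintro rfl
          simp [R, support_erase] at hj
        rw [show R.coeff j = P.coeff j by rw [coeff_erase, if_neg hji]]
    have hpiRel : ∀ d : B, ∃ E : B[X], Rel p π s (M, monomial i (π * d)) (M, E) ∧ E.natDegree ≤ n * p ^ M := by
      intro d
      refine ⟨_, rel_pi hp.ne_zero hns M i hdeg d, ?_⟩
      split_ifs
      · refine natDegree_monomial_le' d ?_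
        have : (n + 1) * p ^ M = n * p ^ M + p ^ M := by ring
        omega
      · simp
    rcases hstep c hst with ⟨a, ha, d, hcd⟩ | ⟨m, r, d, hm, hr, hcd⟩
    · obtain ⟨E, hE, hEdeg⟩ := hpiRel d
      have hwE : weight p Stable (n + 1) M (E + R) = weight p Stable (n + 1) M R :=
        weight_eq_of_coeff p fun j hj => by
          rw [coeff_add, coeff_eq_zero_of_natDegree_lt (p := E) (by simp at hj; omega), zero_add]
      obtain ⟨M', Pa, Q, h1, h2, h3, h4, h5⟩ := ihw (weight p Stable (n + 1) M R) (by omega) M (E + R)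
        ((natDegree_add_le _ _).trans (max_le (hEdeg.trans (Nat.mul_le_mul_right _ (by omega))) hRdeg))
        hwE.le
      obtain ⟨k, hk⟩ : ∃ k, M' ≤ M + k := ⟨M', by omega⟩
      obtain ⟨k', hk'⟩ := Nat.exists_eq_add_of_le hk
      refine ⟨M + k, expand B (p ^ k') Pa + expand B (p ^ k) (monomial i a), expand B (p ^ k') Q, ?_, ?_, ?_, ?_, ?_⟩
      · have e1 : Rel p π s (M, P) (M, E + R + monomial i a) := by
          have := hE.add_right (R := R + monomial i a)
          rw [show monomial i (π * d) + (R + monomial i a) = P by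
            conv_rhs => rw [← hPR, hcd, map_add]
            ring, ← add_assoc] at this
          exact this
        obtain ⟨N₀, hN₀⟩ := h1
        refine e1.trans ⟨max N₀ M', fun N hN hMN hkN F _ _ ι x V hV => ?_⟩
        have := hN₀ N ((le_max_left _ _).trans hN) hMN ((le_max_right _ _).trans hN) F ι x V hV
        show ModAS p V (ev p N M ι x _ - ev p N (M + k) ι x _)
        have e2 := ev_expand (p := p) (M := M') (k := k') (by omega) ι x (Pa + Q) (N := N)
        have e3 := ev_expand (p := p) (M := M) (k := k) hkN ι x (monomial i a) (N := N)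
        rw [← hk', map_add] at e2
        simp only [ev, eval₂_add] at this e2 e3 ⊢
        convert this using 1
        linear_combination -e2 - e3
      · exact fun j => by
          rw [coeff_add]
          refine S.add_mem (inS_expand h2 _ (pow_pos hp.pos _) j) (inS_expand ?_ _ (pow_pos hp.pos _) j)
          intro l; rw [coeff_monomial]; split_ifs; exacts [ha, S.zero_mem]
      · rcases h3 with h3 | h3
        · exact Or.inl (by rw [h3, map_zero])
        · exact Or.inr (by rwa [leadingCoeff_expand (pow_pos hp.pos _)])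
      · refine (natDegree_add_le _ _).trans (max_le ?_ (natDegree_expand_le p (natDegree_monomial_le' a hdeg) k))
        rw [hk']; exact natDegree_expand_le p h4 k'
      · rw [hk']; exact natDegree_expand_le p h5 k'
    · obtain ⟨E, hE, hEdeg⟩ := hpiRel d
      let P' : B[X] := monomial i r + expand B (p ^ m) (E + R)
      have hrel : Rel p π s (M, P) (M + m, P') := by
        have e1 : Rel p π s (M, P) (M, E + (R + monomial i (r ^ p ^ m))) := by
          have := hE.add_right (R := R + monomial i (r ^ p ^ m))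
          rwa [show monomial i (π * d) + (R + monomial i (r ^ p ^ m)) = P by
            conv_rhs => rw [← hPR, hcd, map_add]
            ring] at this
        refine (e1.trans (rel_expand hp.ne_zero M m _)).trans ?_
        have e2 := (rel_root_pow (π := π) (s := s) (p := p) (M + m) m r i).add_right (R := expand B (p ^ m) (E + R))
        rw [show expand B (p ^ m) (E + (R + monomial i (r ^ p ^ m))) =
          monomial (p ^ m * i) (r ^ p ^ m) + expand B (p ^ m) (E + R) by
            simp only [map_add, expand_monomial]; rw [mul_comm i]; ring]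
        exact e2
      have hP'deg : P'.natDegree ≤ (n + 1) * p ^ (M + m) := by
        refine (natDegree_add_le _ _).trans (max_le (natDegree_monomial_le' r ?_) (natDegree_expand_le p ?_ m))
        · exact hdeg.trans (Nat.mul_le_mul_left _ (Nat.pow_le_pow_right hp.pos (by omega)))
        · exact (natDegree_add_le _ _).trans (max_le (hEdeg.trans (Nat.mul_le_mul_right _ (by omega))) hRdeg)
      have hwlt : weight p Stable (n + 1) (M + m) P' < weight p Stable (n + 1) M P := by
        set T := expand B (p ^ m) R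
        have hT : weight p Stable (n + 1) (M + m) T = weight p Stable (n + 1) M R := weight_expand p _ _ _ _
        have hE' : ∀ j, n * p ^ (M + m) < j → (expand B (p ^ m) E).coeff j = 0 := fun j hj =>
          coeff_eq_zero_of_natDegree_lt ((natDegree_expand_le p hEdeg m).trans_lt hj)
        rw [weight_eq_of_coeff p (Q := monomial i r + T) fun j hj => by
          simp only [P', T, map_add, coeff_add, hE' j (by simpa using hj), zero_add]]
        let U := P.support
        show ∑ j ∈ _, _ < _
        set s₁ := (monomial i r + T).support.filter fun j => (n + 1 - 1) * p ^ (M + m) < j with hs₁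
        set s₂ := T.support.filter fun j => (n + 1 - 1) * p ^ (M + m) < j with hs₂
        have hsub : s₁ ⊆ insert i s₂ := fun j hj => by
          simp only [hs₁, hs₂, Finset.mem_filter, Finset.mem_insert, mem_support_iff, coeff_add, coeff_monomial] at hj ⊢
          by_cases hji : j = i
          · exact Or.inl hji
          · exact Or.inr ⟨by simpa [Ne.symm hji] using hj.1, hj.2⟩
        have hne : ∀ j, j ≠ i → (monomial i r + T).coeff j = T.coeff j := fun j hji => by
          rw [coeff_add, coeff_monomial, if_neg (Ne.symm hji), zero_add]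
        have hbound : ∀ b : B, (if Stable b then (1 : ℕ) else 2) ≤ 2 := fun b => by split_ifs <;> omega
        have hpos : ∀ b : B, 1 ≤ (if Stable b then (1 : ℕ) else 2) := fun b => by split_ifs <;> omega
        have hWT : ∑ j ∈ s₂, (if Stable (T.coeff j) then (1 : ℕ) else 2) = weight p Stable (n + 1) M R := hT
        by_cases hband : (n + 1 - 1) * p ^ (M + m) < i
        swap
        · have hsub' : s₁ ⊆ s₂ := fun j hj => (Finset.mem_insert.1 (hsub hj)).resolve_left fun h => by
            have := (Finset.mem_filter.1 hj).2; omega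
          refine (Finset.sum_le_sum_of_subset hsub').trans_lt ?_
          rw [Finset.sum_congr rfl fun j hj => by rw [hne j fun h => by
            have := (Finset.mem_filter.1 hj).2; omega]]
          omega
        refine (Finset.sum_le_sum_of_subset hsub).trans_lt ?_
        by_cases his : i ∈ s₂
        · rw [Finset.insert_eq_of_mem his, ← Finset.add_sum_erase _ _ his]
          rw [← Finset.add_sum_erase _ _ his] at hWT
          rw [Finset.sum_congr rfl fun j hj => by rw [hne j (Finset.ne_of_mem_erase hj)]]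
          have h1 := hbound ((monomial i r + T).coeff i)
          have h2 := hpos (T.coeff i)
          omega
        · rw [Finset.sum_insert his, Finset.sum_congr rfl fun j hj => by
            rw [hne j fun h => his (h ▸ hj)]]
          have hTi : T.coeff i = 0 := by
            by_contra h
            exact his (Finset.mem_filter.2 ⟨mem_support_iff.2 h, hband⟩)
          rw [coeff_add, coeff_monomial, if_pos rfl, hTi, add_zero, if_pos hr]
          omega
      obtain ⟨M', Pa, Q, h1, h2, h3, h4, h5⟩ := ihw _ (lt_of_lt_of_le hwlt hw) (M + m) P' hP'deg le_rfl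
      exact ⟨M', Pa, Q, hrel.trans h1, h2, h3, h4, h5⟩

end Normal

end Groth.Agent.EppASH7
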