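import Groth.Agent.Lib.EppASH7.Kernel
import Mathlib.RingTheory.AlgebraicIndependent.Basic
import Mathlib.RingTheory.Polynomial.UniqueFactorization
import Mathlib.FieldTheory.IntermediateField.Adjoin.Basic
import Mathlib.Algebra.MvPolynomial.NoZeroDivisors
import Mathlib.FieldTheory.PurelyInseparable.Exponent

/-!
# Perfect kernels of rational function fields and their finite extensions
-/

set_option autoImplicit false
set_option linter.style.haveILetI false

universe u

open MvPolynomial

namespace Groth.Agent.EppASH7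

/-- A rational function with roots of all `p`-power orders is constant. -/
theorem exists_eq_of_roots_adjoin {p : ℕ} (hp : p.Prime) {k κ : Type u} [Field k] [Field κ] [Algebra k κ] {ι : Type u}
    {y : ι → κ} (hy : AlgebraicIndependent k y) {z : κ} (hz : z ∈ IntermediateField.adjoin k (Set.range y))
    (hroot : ∀ n : ℕ, ∃ w ∈ IntermediateField.adjoin k (Set.range y), w ^ p ^ n = z) :
    ∃ a : k, algebraMap k κ a = z := by
  classical
  have hred : ∀ w ∈ IntermediateField.adjoin k (Set.range y), w ≠ 0 → ∃ f g : MvPolynomial ι k,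
      g ≠ 0 ∧ IsRelPrime f g ∧ w * aeval y g = aeval y f := by
    intro w hw hw0
    obtain ⟨f, g, rfl⟩ := (IntermediateField.mem_adjoin_range_iff k y w).1 hw
    have hg : g ≠ 0 := fun h => hw0 (by rw [h, map_zero, div_zero])
    obtain ⟨g', f', c, hrel, hgc, hfc⟩ := UniqueFactorizationMonoid.exists_reduced_factors g hg f
    have hc : aeval y c ≠ 0 := fun h => hg (by rw [← hgc, hy (h.trans (map_zero _).symm), zero_mul])
    have hg' : g' ≠ 0 := fun h => hg (by rw [← hgc, h, mul_zero])
    refine ⟨f', g', hg', hrel.symm, ?_⟩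
    rw [← hgc, ← hfc, map_mul, map_mul, mul_div_mul_left _ _ hc,
      div_mul_cancel₀ _ fun h => hg' (hy (h.trans (map_zero _).symm))]
  rcases eq_or_ne z 0 with rfl | hz0
  · exact ⟨0, map_zero _⟩
  obtain ⟨f, g, hg, hfg, hze⟩ := hred z hz hz0
  set n := f.totalDegree + g.totalDegree + 1
  obtain ⟨w, hw, hwz⟩ := hroot n
  have hw0 : w ≠ 0 := fun h => hz0 (by rw [← hwz, h, zero_pow (pow_ne_zero _ hp.ne_zero)])
  obtain ⟨r, s, hs, hrs, hwe⟩ := hred w hw hw0
  set q := p ^ n with hq
  have heq : f * s ^ q = g * r ^ q := by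
    refine hy ?_
    rw [map_mul, map_mul, map_pow, map_pow, ← hze, ← hwe, mul_pow, hwz]
    ring
  have hf : f ≠ 0 := fun h => hz0 (by
    rw [h, map_zero, mul_eq_zero] at hze
    exact hze.resolve_right fun h' => hg (hy (h'.trans (map_zero _).symm)))
  have hr : r ≠ 0 := fun h => hw0 (by
    rw [h, map_zero, mul_eq_zero] at hwe
    exact hwe.resolve_right fun h' => hs (hy (h'.trans (map_zero _).symm)))
  have key : ∀ a b c d : MvPolynomial ι k, a ≠ 0 → d ≠ 0 → IsRelPrime a b → IsRelPrime d c →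
      a * c ^ q = b * d ^ q → a.totalDegree < n → a.totalDegree = 0 := by
    intro a b c d ha hd hab hdc h hlt
    have h1 : a ∣ d ^ q := hab.dvd_of_dvd_mul_left ⟨c ^ q, h.symm⟩
    have h2 : d ^ q ∣ a := (hdc.pow (m := q) (n := q)).dvd_of_dvd_mul_right ⟨b, by rw [h, mul_comm]⟩
    obtain ⟨u, hu⟩ := associated_of_dvd_dvd h1 h2
    obtain ⟨v, hv⟩ := h1
    have hdeg : ∀ m : ℕ, (d ^ m).totalDegree = m * d.totalDegree := fun m => by
      induction m with
      | zero => simp
      | succ m ih => rw [pow_succ, totalDegree_mul_of_isDomain (pow_ne_zero _ hd) hd, ih, Nat.succ_mul]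
    obtain ⟨w, hw⟩ := h2
    have hw0 : w ≠ 0 := fun h => ha (by rw [hw, h, mul_zero])
    have h3 : a.totalDegree = q * d.totalDegree + w.totalDegree := by
      conv_lhs => rw [hw]
      rw [totalDegree_mul_of_isDomain (pow_ne_zero _ hd) hw0, hdeg]
    have hv0 : v ≠ 0 := fun h => pow_ne_zero q hd (by rw [hv, h, mul_zero])
    have h4 : q * d.totalDegree = a.totalDegree + v.totalDegree := by
      rw [← hdeg, hv, totalDegree_mul_of_isDomain ha hv0]
    rcases Nat.eq_zero_or_pos d.totalDegree with h5 | h5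
    · rw [h5, mul_zero] at h4; omega
    · have := (Nat.lt_pow_self hp.one_lt (n := n)).trans_le ((Nat.le_mul_of_pos_right _ h5).trans
        ((Nat.le_add_right _ _).trans h3.ge))
      omega
  have hf0 := key f g s r hf hr hfg hrs heq (by omega)
  have hg0 := key g f r s hg hs hfg.symm hrs.symm heq.symm (by omega)
  rw [totalDegree_eq_zero_iff_eq_C] at hf0 hg0
  refine ⟨coeff 0 f / coeff 0 g, ?_⟩
  rw [hf0, hg0, aeval_C, aeval_C] at hze
  have hc : algebraMap k κ (coeff 0 g) ≠ 0 := (_root_.map_ne_zero _).2 fun h => hg (by rw [hg0, h, map_zero])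
  rw [map_div₀, div_eq_iff hc]
  exact hze.symm

/-- Roots of all `p`-power orders in a finite extension force algebraicity over the constants. -/
theorem isIntegral_of_roots {p : ℕ} (hp : p.Prime) (k k₀ l : Type u) [Field k] [Field k₀] [Field l] [CharP k₀ p]
    [Algebra k k₀] [Algebra k₀ l] [Algebra k l] [IsScalarTower k k₀ l] [FiniteDimensional k₀ l]
    (hk : ∀ x : k₀, (∀ n : ℕ, ∃ y : k₀, y ^ (p ^ n) = x) → x ∈ Set.range (algebraMap k k₀))
    (x : l) (hx : ∀ n : ℕ, ∃ y : l, y ^ (p ^ n) = x) : IsIntegral k x := by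
  classical
  haveI : Fact p.Prime := ⟨hp⟩
  haveI : CharP l p := charP_of_injective_algebraMap (algebraMap k₀ l).injective p
  haveI : ExpChar k₀ p := ExpChar.prime hp
  haveI : ExpChar l p := ExpChar.prime hp
  let Sc := separableClosure k₀ l
  haveI : ExpChar Sc p := expChar_of_injective_algebraMap (algebraMap k₀ Sc).injective p
  haveI : FiniteDimensional Sc l := FiniteDimensional.right k₀ Sc l
  haveI : IsPurelyInseparable Sc l := separableClosure.isPurelyInseparable k₀ l
  have hsep : ∀ n, ∃ y : l, y ^ (p ^ n) = x ∧ IsSeparable k₀ y := by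
    intro n
    obtain ⟨y, hy⟩ := hx (n + IsPurelyInseparable.exponent Sc l)
    refine ⟨y ^ (p ^ IsPurelyInseparable.exponent Sc l), ?_, ?_⟩
    · rw [← pow_mul, ← pow_add, add_comm]; exact hy
    · obtain ⟨s, hs⟩ := IsPurelyInseparable.exponent_def' Sc p y
      rw [← hs]
      exact mem_separableClosure_iff.1 s.2
  obtain ⟨y₀, hy₀, hy₀s⟩ := hsep 0
  have hxs : IsSeparable k₀ x := by simpa [← hy₀] using hy₀s
  have hcoeff : ∀ i, (minpoly k₀ x).coeff i ∈ Set.range (algebraMap k k₀) := fun i =>
    hk _ fun n => coeff_perfect hp k₀ l x hxs hsep i n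
  obtain ⟨g, hg, -, hgm⟩ := Polynomial.lifts_and_natDegree_eq_and_monic (f := algebraMap k k₀) (p := minpoly k₀ x)
    ((Polynomial.lifts_iff_coeff_lifts _).2 hcoeff) (minpoly.monic hxs.isIntegral)
  exact ⟨g, hgm, by rw [IsScalarTower.algebraMap_eq k k₀ l, ← Polynomial.eval₂_map, hg, ← Polynomial.aeval_def,
    minpoly.aeval]⟩

end Groth.Agent.EppASH7
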