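import Groth.Agent.Lib.EppASH7.Gauss
import Groth.Agent.Lib.EppASH7.RatKernel
import Groth.Agent.Lib.EppASH7.Bridge
import Groth.Agent.S1979
import Groth.Agent.S7132
import Groth.Agent.Lib.EtRamH7.StrictDVR
import Mathlib.RingTheory.Algebraic.Integral
import Mathlib.Order.Zorn

/-!
# An algebraic level with perfect residue field
-/

set_option autoImplicit false
set_option linter.style.haveILetI false

universe u

open IsLocalRing Polynomial

namespace Groth.Agent.EppASH7

section Cyclic

variable {Ω F : Type u} [Field Ω] [Field F] (W : ValuationSubring Ω) (f : F →+* Ω)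

/-- A subfield with cyclic values gives a DVR. -/
theorem dvr_of_cyclic (ϖ : F) (h0 : f ϖ ≠ 0) (h1 : W.valuation (f ϖ) < 1)
    (hall : ∀ x : F, x ≠ 0 → ∃ k : ℤ, W.valuation (f x) = W.valuation (f ϖ) ^ k) :
    IsDiscreteValuationRing (W.comap f) := by
  let V := W.comap f
  have hϖ : ϖ ∈ V := (W.valuation_le_one_iff _).1 h1.le
  let π : V := ⟨ϖ, hϖ⟩
  have hv : (0 : W.ValueGroup) < W.valuation (f ϖ) := pos_iff_ne_zero.2 ((_root_.map_ne_zero _).2 h0)
  have hunit : ∀ x : V, W.valuation (f (x : F)) = 1 → IsUnit x := fun x hx =>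
    (EtRam.isLocalHom_inclOfComap W f).map_nonunit x ((W.valuation_eq_one_iff (EtRam.inclOfComap W f x)).2 hx)
  have hnu : ∀ x : V, IsUnit x → W.valuation (f (x : F)) = 1 := fun x hx =>
    (W.valuation_eq_one_iff (EtRam.inclOfComap W f x)).1 (hx.map _)
  have hdec : ∀ x : V, x ≠ 0 → ∃ (n : ℕ) (u : Vˣ), x = π ^ n * u := by
    intro x hx
    have hx0 : (x : F) ≠ 0 := fun h => hx (Subtype.ext h)
    obtain ⟨k, hk⟩ := hall _ hx0
    have hk0 : 0 ≤ k := by
      by_contra hneg
      have h2 : W.valuation (f (x : F)) ≤ 1 := (W.valuation_le_one_iff _).2 x.2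
      rw [hk] at h2
      exact absurd h2 (not_le.2 (one_lt_zpow_of_neg₀ hv h1 (not_le.1 hneg)))
    obtain ⟨n, rfl⟩ := Int.eq_ofNat_of_zero_le hk0
    have hq : (x : F) / ϖ ^ n ∈ V := by
      show f _ ∈ W
      rw [← W.valuation_le_one_iff, map_div₀, map_div₀, hk, map_pow, map_pow, zpow_natCast,
        div_self (pow_ne_zero _ hv.ne')]
    have hu : IsUnit (⟨_, hq⟩ : V) := hunit _ (by
      show W.valuation (f ((x : F) / ϖ ^ n)) = 1
      rw [map_div₀, map_div₀, hk, map_pow, map_pow, zpow_natCast, div_self (pow_ne_zero _ hv.ne')])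
    refine ⟨n, hu.unit, Subtype.ext ?_⟩
    show (x : F) = ϖ ^ n * ((x : F) / ϖ ^ n)
    rw [mul_div_cancel₀ _ (pow_ne_zero _ fun h => h0 (by rw [h, map_zero]))]
  refine IsDiscreteValuationRing.ofHasUnitMulPowIrreducibleFactorization ⟨π, ⟨fun hu => h1.ne (hnu π hu), ?_⟩,
    fun {x} hx => ?_⟩
  · intro a b hab
    by_contra h
    push Not at h
    have ha0 : a ≠ 0 := fun e => h0 (by
      have := congrArg (fun z : V => f (z : F)) hab
      simpa [e, π] using this)
    have hb0 : b ≠ 0 := fun e => h0 (by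
      have := congrArg (fun z : V => f (z : F)) hab
      simpa [e, π] using this)
    obtain ⟨i, u, hi⟩ := hdec a ha0
    obtain ⟨j, v, hj⟩ := hdec b hb0
    have hi0 : i ≠ 0 := fun e => h.1 (by rw [hi, e, pow_zero, one_mul]; exact u.isUnit)
    have hj0 : j ≠ 0 := fun e => h.2 (by rw [hj, e, pow_zero, one_mul]; exact v.isUnit)
    have h2 : W.valuation (f ((π : V) : F)) = W.valuation (f ((a : V) : F)) * W.valuation (f ((b : V) : F)) := by
      rw [← map_mul, ← map_mul]
      exact congrArg (fun z : V => W.valuation (f (z : F))) hab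
    have ha1 : ∀ (w : Vˣ) (m : ℕ), W.valuation (f ((π ^ m * (w : V) : V) : F)) = W.valuation (f ϖ) ^ m := fun w m => by
      rw [MulMemClass.coe_mul, SubmonoidClass.coe_pow, map_mul, map_mul, hnu _ w.isUnit, mul_one, map_pow, map_pow]
    rw [hi, hj, ha1, ha1, ← pow_add] at h2
    have h3 := (pow_right_strictAnti₀ hv h1).injective (a₁ := 1) (a₂ := i + j) (by simpa [π] using h2)
    omega
  · obtain ⟨n, u, rfl⟩ := hdec x hx
    exact ⟨n, u, rfl⟩

/-- Over a DVR with generator `ϖ`, a weakly unramified extension has cyclic values. -/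
theorem values_of_weaklyUnramified {G : Type u} [Field G] (g : G →+* F) [IsDiscreteValuationRing ((W.comap f).comap g)]
    [IsDiscreteValuationRing (W.comap f)]
    (hw : (maximalIdeal ((W.comap f).comap g)).map (EtRam.inclOfComap (W.comap f) g) = maximalIdeal (W.comap f)) :
    ∃ ϖ : G, f (g ϖ) ≠ 0 ∧ W.valuation (f (g ϖ)) < 1 ∧
      ∀ x : F, x ≠ 0 → ∃ k : ℤ, W.valuation (f x) = W.valuation (f (g ϖ)) ^ k := by
  obtain ⟨π, hπ⟩ := IsDiscreteValuationRing.exists_irreducible ((W.comap f).comap g)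
  have hirr : Irreducible (EtRam.inclOfComap (W.comap f) g π) := by
    rw [IsDiscreteValuationRing.irreducible_iff_uniformizer, ← hw, hπ.maximalIdeal_eq, Ideal.map_span,
      Set.image_singleton]
  have hg0 : g (π : G) ≠ 0 := fun h => hπ.ne_zero (Subtype.ext ((map_eq_zero g).1 h))
  have hval : ∀ w : W.comap f, IsUnit w → W.valuation (f (w : F)) = 1 := fun w hw =>
    (W.valuation_eq_one_iff (EtRam.inclOfComap W f w)).1 (hw.map _)
  refine ⟨π, (_root_.map_ne_zero f).2 hg0, ?_, fun x hx => ?_⟩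
  · refine lt_of_le_of_ne ((W.valuation_le_one_iff _).2 (EtRam.inclOfComap (W.comap f) g π).2) fun h => hirr.not_isUnit ?_
    exact (EtRam.isLocalHom_inclOfComap W f).map_nonunit _ ((W.valuation_eq_one_iff (EtRam.inclOfComap W f _)).2 h)
  rcases (W.comap f).mem_or_inv_mem x with h | h
  · obtain ⟨n, w, hn⟩ := IsDiscreteValuationRing.eq_unit_mul_pow_irreducible
      (x := (⟨x, h⟩ : W.comap f)) (fun e => hx (congrArg Subtype.val e)) hirr
    refine ⟨n, ?_⟩
    rw [show x = ((w : W.comap f) : F) * g (π : G) ^ n from congrArg Subtype.val hn, map_mul, map_mul, map_pow,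
      map_pow, hval _ w.isUnit, one_mul, zpow_natCast]
  · obtain ⟨n, w, hn⟩ := IsDiscreteValuationRing.eq_unit_mul_pow_irreducible
      (x := (⟨x⁻¹, h⟩ : W.comap f)) (fun e => hx (inv_eq_zero.1 (congrArg Subtype.val e))) hirr
    refine ⟨-(n : ℤ), ?_⟩
    rw [← inv_inv x, show x⁻¹ = ((w : W.comap f) : F) * g (π : G) ^ n from congrArg Subtype.val hn, map_inv₀,
      map_inv₀, map_mul, map_mul, map_pow, map_pow, hval _ w.isUnit, one_mul, zpow_neg, zpow_natCast]

end Cyclic

variable {K Ω : Type u} [Field K] [Field Ω] [Algebra K Ω] [IsAlgClosed Ω] (W : ValuationSubring Ω)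

/-- A maximal algebraic extension without new values has perfect residue field. -/
theorem exists_maximal_vg {p : ℕ} (hp : p.Prime) :
    ∃ E : IntermediateField K Ω, (∀ c ∈ E, IsAlgebraic K c) ∧
      VG W ((⊥ : IntermediateField K Ω) : Set Ω) (E : Set Ω) ∧
      ∀ a ∈ E, a ∈ W → ∃ r ∈ E, r ∈ W ∧ W.valuation (a - r ^ p) < 1 := by
  classical
  let S : Set (IntermediateField K Ω) :=
    {E | E ≤ algebraicClosure K Ω ∧ VG W ((⊥ : IntermediateField K Ω) : Set Ω) (E : Set Ω)}
  obtain ⟨E, hE⟩ : ∃ E, Maximal (· ∈ S) E := by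
    refine zorn_le₀ S fun c hcS hc => ?_
    rcases c.eq_empty_or_nonempty with rfl | hne
    · exact ⟨⊥, ⟨bot_le, vg_refl W _⟩, fun z hz => absurd hz (Set.notMem_empty z)⟩
    haveI : Nonempty c := hne.to_subtype
    have hdir : Directed (· ≤ ·) fun E : c => (E : IntermediateField K Ω) := fun a b => by
      rcases hc.total a.2 b.2 with h | h
      · exact ⟨b, h, le_rfl⟩
      · exact ⟨a, le_rfl, h⟩
    refine ⟨⨆ E : c, (E : IntermediateField K Ω), ⟨iSup_le fun E => (hcS E.2).1, fun z hz hz0 => ?_⟩,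
      fun z hz => le_iSup (fun E : c => (E : IntermediateField K Ω)) ⟨z, hz⟩⟩
    rw [IntermediateField.coe_iSup_of_directed hdir] at hz
    obtain ⟨E, hzE⟩ := Set.mem_iUnion.1 hz
    exact (hcS E.2).2 z hzE hz0
  refine ⟨E, fun c hc => mem_algebraicClosure_iff.1 (hE.1.1 hc), hE.1.2, fun a haE haW => ?_⟩
  by_contra hno
  push Not at hno
  obtain ⟨t, ht⟩ := IsAlgClosed.exists_pow_nat_eq a hp.pos
  have htW : t ∈ W := by
    rw [← W.valuation_le_one_iff]
    refine (pow_le_one_iff hp.ne_zero).1 ?_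
    rw [← map_pow, ht, W.valuation_le_one_iff]
    exact haW
  let g : Polynomial E := X ^ p - Polynomial.C ⟨a, haE⟩
  have hgt : aeval t g = 0 := by
    simp only [g, map_sub, map_pow, aeval_X, aeval_C, ht]
    exact sub_self _
  have hvg : VG W (E : Set Ω) (adj E t : Set Ω) := by
    refine vg_of_insep hp E.toSubfield t a htW haW haE (by rw [ht, sub_self, map_zero]; exact zero_lt_one)
      (fun r hr hrW => not_lt.2 (hno r hr hrW)) _ fun z hz => ?_
    exact adj_repr E g (monic_X_pow_sub_C _ hp.ne_zero) natDegree_X_pow_sub_C hgt z hz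
  have halg : adj E t ≤ algebraicClosure K Ω := by
    refine adj_le E hE.1.1 (mem_algebraicClosure_iff.2 ?_)
    obtain ⟨P, hP0, hP⟩ := mem_algebraicClosure_iff.1 (hE.1.1 haE)
    refine ⟨P.comp (X ^ p), fun h0 => hP0 ?_, by rw [aeval_comp, map_pow, aeval_X, ht, hP]⟩
    have h1 := congrArg natDegree h0
    rw [natDegree_comp, natDegree_X_pow, natDegree_zero, mul_eq_zero] at h1
    have h2 : P = Polynomial.C (P.coeff 0) := eq_C_of_natDegree_eq_zero (h1.resolve_right hp.ne_zero)
    rw [h2, C_comp] at h0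
    rw [h2, h0]
  have hmem : adj E t ∈ S := ⟨halg, hE.1.2.trans hvg⟩
  have htE : t ∈ E := hE.2 hmem (le_adj E t) (mem_adj E t)
  exact absurd (by rw [ht, sub_self, map_zero]; exact zero_lt_one : W.valuation (a - t ^ p) < 1)
    (not_lt.2 (hno t htE htW))

omit [IsAlgClosed Ω] in
theorem residue_map_injective {F : Type u} [Field F] (f : F →+* Ω) :
    letI := EtRam.isLocalHom_inclOfComap W f
    Function.Injective (ResidueField.map (EtRam.inclOfComap W f)) := by
  letI := EtRam.isLocalHom_inclOfComap W f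
  exact RingHom.injective _

/-- Applying the elimination of ramification inside an algebraically closed field. -/
theorem exists_weak_level {p : ℕ} (hp : p.Prime) (E F N : Type u) [Field E] [Field F] [Field N]
    [Algebra E F] [Algebra F N] [Algebra E N] [IsScalarTower E F N] [FiniteDimensional F N]
    [Algebra E Ω] [Algebra F Ω] [Algebra N Ω] [IsScalarTower E F Ω] [IsScalarTower F N Ω] [IsScalarTower E N Ω]
    [CharP (ResidueField W) p] [IsDiscreteValuationRing (W.comap (algebraMap E Ω))]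
    [IsDiscreteValuationRing (W.comap (algebraMap F Ω))]
    (hperf : ∀ a : E, algebraMap E Ω a ∈ W →
      ∃ r : E, algebraMap E Ω r ∈ W ∧ W.valuation (algebraMap E Ω a - algebraMap E Ω r ^ p) < 1)
    (hker : ∀ a : F, ∀ ha : algebraMap F Ω a ∈ W,
      (∀ n : ℕ, ∃ (b : F) (hb : algebraMap F Ω b ∈ W),
        res (W := W) (algebraMap F Ω b) hb ^ p ^ n = res (algebraMap F Ω a) ha) →
      ∃ (c : E) (hc : algebraMap E Ω c ∈ W), res (W := W) (algebraMap E Ω c) hc = res (algebraMap F Ω a) ha) :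
    ∃ (K₁ : Type u) (_ : Field K₁) (_ : Algebra E K₁) (_ : FiniteDimensional E K₁) (σ : K₁ →ₐ[E] Ω) (ϖ : K₁),
      σ ϖ ≠ 0 ∧ W.valuation (σ ϖ) < 1 ∧
      (∀ z ∈ IntermediateField.adjoin N (Set.range σ), z ≠ 0 → ∃ k : ℤ, W.valuation z = W.valuation (σ ϖ) ^ k) ∧
      ∀ c, σ c ∈ W → ∃ r, σ r ∈ W ∧ W.valuation (σ c - σ r ^ p) < 1 := by
  classical
  haveI : Fact p.Prime := ⟨hp⟩
  let cE : E →+* Ω := algebraMap E Ω
  let cF : F →+* Ω := algebraMap F Ω
  let cN : N →+* Ω := algebraMap N Ω
  have hcEF : cF.comp (algebraMap E F) = cE := (IsScalarTower.algebraMap_eq E F Ω).symm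
  have hcFN : cN.comp (algebraMap F N) = cF := (IsScalarTower.algebraMap_eq F N Ω).symm
  have hdomN : EtRam.Dominates (W.comap cF) ((algebraMap F N).comp (algebraMap (W.comap cF) F)) (W.comap cN) := by
    refine EtRamH7.dominates_comap cN ?_
    rw [show cN.comp ((algebraMap F N).comp (algebraMap (W.comap cF) F)) = cF.comp (W.comap cF).subtype by
      rw [← RingHom.comp_assoc, hcFN]; rfl]
    exact EtRamH7.dominates_self_comap cF W
  haveI hdvN : IsDiscreteValuationRing (W.comap cN) :=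
    EtRamH7.dvr_of_dominates (W.comap cF) F N _ rfl _ hdomN
  have hdomF : EtRam.Dominates (W.comap cE) ((algebraMap E F).comp (algebraMap (W.comap cE) E)) (W.comap cF) := by
    refine EtRamH7.dominates_comap cF ?_
    rw [show cF.comp ((algebraMap E F).comp (algebraMap (W.comap cE) E)) = cE.comp (W.comap cE).subtype by
      rw [← RingHom.comp_assoc, hcEF]; rfl]
    exact EtRamH7.dominates_self_comap cE W
  letI : Algebra (W.comap cE) (W.comap cF) := (RingHom.codRestrict _ (W.comap cF) hdomF.1).toAlgebra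
  letI : Algebra (W.comap cF) (W.comap cN) := (RingHom.codRestrict _ (W.comap cN) hdomN.1).toAlgebra
  letI : Algebra (W.comap cE) (W.comap cN) :=
    ((algebraMap (W.comap cF) (W.comap cN)).comp (algebraMap (W.comap cE) (W.comap cF))).toAlgebra
  haveI : IsScalarTower (W.comap cE) (W.comap cF) (W.comap cN) := IsScalarTower.of_algebraMap_eq fun _ => rfl
  haveI : IsLocalHom (algebraMap (W.comap cE) (W.comap cF)) := EtRamH7.isLocalHom_cod hdomF
  haveI : IsLocalHom (algebraMap (W.comap cF) (W.comap cN)) := EtRamH7.isLocalHom_cod hdomN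
  haveI : IsLocalHom (algebraMap (W.comap cE) (W.comap cN)) :=
    inferInstanceAs (IsLocalHom ((algebraMap (W.comap cF) (W.comap cN)).comp (algebraMap (W.comap cE) (W.comap cF))))
  letI : Algebra (W.comap cE) N := ((algebraMap E N).comp (algebraMap (W.comap cE) E)).toAlgebra
  haveI : IsScalarTower (W.comap cE) E N := IsScalarTower.of_algebraMap_eq fun _ => rfl
  haveI : IsScalarTower (W.comap cE) (W.comap cN) N := IsScalarTower.of_algebraMap_eq fun z =>
    IsScalarTower.algebraMap_apply E F N (z : E)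
  letI : Algebra (W.comap cF) N := ((algebraMap F N).comp (algebraMap (W.comap cF) F)).toAlgebra
  haveI : IsScalarTower (W.comap cF) F N := IsScalarTower.of_algebraMap_eq fun _ => rfl
  haveI : IsScalarTower (W.comap cF) (W.comap cN) N := IsScalarTower.of_algebraMap_eq fun _ => rfl
  haveI : Module.Finite (ResidueField (W.comap cF)) (ResidueField (W.comap cN)) :=
    (Groth.Agent.S7132.result (W.comap cF) (W.comap cN) F N
      (EtRamH7.injective_cod (W.comap cF) F N _ rfl _ hdomN.1)).1
  haveI : IsScalarTower (ResidueField (W.comap cE)) (ResidueField (W.comap cF)) (ResidueField (W.comap cN)) :=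
    IsScalarTower.of_algebraMap_eq fun z => by
      obtain ⟨z, rfl⟩ := residue_surjective z
      rfl
  haveI := EtRam.isLocalHom_inclOfComap W cE
  haveI := EtRam.isLocalHom_inclOfComap W cF
  haveI hcp : CharP (ResidueField (W.comap cE)) p :=
    ((ResidueField.map (EtRam.inclOfComap W cE)).charP_iff (RingHom.injective _) p).2 inferInstance
  haveI : CharP (ResidueField (W.comap cF)) p :=
    ((ResidueField.map (EtRam.inclOfComap W cF)).charP_iff (RingHom.injective _) p).2 inferInstance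
  haveI : ExpChar (ResidueField (W.comap cE)) p := ExpChar.prime hp
  haveI : PerfectRing (ResidueField (W.comap cE)) p := PerfectRing.ofSurjective _ p fun z => by
    obtain ⟨a, rfl⟩ := residue_surjective z
    obtain ⟨r, hrW, hlt⟩ := hperf (a : E) a.2
    refine ⟨residue _ (⟨r, hrW⟩ : W.comap cE), ?_⟩
    apply residue_map_injective W cE
    rw [frobenius_def, map_pow, ResidueField.map_residue, ResidueField.map_residue, ← map_pow, eq_comm, ← sub_eq_zero,
      ← map_sub, residue_eq_zero_iff, ValuationSubring.valuation_lt_one_iff]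
    exact hlt
  haveI : PerfectField (ResidueField (W.comap cE)) := PerfectRing.toPerfectField _ p
  have hres : ∀ q : ℕ, q.Prime → CharP (ResidueField (W.comap cE)) q →
      ∀ z : ResidueField (W.comap cN), (∀ n : ℕ, ∃ w : ResidueField (W.comap cN), w ^ (q ^ n) = z) →
        IsSeparable (ResidueField (W.comap cE)) z := by
    intro q hq hcq z hz
    obtain rfl : p = q := CharP.eq (ResidueField (W.comap cE)) hcp hcq
    refine PerfectField.separable_of_irreducible (minpoly.irreducible
      (isIntegral_of_roots hp (ResidueField (W.comap cE)) (ResidueField (W.comap cF)) (ResidueField (W.comap cN))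
        (fun r hr => ?_) z hz))
    obtain ⟨a, rfl⟩ := residue_surjective r
    obtain ⟨c, hc, hce⟩ := hker (a : F) a.2 fun n => by
      obtain ⟨w, hw⟩ := hr n
      obtain ⟨b, rfl⟩ := residue_surjective w
      refine ⟨(b : F), b.2, ?_⟩
      have h1 := congrArg (ResidueField.map (EtRam.inclOfComap W cF)) hw
      rw [map_pow, ResidueField.map_residue, ResidueField.map_residue] at h1
      exact h1
    refine ⟨residue _ (⟨c, hc⟩ : W.comap cE), residue_map_injective W cF ?_⟩
    refine Eq.trans ?_ hce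
    show residue W (EtRam.inclOfComap W cF (algebraMap (W.comap cE) (W.comap cF) ⟨c, hc⟩)) = res (cE c) hc
    exact congrArg (residue W) (Subtype.ext (DFunLike.congr_fun hcEF c))
  have hinjN : Function.Injective (algebraMap (W.comap cE) (W.comap cN)) := fun a b h =>
    Subtype.ext ((algebraMap E N).injective (by
      rw [IsScalarTower.algebraMap_apply E F N, IsScalarTower.algebraMap_apply E F N]
      exact congrArg Subtype.val h))
  obtain ⟨K₁, _, _, hfin, hsol⟩ := Groth.Agent.S1979.result (W.comap cE) (W.comap cN) E N hinjN hres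
  haveI := hfin
  let σ : K₁ →ₐ[E] Ω := IsAlgClosed.lift
  let M₀ : IntermediateField N Ω := IntermediateField.adjoin N (Set.range σ)
  have hσM : ∀ c, σ c ∈ M₀ := fun c => IntermediateField.subset_adjoin N _ ⟨c, rfl⟩
  let g : K₁ →+* M₀ := σ.toRingHom.codRestrict M₀ hσM
  letI : Algebra K₁ M₀ := g.toAlgebra
  haveI : IsScalarTower E K₁ M₀ := IsScalarTower.of_algebraMap_eq fun c => Subtype.ext (by
    show algebraMap E Ω c = σ (algebraMap E K₁ c)
    exact (σ.commutes c).symm)
  have hσint : ∀ c : K₁, IsIntegral N (σ c) := fun c => ((IsIntegral.of_finite E c).map σ).tower_top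
  have htop : Algebra.adjoin N (Set.range (algebraMap K₁ M₀)) = ⊤ :=
    EtRamH7.adjoin_range_codRestrict_eq_top (σ : K₁ → Ω) M₀ rfl hσint g (fun _ => rfl)
  let cM : M₀ →+* Ω := algebraMap M₀ Ω
  have hdomM : EtRam.Dominates (W.comap cN) ((algebraMap N M₀).comp (algebraMap (W.comap cN) N)) (W.comap cM) :=
    EtRamH7.dominates_comap cM (EtRamH7.dominates_self_comap cN W)
  have hweak := hsol M₀ htop (W.comap cM) hdomM
  haveI : FiniteDimensional N M₀ := EtRamH7.finite_of_adjoin_eq_top E N K₁ M₀ htop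
  haveI : IsDiscreteValuationRing (W.comap cM) := EtRamH7.dvr_of_dominates (W.comap cN) N M₀ _ rfl _ hdomM
  let V₁ : ValuationSubring K₁ := (W.comap cM).comap g
  have hdomK : EtRam.Dominates (W.comap cE) ((algebraMap E K₁).comp (algebraMap (W.comap cE) E)) V₁ := by
    refine EtRamH7.dominates_comap g (EtRamH7.dominates_comap cM ?_)
    have hc : cM.comp (g.comp ((algebraMap E K₁).comp (algebraMap (W.comap cE) E))) =
        cE.comp (W.comap cE).subtype := RingHom.ext fun z => σ.commutes _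
    rw [hc]
    exact EtRamH7.dominates_self_comap cE W
  haveI hdv₁ : IsDiscreteValuationRing V₁ :=
    EtRamH7.dvr_of_dominates (W.comap cE) E K₁ _ rfl _ hdomK
  haveI : IsDiscreteValuationRing ((W.comap cM).comap g) := hdv₁
  obtain ⟨ϖ', hϖ0, hϖ1, hall⟩ := values_of_weaklyUnramified W cM g hweak
  refine ⟨K₁, inferInstance, inferInstance, hfin, σ, ϖ', hϖ0, hϖ1,
    fun z hz hz0 => hall ⟨z, hz⟩ fun h => hz0 (congrArg Subtype.val h), fun c hcW => ?_⟩
  letI : Algebra (W.comap cE) V₁ := (RingHom.codRestrict _ V₁ hdomK.1).toAlgebra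
  haveI : IsLocalHom (algebraMap (W.comap cE) V₁) := EtRamH7.isLocalHom_cod hdomK
  letI : Algebra (W.comap cE) K₁ := ((algebraMap E K₁).comp (algebraMap (W.comap cE) E)).toAlgebra
  haveI : IsScalarTower (W.comap cE) E K₁ := IsScalarTower.of_algebraMap_eq fun _ => rfl
  haveI : IsScalarTower (W.comap cE) V₁ K₁ := IsScalarTower.of_algebraMap_eq fun _ => rfl
  haveI : Module.Finite (ResidueField (W.comap cE)) (ResidueField V₁) :=
    (Groth.Agent.S7132.result (W.comap cE) V₁ E K₁
      (EtRamH7.injective_cod (W.comap cE) E K₁ _ rfl V₁ hdomK.1)).1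
  haveI : PerfectField (ResidueField V₁) := Algebra.IsAlgebraic.perfectField (K := ResidueField (W.comap cE))
  haveI : CharP (ResidueField V₁) p :=
    charP_of_injective_algebraMap (algebraMap (ResidueField (W.comap cE)) (ResidueField V₁)).injective p
  haveI : ExpChar (ResidueField V₁) p := ExpChar.prime hp
  haveI : PerfectRing (ResidueField V₁) p := PerfectField.toPerfectRing p
  let c' : V₁ := ⟨c, hcW⟩
  obtain ⟨r, hr⟩ := (PerfectRing.bijective_frobenius (p := p) (R := ResidueField V₁)).2 (residue V₁ c')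
  obtain ⟨r, rfl⟩ := residue_surjective r
  refine ⟨(r : K₁), r.2, ?_⟩
  have hm : c' - r ^ p ∈ maximalIdeal V₁ := by
    rw [← residue_eq_zero_iff, map_sub, map_pow, sub_eq_zero]
    exact hr.symm
  let i₁ : V₁ →+* W := (EtRam.inclOfComap W cM).comp (EtRam.inclOfComap (W.comap cM) g)
  have h1 : i₁ (c' - r ^ p) ∈ maximalIdeal W := by
    rw [mem_maximalIdeal] at hm ⊢
    exact fun hu => hm ((EtRam.isLocalHom_inclOfComap (W.comap cM) g).map_nonunit _
      ((EtRam.isLocalHom_inclOfComap W cM).map_nonunit _ hu))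
  rw [ValuationSubring.valuation_lt_one_iff, map_sub, map_pow] at h1
  exact h1

/-- An algebraic level with perfect residue field over which no new values appear. -/
theorem exists_perfLevel {p : ℕ} (hp : p.Prime) {A : Type u} [CommRing A] [IsDomain A] [IsDiscreteValuationRing A]
    [Algebra A K] [IsFractionRing A K] [Algebra A Ω] [IsScalarTower A K Ω]
    (hA : EtRam.Dominates A (algebraMap A Ω) W) [CharP (ResidueField W) p] {ι : Type u} [Finite ι] {x : ι → Ω}
    (hx : ∀ i, x i ∈ W)
    (hind : AlgebraicIndependent (rsub W (algebraMap K Ω).fieldRange) fun i => res (W := W) (x i) (hx i))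
    (N : Set Ω) (hN : ∃ T : Finset Ω, (↑T : Set Ω) ⊆ N ∧
      N ⊆ IntermediateField.adjoin K (Set.range x ∪ ↑T) ∧
      ∀ t ∈ T, IsIntegral (IntermediateField.adjoin K (Set.range x)) t) :
    ∃ (E₁ : IntermediateField K Ω) (ϖ : Ω), (∀ c ∈ E₁, IsAlgebraic K c) ∧ ϖ ∈ E₁ ∧ ϖ ≠ 0 ∧
      W.valuation ϖ < 1 ∧
      (∀ z ∈ IntermediateField.adjoin K ((E₁ : Set Ω) ∪ Set.range x ∪ N), z ≠ 0 →
        ∃ k : ℤ, W.valuation z = W.valuation ϖ ^ k) ∧
      ∀ a ∈ E₁, a ∈ W → ∃ r ∈ E₁, r ∈ W ∧ W.valuation (a - r ^ p) < 1 := by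
  classical
  haveI : Fact p.Prime := ⟨hp⟩
  obtain ⟨T, hTN, hNT, hTint⟩ := hN
  obtain ⟨E, hEalg, hEvg, hEperf⟩ := exists_maximal_vg W hp (K := K)
  -- values of `E`
  obtain ⟨π, hπ⟩ := IsDiscreteValuationRing.exists_irreducible A
  have hinjA : Function.Injective (algebraMap A Ω) := by
    rw [IsScalarTower.algebraMap_eq A K Ω]
    exact (algebraMap K Ω).injective.comp (IsFractionRing.injective A K)
  set πΩ : Ω := algebraMap A Ω π with hπΩ
  have hπ0 : πΩ ≠ 0 := fun h => hπ.ne_zero (hinjA (h.trans (map_zero _).symm))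
  have hπ1 : W.valuation πΩ < 1 := hA.2 _ ((mem_maximalIdeal π).2 hπ.not_isUnit)
  have hu : ∀ u : Aˣ, W.valuation (algebraMap A Ω (u : A)) = 1 := fun u =>
    (W.valuation_eq_one_iff (RingHom.codRestrict (algebraMap A Ω) W hA.1 (u : A))).1 (u.isUnit.map _)
  have hπE : πΩ ∈ E := by
    rw [hπΩ, IsScalarTower.algebraMap_apply A K Ω]; exact E.algebraMap_mem _
  have hEval : ∀ z ∈ E, z ≠ 0 → ∃ k : ℤ, W.valuation z = W.valuation πΩ ^ k := by
    intro z hz hz0
    obtain ⟨y, hy, hzy⟩ := hEvg z hz hz0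
    obtain ⟨a, rfl⟩ := IntermediateField.mem_bot.1 hy
    obtain ⟨c, d, hd, rfl⟩ := IsFractionRing.div_surjective (A := A) a
    have hd0 : d ≠ 0 := nonZeroDivisors.ne_zero hd
    have hc0 : c ≠ 0 := fun h => hz0 ((map_eq_zero W.valuation).1 (by rw [hzy, h]; simp))
    obtain ⟨i, u, hi⟩ := IsDiscreteValuationRing.eq_unit_mul_pow_irreducible hc0 hπ
    obtain ⟨j, v, hj⟩ := IsDiscreteValuationRing.eq_unit_mul_pow_irreducible hd0 hπ
    refine ⟨(i : ℤ) - j, ?_⟩
    rw [hzy, map_div₀, map_div₀, ← IsScalarTower.algebraMap_apply, ← IsScalarTower.algebraMap_apply, hi, hj,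
      map_mul, map_mul, map_pow, map_pow, map_mul, map_mul, map_pow, map_pow, hu, hu, one_mul, one_mul, ← hπΩ,
      zpow_sub₀ ((_root_.map_ne_zero _).2 hπ0), zpow_natCast, zpow_natCast]
  have hindE : ResIndep E hx := resIndep_of_isAlgebraic hx hind hEalg
  -- the three fields
  let FE : IntermediateField E Ω := IntermediateField.adjoin E (Set.range x)
  let NE : IntermediateField FE Ω := IntermediateField.adjoin FE (↑T : Set Ω)
  have hTFE : ∀ t ∈ T, IsIntegral FE t := by
    intro t ht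
    obtain ⟨P, hPm, hPt⟩ := hTint t ht
    have hle : ∀ c ∈ IntermediateField.adjoin K (Set.range x), c ∈ FE := by
      intro c hc
      have : IntermediateField.adjoin K (Set.range x) ≤ FE.restrictScalars K :=
        IntermediateField.adjoin_le_iff.2 fun z hz => IntermediateField.subset_adjoin E _ hz
      exact this hc
    let j : IntermediateField.adjoin K (Set.range x) →+* FE :=
      RingHom.codRestrict (algebraMap _ Ω) FE fun c => hle c c.2
    refine ⟨P.map j, hPm.map j, ?_⟩
    rw [eval₂_map]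
    exact hPt
  haveI : FiniteDimensional FE NE := IntermediateField.finiteDimensional_adjoin hTFE
  let cE : E →+* Ω := algebraMap E Ω
  let cF : FE →+* Ω := algebraMap FE Ω
  haveI : IsDiscreteValuationRing (W.comap (algebraMap E Ω)) := dvr_of_cyclic W cE ⟨πΩ, hπE⟩ hπ0 hπ1
    fun z hz => hEval z z.2 fun h => hz (Subtype.ext h)
  haveI : IsDiscreteValuationRing (W.comap (algebraMap FE Ω)) :=
    dvr_of_cyclic W cF ⟨πΩ, FE.algebraMap_mem ⟨πΩ, hπE⟩⟩ hπ0 hπ1 fun z hz => by
      obtain ⟨c, hc, hzc⟩ := (gauss_field hx hindE z.2).1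
      obtain ⟨k, hk⟩ := hEval c hc fun h => hz (Subtype.ext ((map_eq_zero W.valuation).1 (by rw [hzc, h, map_zero])))
      exact ⟨k, hzc.trans hk⟩
  letI : Algebra E NE := ((algebraMap FE NE).comp (algebraMap E FE)).toAlgebra
  haveI : IsScalarTower E FE NE := IsScalarTower.of_algebraMap_eq fun _ => rfl
  haveI : IsScalarTower E NE Ω := IsScalarTower.of_algebraMap_eq fun _ => rfl
  obtain ⟨K₁, _, _, hfin, σ, ϖ', hϖ0, hϖ1, hall, hperf₁⟩ := exists_weak_level W hp E FE NE
    (fun a ha => by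
      obtain ⟨r, hr, hrW, hlt⟩ := hEperf (a : Ω) a.2 ha
      exact ⟨⟨r, hr⟩, hrW, hlt⟩)
    (fun a ha hroots => by
      have hmemF : ∀ (b : FE) (hb : algebraMap FE Ω b ∈ W), res (W := W) (algebraMap FE Ω b) hb ∈
          IntermediateField.adjoin (rsub W E.toSubfield) (Set.range fun i => res (W := W) (x i) (hx i)) :=
        fun b hb => (gauss_field hx hindE b.2).2 hb
      obtain ⟨c, hc⟩ := exists_eq_of_roots_adjoin hp hindE (hmemF a ha) fun n => by
        obtain ⟨b, hb, hbe⟩ := hroots n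
        exact ⟨_, hmemF b hb, hbe⟩
      obtain ⟨e, heW, heE, he⟩ := exists_of_mem_rsub c.2
      exact ⟨⟨e, heE⟩, heW, he.trans hc⟩)
  haveI := hfin
  let E₁ : IntermediateField K Ω := σ.fieldRange.restrictScalars K
  have hK₁alg : ∀ c ∈ E₁, IsAlgebraic K c := by
    rintro _ ⟨c, rfl⟩
    have h1 : IsIntegral E (σ c) := (IsIntegral.of_finite E c).map σ
    haveI : Algebra.IsAlgebraic K E := ⟨fun e => (isAlgebraic_algHom_iff E.val Subtype.val_injective).1 (hEalg e e.2)⟩
    exact (isIntegral_trans _ h1).isAlgebraic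
  refine ⟨E₁, σ ϖ', hK₁alg, ⟨ϖ', rfl⟩, hϖ0, hϖ1, fun z hz hz0 => hall z ?_ hz0, fun a ha haW => ?_⟩
  · let M₀ := IntermediateField.adjoin NE (Set.range σ)
    have hxM : ∀ i, x i ∈ M₀ := fun i =>
      M₀.algebraMap_mem ⟨x i, NE.algebraMap_mem ⟨x i, IntermediateField.subset_adjoin E _ ⟨i, rfl⟩⟩⟩
    have hKM : ∀ c : K, algebraMap K Ω c ∈ M₀ := fun c =>
      M₀.algebraMap_mem ⟨_, NE.algebraMap_mem ⟨_, FE.algebraMap_mem ⟨_, E.algebraMap_mem c⟩⟩⟩
    let Mk : IntermediateField K Ω := M₀.toSubfield.toIntermediateField hKM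
    have hNM : IntermediateField.adjoin K (Set.range x ∪ (↑T : Set Ω)) ≤ Mk := by
      refine IntermediateField.adjoin_le_iff.2 ?_
      rintro w (⟨i, rfl⟩ | hw)
      · exact hxM i
      · exact M₀.algebraMap_mem ⟨w, IntermediateField.subset_adjoin FE _ hw⟩
    have : IntermediateField.adjoin K ((E₁ : Set Ω) ∪ Set.range x ∪ N) ≤ Mk := by
      refine IntermediateField.adjoin_le_iff.2 ?_
      rintro w ((⟨c, rfl⟩ | ⟨i, rfl⟩) | hw)
      · exact IntermediateField.subset_adjoin NE _ ⟨c, rfl⟩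
      · exact hxM i
      · exact hNM (hNT hw)
    exact this hz
  · obtain ⟨c, rfl⟩ := ha
    obtain ⟨r, hrW, hlt⟩ := hperf₁ c haW
    exact ⟨σ r, ⟨r, rfl⟩, hrW, hlt⟩

end Groth.Agent.EppASH7
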