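import Groth.Agent.Lib.EppASH7.Dense
import Mathlib.FieldTheory.PrimitiveElement
import Mathlib.FieldTheory.SeparableClosure
import Mathlib.FieldTheory.PurelyInseparable.Basic
import Mathlib.FieldTheory.PurelyInseparable.PerfectClosure
import Mathlib.RingTheory.Polynomial.UniqueFactorization
import Mathlib.RingTheory.AdicCompletion.Basic
import Mathlib.FieldTheory.Normal.Basic

/-!
# Approximating a small discrete valuation ring by algebraic elements, with conjugates
-/

set_option autoImplicit false
set_option linter.style.haveILetI false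

universe u

open IsLocalRing Polynomial

namespace Groth.Agent.EppASH7

section Digits

variable {R : Type u} [CommRing R] [IsDomain R] [IsDiscreteValuationRing R] [IsAlgClosed (ResidueField R)] {π : R}

/-- Digits which are `Q`-th powers. -/
theorem exists_digits (hπ : Irreducible π) {Q : ℕ} (hQ : 0 < Q) (n : ℕ) (x : R) :
    ∃ (r : ℕ → R) (y : R), x = (∑ i ∈ Finset.range n, π ^ i * r i ^ Q) + π ^ n * y := by
  induction n with
  | zero => exact ⟨fun _ => 0, x, by simp⟩
  | succ n ih =>
    obtain ⟨r, y, hxy⟩ := ih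
    obtain ⟨c, hc⟩ := IsAlgClosed.exists_pow_nat_eq (residue R y) hQ
    obtain ⟨b, rfl⟩ := residue_surjective c
    have hm : y - b ^ Q ∈ maximalIdeal R := by rw [← residue_eq_zero_iff, map_sub, map_pow, hc, sub_self]
    rw [hπ.maximalIdeal_eq, Ideal.mem_span_singleton] at hm
    obtain ⟨d, hd⟩ := hm
    refine ⟨Function.update r n b, d, ?_⟩
    rw [Finset.sum_range_succ, Function.update_self, Finset.sum_congr rfl fun i hi => by
      rw [Function.update_of_ne (Finset.mem_range.1 hi).ne], hxy, sub_eq_iff_eq_add'.1 hd]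
    ring

/-- In a complete ring with perfect residue field the `q`-th roots of everything are generated by one of `π`. -/
theorem exists_frobenius_coords [IsAdicComplete (maximalIdeal R) R] (hπ : Irreducible π) {q : ℕ} (hq : 0 < q)
    (hadd : ∀ x y : R, (x + y) ^ q = x ^ q + y ^ q) (x : R) :
    ∃ r : ℕ → R, x = ∑ i ∈ Finset.range q, π ^ i * r i ^ q := by
  classical
  choose r y hy using exists_digits (Q := q) hπ hq q
  let z : ℕ → R := fun k => y^[k] x
  let s : ℕ → ℕ → R := fun i k => ∑ j ∈ Finset.range k, π ^ j * r (z j) i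
  have hx : ∀ k, x = (∑ i ∈ Finset.range q, π ^ i * s i k ^ q) + π ^ (q * k) * z k := by
    intro k
    induction k with
    | zero => simp [s, z, zero_pow hq.ne']
    | succ k ih =>
      conv_lhs => rw [ih, hy (z k)]
      rw [show z (k + 1) = y (z k) from Function.iterate_succ_apply' y k x]
      simp only [s, Finset.sum_range_succ _ k, hadd, mul_pow, mul_add, Finset.sum_add_distrib, Finset.mul_sum]
      rw [mul_one, pow_add, add_assoc, mul_assoc]
      congr 2
      exact Finset.sum_congr rfl fun i _ => by rw [← pow_mul, mul_comm k q]; ring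
  have hm : π ∈ maximalIdeal R := hπ.maximalIdeal_eq ▸ Ideal.mem_span_singleton_self π
  have hcauchy : ∀ (i : ℕ) {k l : ℕ}, k ≤ l → s i k ≡ s i l [SMOD (maximalIdeal R ^ k • ⊤ : Submodule R R)] := by
    intro i k l hkl
    rw [SModEq.sub_mem, ← neg_sub, Submodule.neg_mem_iff,
      show s i l - s i k = ∑ j ∈ Finset.Ico k l, π ^ j * r (z j) i by rw [Finset.sum_Ico_eq_sub _ hkl]]
    refine sum_mem fun j hj => ?_
    rw [smul_eq_mul, Ideal.mul_top]
    exact Ideal.mul_mem_right _ _ (Ideal.pow_le_pow_right (Finset.mem_Ico.1 hj).1 (Ideal.pow_mem_pow hm j))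
  choose L hL using fun i => IsPrecomplete.prec' (I := maximalIdeal R) (fun k => s i k) (hcauchy i)
  refine ⟨L, sub_eq_zero.1 (IsHausdorff.haus' (I := maximalIdeal R) _ fun k => SModEq.zero.2 ?_)⟩
  rw [smul_eq_mul, Ideal.mul_top]
  have he : x - ∑ i ∈ Finset.range q, π ^ i * L i ^ q =
      (∑ i ∈ Finset.range q, π ^ i * (s i k - L i) ^ q) + π ^ (q * k) * z k := by
    have h1 : ∀ i, (s i k - L i) ^ q = s i k ^ q - L i ^ q := fun i => by
      rw [eq_sub_iff_add_eq, ← hadd, sub_add_cancel]
    conv_lhs => rw [hx k]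
    simp only [h1, mul_sub, Finset.sum_sub_distrib]
    ring
  rw [he]
  refine add_mem (sum_mem fun i _ => Ideal.mul_mem_left _ _ (Ideal.pow_mem_of_mem _ ?_ q hq))
    (Ideal.mul_mem_right _ _ (Ideal.pow_le_pow_right (Nat.le_mul_of_pos_left k hq) (Ideal.pow_mem_pow hm _)))
  have := SModEq.sub_mem.1 (hL i k)
  rwa [smul_eq_mul, Ideal.mul_top] at this

end Digits

/-- Separability after adjoining all `q`-th roots of the base. -/
theorem isSeparable_of_pow {p m : ℕ} (hp : p.Prime) {k Ω : Type u} [Field k] [Field Ω] [Algebra k Ω] [CharP Ω p]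
    (F : IntermediateField k Ω) (hroot : ∀ a : k, ∃ r ∈ F, r ^ p ^ m = algebraMap k Ω a) (x : Ω)
    (hx : IsSeparable k (x ^ p ^ m)) : IsSeparable F x := by
  classical
  haveI : Fact p.Prime := ⟨hp⟩
  haveI : ExpChar Ω p := ExpChar.prime hp
  haveI : CharP k p := (RingHom.charP_iff (algebraMap k Ω) (RingHom.injective _) p).2 inferInstance
  haveI : ExpChar k p := ExpChar.prime hp
  set θ := x ^ p ^ m
  have hmem : θ ∈ (IntermediateField.adjoin k {θ ^ p ^ m}).toSubalgebra := by
    show θ ∈ IntermediateField.adjoin k {θ ^ p ^ m}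
    rw [← IntermediateField.adjoin_simple_eq_adjoin_pow_expChar_pow_of_isSeparable k Ω hx p m]
    exact IntermediateField.mem_adjoin_simple_self k θ
  rw [IntermediateField.adjoin_simple_toSubalgebra_of_isAlgebraic (hx.isIntegral.pow _).isAlgebraic,
    Algebra.adjoin_singleton_eq_range_aeval] at hmem
  obtain ⟨P, hP : aeval (θ ^ p ^ m) P = θ⟩ := hmem
  choose r hr hrp using fun i => hroot (P.coeff i)
  have hxe : x = ∑ i ∈ Finset.range (P.natDegree + 1), r i * θ ^ i := by
    refine iterateFrobenius_inj Ω p m ?_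
    simp only [iterateFrobenius_def]
    rw [sum_pow_char_pow]
    show θ = _
    conv_lhs => rw [← hP, aeval_eq_sum_range]
    exact Finset.sum_congr rfl fun i _ => by rw [mul_pow, hrp, Algebra.smul_def, pow_right_comm]
  have hθ : θ ∈ separableClosure F Ω := mem_separableClosure_iff.2 (hx.tower_top F)
  rw [← mem_separableClosure_iff, hxe]
  exact sum_mem fun i _ => mul_mem ((separableClosure F Ω).algebraMap_mem (⟨r i, hr i⟩ : F)) (pow_mem hθ i)

section Twist

variable {p : ℕ} {A A' C : Type u} [CommRing A] [IsDomain A] [IsDiscreteValuationRing A]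
  [CommRing A'] [IsDomain A'] [IsDiscreteValuationRing A'] [CommRing C] [IsLocalRing C]
  [Algebra A C] [IsLocalHom (algebraMap A C)]

/-- Roots of the minimal polynomial of an element of the algebraically closed perfect kernel stay in it. -/
theorem root_mem_kernel (hp : p.Prime) {k κ : Type u} [Field k] [Field κ] [Algebra k κ] [CharP k p]
    (kc : Subfield κ) [IsAlgClosed kc] (hperf : ∀ x : κ, (∀ n : ℕ, ∃ y : κ, y ^ (p ^ n) = x) → x ∈ kc)
    (hsep : ∀ c ∈ kc, IsSeparable k c) {c z : κ} (hc : c ∈ kc) (hz : aeval z (minpoly k c) = 0) : z ∈ kc := by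
  haveI : Fact p.Prime := ⟨hp⟩
  haveI : ExpChar k p := ExpChar.prime hp
  refine hperf z fun n => ?_
  obtain ⟨⟨y, hy⟩, hyc⟩ := IsAlgClosed.exists_pow_nat_eq (⟨c, hc⟩ : kc) (pow_pos hp.pos n)
  have hyc' : y ^ p ^ n = c := congrArg Subtype.val hyc
  have hmem : y ∈ (IntermediateField.adjoin k {c}).toSubalgebra := by
    show y ∈ IntermediateField.adjoin k {c}
    rw [← hyc', ← IntermediateField.adjoin_simple_eq_adjoin_pow_expChar_pow_of_isSeparable k κ (hsep y hy) p n]
    exact IntermediateField.mem_adjoin_simple_self k y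
  rw [IntermediateField.adjoin_simple_toSubalgebra_of_isAlgebraic (hsep c hc).isIntegral.isAlgebraic,
    Algebra.adjoin_singleton_eq_range_aeval] at hmem
  obtain ⟨P, hP : aeval c P = y⟩ := hmem
  obtain ⟨e, he⟩ := minpoly.dvd k c (p := P ^ p ^ n - X) (by rw [map_sub, map_pow, hP, aeval_X, hyc', sub_self])
  refine ⟨aeval z P, sub_eq_zero.1 ?_⟩
  have := congrArg (aeval z) he
  rwa [map_sub, map_pow, aeval_X, map_mul, hz, zero_mul] at this

theorem aeval_residue (l : C) (P : A[X]) :
    residue C (aeval l P) = aeval (residue C l) (P.map (residue A)) := by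
  rw [aeval_def, aeval_def, eval₂_map, hom_eval₂]
  rfl

variable [HenselianLocalRing C] (Ω : Type u) [Field Ω] [Algebra C Ω] [Algebra A Ω] [IsScalarTower A C Ω]

set_option linter.overlappingInstances false in
/-- Approximations by polynomials in one Hensel root, valid at all conjugate roots. -/
theorem exists_twist (hp : p.Prime) [CharP (ResidueField A) p] (hinj : Function.Injective (algebraMap C Ω))
    (g : A' →+* C) [IsLocalHom g] (π₀ : A') (hπ₀ : Irreducible π₀) (a₀ : A) (ha₀ : g π₀ = algebraMap A C a₀)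
    [IsAlgClosed (ResidueField A')] (kc : Subfield (ResidueField C)) [IsAlgClosed kc]
    (hperf : ∀ x : ResidueField C, (∀ n : ℕ, ∃ y : ResidueField C, y ^ (p ^ n) = x) → x ∈ kc)
    (hkc : ∀ c ∈ kc, IsSeparable (ResidueField A) c ∧
      ((minpoly (ResidueField A) c).map (algebraMap (ResidueField A) (ResidueField C))).Splits)
    (hres : ∀ a, residue C (g a) ∈ kc) (hsurj : ∀ c ∈ kc, ∃ a, residue C (g a) = c) (n : ℕ) (s : Finset A') :
    ∃ (G : A[X]) (l₀ : C), G.Monic ∧ aeval l₀ G = 0 ∧
      (∀ y : Ω, aeval y G = 0 → ∃ l : C, algebraMap C Ω l = y ∧ aeval l G = 0) ∧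
      (∀ l : C, aeval l G = 0 → ∀ P : A[X], ∃ u : Cˣ, aeval l P = u * aeval l₀ P) ∧
      ∃ P : A' → A[X], (∀ a ∈ s, aeval l₀ (P a) - g a ∈ maximalIdeal C ^ n) ∧
        ∀ l : C, aeval l G = 0 → ∀ a ∈ s, ∃ a', aeval l (P a) - g a' ∈ maximalIdeal C ^ n := by
  classical
  set k := ResidueField A with hk
  set κ := ResidueField C with hκ
  haveI : CharP (ResidueField C) p :=
    charP_of_injective_algebraMap (algebraMap (ResidueField A) (ResidueField C)).injective p
  have hpC : (p : C) ∈ maximalIdeal C := by rw [← residue_eq_zero_iff, map_natCast, CharP.cast_eq_zero]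
  choose b d hbd using fun a => exists_digits hπ₀ (Q := p ^ n) (pow_pos hp.pos n) n a
  let cs : Finset (ResidueField C) := (s ×ˢ Finset.range n).image fun x => residue C (g (b x.1 x.2))
  have hcs : ∀ c ∈ cs, c ∈ kc := fun c hc => by
    obtain ⟨x, -, rfl⟩ := Finset.mem_image.1 hc
    exact hres _
  let q : k[X] := ∏ c ∈ cs, minpoly k c
  have hqsp : (q.map (algebraMap k κ)).Splits := by
    rw [Polynomial.map_prod]
    exact Splits.prod fun c hc => (hkc c (hcs c hc)).2
  let E : IntermediateField k κ := IntermediateField.adjoin k (q.rootSet κ)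
  haveI : IsSplittingField k E q := IntermediateField.adjoin_rootSet_isSplittingField hqsp
  haveI : Normal k E := Normal.of_isSplittingField q
  haveI : FiniteDimensional k E := IsSplittingField.finiteDimensional E q
  haveI : Algebra.IsSeparable k E := by
    refine (IntermediateField.isSeparable_adjoin_iff_isSeparable k κ).2 fun z hz => ?_
    obtain ⟨-, hz0⟩ := mem_rootSet'.1 hz
    rw [map_prod, Finset.prod_eq_zero_iff] at hz0
    obtain ⟨c, hc, hzc⟩ := hz0
    have hcsep := (hkc c (hcs c hc)).1
    have : minpoly k z = minpoly k c :=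
      (minpoly.eq_of_irreducible_of_monic (minpoly.irreducible hcsep.isIntegral) hzc (minpoly.monic hcsep.isIntegral)).symm
    show (minpoly k z).Separable
    rw [this]
    exact hcsep
  obtain ⟨c₀, hc₀⟩ := Field.exists_primitive_element k E
  have hc₀sep : IsSeparable k (c₀ : κ) := (Algebra.IsSeparable.isSeparable k c₀).map E.val (RingHom.injective _)
  have hc₀sp : ((minpoly k (c₀ : κ)).map (algebraMap k κ)).Splits := by
    rw [← IntermediateField.minpoly_eq, IsScalarTower.algebraMap_eq k E κ, ← Polynomial.map_map]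
    exact (Normal.splits inferInstance c₀).map _
  obtain ⟨G, l₀, hG, hGmap, hl₀, hl₀G, hroots⟩ := exists_hensel_lift A C Ω hinj (c₀ : κ) hc₀sep hc₀sp
  have hl₀G' : aeval l₀ G = 0 := hinj (by
    rw [← aeval_algebraMap_apply, map_zero]
    exact hl₀G)
  have hrootC : ∀ l : C, aeval l G = 0 → aeval (residue C l) (minpoly k (c₀ : κ)) = 0 := fun l hl => by
    rw [← hGmap, ← aeval_residue, hl, map_zero]
  refine ⟨G, l₀, hG, hl₀G', fun y hy => ?_, ?_, ?_⟩
  · obtain ⟨l, rfl⟩ := hroots y hy
    exact ⟨l, rfl, hinj (by rw [← aeval_algebraMap_apply, map_zero]; exact hy)⟩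
  · -- isometry
    obtain ⟨π, hπ⟩ := IsDiscreteValuationRing.exists_irreducible A
    intro l hl P
    have hmod : ∀ t : C, aeval t G = 0 → aeval t P = aeval t (P %ₘ G) := fun t ht => by
      conv_lhs => rw [← modByMonic_add_div P G]
      rw [map_add, map_mul, ht, zero_mul, add_zero]
    rw [hmod l hl, hmod l₀ hl₀G']
    rcases eq_or_ne (P %ₘ G) 0 with h0 | h0
    · exact ⟨1, by simp [h0]⟩
    have hprime : Prime (Polynomial.C π) := Polynomial.prime_C_iff.2 hπ.prime
    obtain ⟨j, q', hq', he⟩ := WfDvdMonoid.max_power_factor h0 hprime.irreducible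
    have hq0 : q'.map (residue A) ≠ 0 := fun h => hq' (C_dvd_iff_dvd_coeff _ _ |>.2 fun i => by
      have := congrArg (fun t => Polynomial.coeff t i) h
      rw [coeff_map, coeff_zero, residue_eq_zero_iff, hπ.maximalIdeal_eq, Ideal.mem_span_singleton] at this
      exact this)
    have hu : ∀ t : C, aeval t G = 0 → IsUnit (aeval t q') := by
      intro t ht
      refine notMem_maximalIdeal.1 fun hm => ?_
      rw [← residue_eq_zero_iff, aeval_residue] at hm
      have hmin : minpoly k (residue C t) = minpoly k (c₀ : κ) :=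
        (minpoly.eq_of_irreducible_of_monic (minpoly.irreducible hc₀sep.isIntegral) (hrootC t ht)
          (minpoly.monic hc₀sep.isIntegral)).symm
      have h1 : (minpoly k (c₀ : κ)).degree ≤ (q'.map (residue A)).degree :=
        hmin ▸ minpoly.degree_le_of_ne_zero k _ hq0 hm
      have h2 : (q'.map (residue A)).degree ≤ (P %ₘ G).degree := by
        refine degree_map_le.trans ?_
        rw [he, mul_comm]
        exact degree_le_mul_left _ (pow_ne_zero _ hprime.ne_zero)
      have h3 : (minpoly k (c₀ : κ)).degree = G.degree := by rw [← hGmap, hG.degree_map]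
      exact absurd (h3 ▸ h1.trans h2) (not_le.2 (degree_modByMonic_lt P hG))
    refine ⟨(hu l hl).unit * (hu l₀ hl₀G').unit⁻¹, ?_⟩
    rw [he, map_mul, map_mul, map_pow, map_pow, aeval_C, aeval_C, Units.val_mul,
      mul_left_comm, mul_assoc ((hu l hl).unit : C), IsUnit.val_inv_mul, mul_one, IsUnit.unit_spec]
  · -- approximations
    have hQ : ∀ c ∈ cs, ∃ Q : A[X], residue C (aeval l₀ Q) = c ∧
        ∀ l : C, aeval l G = 0 → residue C (aeval l Q) ∈ kc := by
      intro c hc
      have hcE : c ∈ E := IntermediateField.subset_adjoin k _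
        (mem_rootSet'.2 ⟨((monic_prod_of_monic _ _ fun c hc =>
          minpoly.monic (hkc c (hcs c hc)).1.isIntegral).map _).ne_zero, by
          rw [map_prod, Finset.prod_eq_zero_iff]; exact ⟨c, hc, minpoly.aeval k c⟩⟩)
      have hmem : (⟨c, hcE⟩ : E) ∈ (IntermediateField.adjoin k {c₀}).toSubalgebra := by
        show (⟨c, hcE⟩ : E) ∈ IntermediateField.adjoin k {c₀}
        rw [hc₀]; exact IntermediateField.mem_top
      rw [IntermediateField.adjoin_simple_toSubalgebra_of_isAlgebraic (Algebra.IsAlgebraic.isAlgebraic c₀),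
        Algebra.adjoin_singleton_eq_range_aeval] at hmem
      obtain ⟨Qb, hQb⟩ := hmem
      have hQb' : aeval (c₀ : κ) Qb = c := by
        rw [IntermediateField.aeval_coe]; exact congrArg Subtype.val hQb
      obtain ⟨Q, hQQ⟩ := map_surjective (residue A) residue_surjective Qb
      refine ⟨Q, by rw [aeval_residue, hQQ, hl₀, hQb'], fun l hl => ?_⟩
      rw [aeval_residue, hQQ]
      refine root_mem_kernel hp kc hperf (fun c hc => (hkc c hc).1) (hcs c hc) ?_
      obtain ⟨e, he⟩ := minpoly.dvd k (c₀ : κ) (p := (minpoly k c).comp Qb) (by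
        rw [aeval_comp, hQb', minpoly.aeval])
      have := congrArg (aeval (residue C l)) he
      rwa [aeval_comp, map_mul, hrootC l hl, zero_mul] at this
    choose! Q hQ₀ hQk using hQ
    have hmemcs : ∀ a ∈ s, ∀ i ∈ Finset.range n, residue C (g (b a i)) ∈ cs := fun a ha i hi =>
      Finset.mem_image.2 ⟨(a, i), Finset.mem_product.2 ⟨ha, hi⟩, rfl⟩
    have hgm : algebraMap A C a₀ ∈ maximalIdeal C := by
      rw [← ha₀]
      exact ((local_hom_TFAE g).out 0 2 rfl rfl).1 inferInstance (Ideal.mem_map_of_mem _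
        ((mem_maximalIdeal π₀).2 hπ₀.not_isUnit))
    let P : A' → A[X] := fun a => ∑ i ∈ Finset.range n, Polynomial.C a₀ ^ i * Q (residue C (g (b a i))) ^ p ^ n
    have hclose : ∀ (l : C) (a : A') (b' : ℕ → A'),
        (∀ i ∈ Finset.range n, residue C (aeval l (Q (residue C (g (b a i))))) = residue C (g (b' i))) →
        aeval l (P a) - g (∑ i ∈ Finset.range n, π₀ ^ i * b' i ^ p ^ n) ∈ maximalIdeal C ^ n := by
      intro l a b' h
      simp only [P, map_sum, map_mul, map_pow, aeval_C, ha₀, ← Finset.sum_sub_distrib, ← mul_sub]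
      refine sum_mem fun i hi => Ideal.mul_mem_left _ _ (Ideal.pow_le_pow_right n.le_succ (pow_pow_sub_mem hpC ?_ n))
      rw [← residue_eq_zero_iff, map_sub, h i hi, sub_self]
    refine ⟨P, fun a ha => ?_, fun l hl a ha => ?_⟩
    · have h1 := hclose l₀ a (b a) fun i hi => hQ₀ _ (hmemcs a ha i hi)
      rw [show g a = g (∑ i ∈ Finset.range n, π₀ ^ i * b a i ^ p ^ n) + g (π₀ ^ n * d a) by
        rw [← map_add, ← hbd a], ← sub_sub]
      refine sub_mem h1 ?_
      rw [map_mul, map_pow, ha₀]
      exact Ideal.mul_mem_right _ _ (Ideal.pow_mem_pow hgm n)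
    · choose! b' hb' using fun i (hi : i ∈ Finset.range n) => hsurj _ (hQk _ (hmemcs a ha i hi) l hl)
      exact ⟨_, hclose l a b' fun i hi => (hb' i hi).symm⟩

end Twist

end Groth.Agent.EppASH7
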