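import Groth.Agent.Lib.EppASH7.Assembly
import Groth.Agent.Lib.EppASH7.CohenDVR
import Groth.Agent.Lib.EppASH7.Twist
import Mathlib.RingTheory.Adjoin.Field
import Mathlib.RingTheory.LocalRing.ResidueField.Basic

/-!
# Reaching a complete field from a small base, and the test for weak solutions
-/

set_option autoImplicit false
set_option linter.style.haveILetI false

universe u

open IsLocalRing Polynomial

namespace Groth.Agent.EppASH7

/-- A finite normal subextension with the same values as a finite extension of the complete top is a weak solution. -/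
theorem weakSolution_of_pair {C K L Ω : Type u} [CommRing C] [IsDomain C] [IsDiscreteValuationRing C]
    [IsAdicComplete (maximalIdeal C) C] [Field K] [Field L] [Field Ω] [IsAlgClosed Ω]
    [Algebra C L] [IsFractionRing C L] [Algebra K L] [Algebra K Ω] [Algebra L Ω] [IsScalarTower K L Ω]
    [Algebra.IsAlgebraic L Ω] [Algebra C Ω] [IsScalarTower C L Ω] {W : ValuationSubring Ω}
    (hW : EtRam.Dominates C (algebraMap C Ω) W) (K₁ : IntermediateField K Ω) [Normal K K₁] [FiniteDimensional K K₁]
    (F : IntermediateField L Ω) (hsub : (K₁ : Set Ω) ⊆ F) (hvg : VG W (K₁ : Set Ω) (F : Set Ω)) :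
    EtRam.IsWeakSolution C K L K₁ := by
  intro M _ _ _ _ _ _ hgen W' hW'
  haveI : FiniteDimensional L M := EtRamH7.finite_of_adjoin_eq_top K L K₁ M hgen
  obtain ⟨σ⟩ : Nonempty (M →ₐ[L] Ω) := ⟨IsAlgClosed.lift⟩
  let τ : K₁ →ₐ[K] Ω := (σ.restrictScalars K).comp (IsScalarTower.toAlgHom K K₁ M)
  have hτ : ∀ y, y ∈ K₁ ↔ ∃ k, τ k = y := by
    intro y
    exact (iff_of_eq (congrArg (y ∈ ·) (AlgHom.fieldRange_of_normal τ))).symm.trans AlgHom.mem_fieldRange
  have hσF : ∀ x : M, σ x ∈ F := by
    intro x
    have hx : x ∈ Algebra.adjoin L (Set.range (algebraMap K₁ M)) := hgen ▸ Algebra.mem_top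
    induction hx using Algebra.adjoin_induction with
    | mem x hx =>
      obtain ⟨k, rfl⟩ := hx
      exact hsub ((hτ _).2 ⟨k, rfl⟩)
    | algebraMap m => rw [AlgHom.commutes]; exact F.algebraMap_mem m
    | add _ _ _ _ ha hb => rw [map_add]; exact F.add_mem ha hb
    | mul _ _ _ _ ha hb => rw [map_mul]; exact F.mul_mem ha hb
  obtain ⟨W'', hW''⟩ := EtRamH7.exists_comap_eq σ.toRingHom W'
  have hWeq : W'' = W := by
    refine valuationSubring_unique C L Ω W'' W ?_ hW
    have hc : σ.toRingHom.comp ((algebraMap L M).comp (algebraMap C L)) = algebraMap C Ω := by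
      refine RingHom.ext fun b => ?_
      show σ (algebraMap L M (algebraMap C L b)) = _
      rw [AlgHom.commutes, ← IsScalarTower.algebraMap_apply]
    rw [← hc]
    exact EtRamH7.dominates_trans hW' σ.toRingHom (hW'' ▸ EtRamH7.dominates_self_comap σ.toRingHom W'')
  subst hWeq
  let f : K₁ →+* M := algebraMap K₁ M
  show (maximalIdeal (W'.comap f)).map (EtRam.inclOfComap W' f) = maximalIdeal W'
  refine le_antisymm (((local_hom_TFAE (EtRam.inclOfComap W' f)).out 0 2 rfl rfl).1
    (EtRam.isLocalHom_inclOfComap W' f)) fun x hx => ?_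
  by_cases hx0 : (x : M) = 0
  · rw [show x = 0 from Subtype.ext hx0]; exact zero_mem _
  have hmemW : ∀ m : M, m ∈ W' ↔ W''.valuation (σ m) ≤ 1 := fun m => by
    rw [ValuationSubring.valuation_le_one_iff, ← hW'']
    rfl
  have hsx0 : σ x ≠ 0 := (_root_.map_ne_zero σ).2 hx0
  obtain ⟨y, hy, hye⟩ := hvg _ (hσF x) hsx0
  obtain ⟨k, rfl⟩ := (hτ y).1 hy
  have hk0 : W''.valuation (σ (f k)) ≠ 0 := by
    rw [show σ (f k) = τ k from rfl, ← hye]
    exact (_root_.map_ne_zero _).2 hsx0
  have hfk0 : f k ≠ 0 := fun h0 => hk0 (by rw [h0, map_zero, map_zero])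
  have hk1 : W''.valuation (σ (f k)) ≤ 1 := by
    rw [show σ (f k) = τ k from rfl, ← hye]
    exact (hmemW _).1 x.2
  let k' : W'.comap f := ⟨k, (hmemW _).2 hk1⟩
  have hq : (x : M) / f k ∈ W' := by
    rw [hmemW, map_div₀, map_div₀, show σ (f k) = τ k from rfl, ← hye, div_self ((_root_.map_ne_zero _).2 hsx0)]
  have hk' : k' ∈ maximalIdeal (W'.comap f) := by
    rw [mem_maximalIdeal] at hx ⊢
    intro hu
    refine hx ?_
    obtain ⟨v, hv⟩ := (hu.map (EtRam.inclOfComap W' f)).exists_right_inv
    have hv' : f k * (v : M) = 1 := congrArg Subtype.val hv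
    have hinv : (x : M)⁻¹ ∈ W' := by
      rw [hmemW, map_inv₀, map_inv₀, hye, show τ k = σ (f k) from rfl, ← map_inv₀, ← map_inv₀,
        ← eq_inv_of_mul_eq_one_right hv']
      exact (hmemW _).1 v.2
    exact IsUnit.of_mul_eq_one ⟨_, hinv⟩ (Subtype.ext (mul_inv_cancel₀ hx0))
  rw [show x = EtRam.inclOfComap W' f k' * ⟨_, hq⟩ from Subtype.ext (mul_div_cancel₀ _ hfk0).symm]
  exact Ideal.mul_mem_right _ _ (Ideal.mem_map_of_mem _ hk')

/-- A finite normal extension of the small field with equal values to a finite extension of the complete top. -/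
theorem exists_reach {p : ℕ} (hp : p.Prime) (A C K L Ω : Type u) [CommRing A] [IsDomain A] [IsDiscreteValuationRing A]
    [IsAdicComplete (maximalIdeal A) A] [CommRing C] [IsDomain C] [IsDiscreteValuationRing C]
    [IsAdicComplete (maximalIdeal C) C] [Algebra A C] [IsLocalHom (algebraMap A C)]
    (hinj : Function.Injective (algebraMap A C)) [IsAlgClosed (ResidueField A)] [CharP (ResidueField A) p]
    [Field K] [Field L] [Field Ω] [IsAlgClosed Ω] [Algebra A K] [IsFractionRing A K] [Algebra C L] [IsFractionRing C L]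
    [Algebra K L] [Algebra A L] [IsScalarTower A K L] [IsScalarTower A C L] [Algebra A Ω] [Algebra K Ω] [Algebra L Ω]
    [Algebra C Ω] [IsScalarTower A K Ω] [IsScalarTower K L Ω] [IsScalarTower C L Ω] [Algebra.IsAlgebraic L Ω]
    {W : ValuationSubring Ω} (hW : EtRam.Dominates C (algebraMap C Ω) W)
    (hk : ∀ x : ResidueField C, (∀ n : ℕ, ∃ y : ResidueField C, y ^ (p ^ n) = x) →
      x ∈ Set.range (algebraMap (ResidueField A) (ResidueField C))) :
    ∃ (K₁ : IntermediateField K Ω) (F : IntermediateField L Ω), Inv W K₁ F ∧ Normal K K₁ := by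
  classical
  haveI : Algebra.IsGeometricallyReduced (ResidueField A) (ResidueField C) := geomRed_of_perfectField _ _
  obtain ⟨⟨B, iB, iBl, iBA, iloc, hB, ⟨e⟩⟩, -⟩ := Groth.Agent.S2455.result (A := A) (ResidueField C)
  obtain ⟨iBd, hBv, hBinj⟩ := dvr_of_isCohenAlgebra hB
  haveI := iBd
  haveI : IsDiscreteValuationRing B := hBv
  haveI : IsAdicComplete (maximalIdeal B) B := hB.2.2.1
  have hw : EtRam.IsWeaklyUnramified A B := hB.2.2.2.2.1
  obtain ⟨v, hvl, hv⟩ := exists_lift_cohen (C := C) hB e.toRingHom (RingHom.ext fun x => by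
    obtain ⟨a, rfl⟩ := residue_surjective x
    exact e.commutes (residue A a))
  letI : Algebra B C := v.toRingHom.toAlgebra
  haveI : IsLocalHom (algebraMap B C) := hvl
  haveI : IsScalarTower A B C := IsScalarTower.of_algebraMap_eq fun a => (v.commutes a).symm
  obtain ⟨π, hπ⟩ := IsDiscreteValuationRing.exists_irreducible A
  have hπB : maximalIdeal B = Ideal.span {algebraMap A B π} := by
    rw [← hw, hπ.maximalIdeal_eq, Ideal.map_span, Set.image_singleton]
  have hπBirr : Irreducible (algebraMap A B π) := (IsDiscreteValuationRing.irreducible_iff_uniformizer _).2 hπB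
  have hBC : Function.Injective (algebraMap B C) := injective_of_local _ _ hπBirr (by
    rw [← IsScalarTower.algebraMap_apply]
    exact fun h0 => hπ.ne_zero (hinj (h0.trans (map_zero _).symm)))
  -- `C` is finite over `B`
  haveI : Module.Finite B C := by
    obtain ⟨ϖ, hϖ⟩ := IsDiscreteValuationRing.exists_irreducible C
    obtain ⟨k, u, hu⟩ := IsDiscreteValuationRing.eq_unit_mul_pow_irreducible
      (x := algebraMap A C π) (fun h0 => hπ.ne_zero (hinj (h0.trans (map_zero _).symm))) hϖ
    have hstep : ∀ (j : ℕ) (x : C), ∃ (b : ℕ → B) (y : C),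
        x = (∑ i ∈ Finset.range j, algebraMap B C (b i) * ϖ ^ i) + ϖ ^ j * y := by
      intro j
      induction j with
      | zero => exact fun x => ⟨fun _ => 0, x, by simp⟩
      | succ j ih =>
        intro x
        obtain ⟨b, y, hxy⟩ := ih x
        obtain ⟨d, hd⟩ := residue_surjective (e.symm (residue C y))
        have hm : y - algebraMap B C d ∈ maximalIdeal C := by
          rw [← residue_eq_zero_iff, map_sub, show residue C (algebraMap B C d) = e (residue B d) from hv d, hd,
            e.apply_symm_apply, sub_self]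
        rw [hϖ.maximalIdeal_eq, Ideal.mem_span_singleton] at hm
        obtain ⟨z, hz⟩ := hm
        refine ⟨Function.update b j d, z, ?_⟩
        rw [Finset.sum_range_succ, Function.update_self, Finset.sum_congr rfl fun i hi => by
          rw [Function.update_of_ne (Finset.mem_range.1 hi).ne], hxy, sub_eq_iff_eq_add'.1 hz]
        ring
    haveI : IsHausdorff (maximalIdeal B) C := by
      refine ⟨fun x hx => IsHausdorff.haus' (I := maximalIdeal C) x fun n => SModEq.zero.2 ?_⟩
      rw [smul_eq_mul, Ideal.mul_top]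
      have h1 := SModEq.zero.1 (hx n)
      refine Submodule.smul_induction_on h1 (fun r hr y _ => ?_) fun a b ha hb => add_mem ha hb
      rw [Algebra.smul_def]
      refine Ideal.mul_mem_right _ _ (Ideal.pow_right_mono
        (((local_hom_TFAE (algebraMap B C)).out 0 2 rfl rfl).1 inferInstance) n ?_)
      rw [← Ideal.map_pow]
      exact Ideal.mem_map_of_mem _ hr
    refine ⟨⟨Finset.univ.image fun i : Fin k => ϖ ^ (i : ℕ), top_le_iff.1 fun x _ => ?_⟩⟩
    have h := finite_of_span_add_pi (R := B) (algebraMap A B π) (hπB ▸ Ideal.mem_span_singleton_self _)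
      (fun i : ULift.{u} (Fin k) => ϖ ^ (i.down : ℕ)) (fun x => by
        obtain ⟨b, y, hxy⟩ := hstep k x
        refine ⟨fun i => b i.down, (↑u⁻¹ : C) * y, ?_⟩
        rw [hxy, Algebra.smul_def, ← IsScalarTower.algebraMap_apply, hu]
        congr 1
        · rw [← Equiv.ulift.symm.sum_comp, ← Fin.sum_univ_eq_sum_range (fun i => algebraMap B C (b i) * ϖ ^ i)]
          exact Finset.sum_congr rfl fun i _ => (Algebra.smul_def _ _).symm
        · rw [mul_assoc, mul_left_comm _ (↑u⁻¹ : C), ← mul_assoc, ← mul_assoc, Units.mul_inv, one_mul]) x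
    refine Submodule.span_mono (fun z hz => ?_) h
    obtain ⟨i, rfl⟩ := hz
    exact Finset.mem_coe.2 (Finset.mem_image.2 ⟨i.down, Finset.mem_univ _, rfl⟩)
  -- fraction field of `B`
  let LB := FractionRing B
  have hBL : Function.Injective (algebraMap C L ∘ algebraMap B C) := (IsFractionRing.injective C L).comp hBC
  letI : Algebra B L := ((algebraMap C L).comp (algebraMap B C)).toAlgebra
  haveI : IsScalarTower B C L := IsScalarTower.of_algebraMap_eq fun _ => rfl
  letI : Algebra LB L := (IsFractionRing.lift (K := LB) (g := algebraMap B L) hBL).toAlgebra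
  haveI : IsScalarTower B LB L := IsScalarTower.of_algebraMap_eq fun b => (IsFractionRing.lift_algebraMap hBL b).symm
  letI : Algebra LB Ω := ((algebraMap L Ω).comp (algebraMap LB L)).toAlgebra
  haveI : IsScalarTower LB L Ω := IsScalarTower.of_algebraMap_eq fun _ => rfl
  letI : Algebra B Ω := ((algebraMap L Ω).comp (algebraMap B L)).toAlgebra
  haveI : IsScalarTower B LB Ω := IsScalarTower.of_algebraMap_eq fun b =>
    congrArg (algebraMap L Ω) (IsScalarTower.algebraMap_apply B LB L b)
  haveI : IsScalarTower B C Ω := IsScalarTower.of_algebraMap_eq fun b =>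
    (IsScalarTower.algebraMap_apply C L Ω (algebraMap B C b)).symm
  have hAB : Function.Injective (algebraMap A B) := hBinj
  have hALB : Function.Injective (algebraMap A LB) := by
    rw [IsScalarTower.algebraMap_eq A B LB]
    exact (IsFractionRing.injective B LB).comp hAB
  letI : Algebra K LB := (IsFractionRing.lift (K := K) hALB).toAlgebra
  haveI : IsScalarTower A K LB := IsScalarTower.of_algebraMap_eq fun a => (IsFractionRing.lift_algebraMap hALB a).symm
  have hKL : (algebraMap LB L).comp (algebraMap K LB) = algebraMap K L := IsLocalization.ringHom_ext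
    (nonZeroDivisors A) (RingHom.ext fun a => by
      show algebraMap LB L (algebraMap K LB (algebraMap A K a)) = algebraMap K L (algebraMap A K a)
      rw [← IsScalarTower.algebraMap_apply A K LB, IsScalarTower.algebraMap_apply A B LB,
        ← IsScalarTower.algebraMap_apply B LB L, IsScalarTower.algebraMap_apply B C L,
        ← IsScalarTower.algebraMap_apply A B C, ← IsScalarTower.algebraMap_apply A C L,
        ← IsScalarTower.algebraMap_apply A K L])
  haveI : IsScalarTower K LB Ω := IsScalarTower.of_algebraMap_eq fun x => by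
    rw [IsScalarTower.algebraMap_apply K L Ω, ← hKL]
    rfl
  haveI : IsScalarTower A B Ω := IsScalarTower.of_algebraMap_eq fun a => by
    rw [IsScalarTower.algebraMap_apply A K Ω, IsScalarTower.algebraMap_apply K L Ω,
      ← IsScalarTower.algebraMap_apply A K L, IsScalarTower.algebraMap_apply A C L,
      IsScalarTower.algebraMap_apply A B C]
    rfl
  obtain ⟨t, ht⟩ := (Module.Finite.fg_top (R := B) (M := C))
  let Lt : IntermediateField LB L := IntermediateField.adjoin LB (algebraMap C L '' (t : Set C))
  haveI : Finite (algebraMap C L '' (t : Set C)) := (t.finite_toSet.image _).to_subtype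
  haveI : FiniteDimensional LB Lt := IntermediateField.finiteDimensional_adjoin fun x hx => by
    obtain ⟨c, -, rfl⟩ := hx
    have h1 : IsIntegral B c := Algebra.IsIntegral.isIntegral c
    exact (h1.map (IsScalarTower.toAlgHom B C L)).tower_top
  have hCt : ∀ c : C, algebraMap C L c ∈ Lt := by
    intro c
    have hc : c ∈ Submodule.span B (t : Set C) := ht ▸ Submodule.mem_top
    induction hc using Submodule.span_induction with
    | mem x hx => exact IntermediateField.subset_adjoin LB _ ⟨x, hx, rfl⟩
    | zero => rw [map_zero]; exact zero_mem _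
    | add x y _ _ hx hy => rw [map_add]; exact add_mem hx hy
    | smul b x _ hx =>
      rw [Algebra.smul_def, map_mul, ← IsScalarTower.algebraMap_apply, IsScalarTower.algebraMap_apply B LB L]
      exact mul_mem (Lt.algebraMap_mem _) hx
  have hLt : Lt = ⊤ := top_le_iff.1 fun l _ => by
    obtain ⟨c, d, -, rfl⟩ := IsFractionRing.div_surjective (A := C) l
    exact div_mem (hCt c) (hCt d)
  haveI : FiniteDimensional LB (⊤ : IntermediateField LB L) := hLt ▸ (inferInstance : FiniteDimensional LB Lt)
  haveI : FiniteDimensional LB L :=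
    LinearEquiv.finiteDimensional (IntermediateField.topEquiv (F := LB) (E := L)).toLinearEquiv
  haveI : Algebra.IsAlgebraic LB Ω := Algebra.IsAlgebraic.trans LB L Ω
  have hWB : EtRam.Dominates B (algebraMap B Ω) W := by
    rw [IsScalarTower.algebraMap_eq B C Ω]
    exact ⟨fun b => hW.1 _, fun b hb => hW.2 _
      (((local_hom_TFAE (algebraMap B C)).out 0 2 rfl rfl).1 inferInstance (Ideal.mem_map_of_mem _ hb))⟩
  have S : Setting p A B K LB Ω W := ⟨hp, hWB, inferInstance, inferInstance, inferInstance, fun x hx => by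
    obtain ⟨a, ha⟩ := hk (e x) fun n => (hx n).imp' e fun y hy => by rw [← map_pow, hy]
    refine ⟨a, e.injective ?_⟩
    rw [← ha]
    exact e.commutes a⟩
  let bs := Module.finBasis LB L
  obtain ⟨K₁, F₁, h, hn, hs⟩ := S.reach_finset hw (Finset.univ.image fun i => algebraMap L Ω (bs i))
  haveI := h.finK
  haveI := h.finF
  have hL : ∀ l : L, algebraMap L Ω l ∈ F₁ := fun l => by
    rw [← bs.sum_repr l, map_sum]
    refine sum_mem fun i _ => ?_
    rw [Algebra.smul_def, map_mul, ← IsScalarTower.algebraMap_apply]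
    exact F₁.mul_mem (F₁.algebraMap_mem _) (hs _ (Finset.mem_image_of_mem _ (Finset.mem_univ i)))
  let b₁ := Module.finBasis LB F₁
  let F : IntermediateField L Ω := IntermediateField.adjoin L (Set.range fun i => (b₁ i : Ω))
  have hFle : (F₁ : Set Ω) ⊆ F := fun x hx => by
    have h1 : ((⟨x, hx⟩ : F₁) : Ω) = ∑ i, b₁.repr ⟨x, hx⟩ i • (b₁ i : Ω) := by
      conv_lhs => rw [← b₁.sum_repr ⟨x, hx⟩]
      push_cast
      rfl
    show ((⟨x, hx⟩ : F₁) : Ω) ∈ F
    rw [h1]
    refine sum_mem fun i _ => ?_
    rw [Algebra.smul_def, IsScalarTower.algebraMap_apply LB L Ω]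
    exact mul_mem (F.algebraMap_mem _) (IntermediateField.subset_adjoin L _ ⟨i, rfl⟩)
  have hleF : (F : Set Ω) ⊆ F₁ := fun x hx => by
    induction hx using IntermediateField.adjoin_induction with
    | mem x hx => obtain ⟨i, rfl⟩ := hx; exact (b₁ i).2
    | algebraMap l => exact hL l
    | add _ _ _ _ ha hb => exact F₁.add_mem ha hb
    | inv _ _ ha => exact F₁.inv_mem ha
    | mul _ _ _ _ ha hb => exact F₁.mul_mem ha hb
  haveI : FiniteDimensional L F :=
    IntermediateField.finiteDimensional_adjoin fun x _ => (Algebra.IsAlgebraic.isAlgebraic x).isIntegral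
  exact ⟨K₁, F, ⟨h.finK, inferInstance, h.sub.trans hFle, h.vg.mono hleF⟩, hn⟩

end Groth.Agent.EppASH7
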