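import Groth.Agent.Lib.EppASH7.Form
import Groth.Agent.Lib.EppASH7.KummerNormal

/-!
# The complete setting: residues, coefficient steps and the final criterion
-/

set_option autoImplicit false
set_option linter.style.haveILetI false
set_option linter.unusedSectionVars false

universe u

open IsLocalRing Polynomial

namespace Groth.Agent.EppASH7

/-- The data of a complete weakly unramified extension inside an algebraic closure. -/
structure Setting (p : ℕ) (A B K L Ω : Type u) [CommRing A] [IsDomain A] [IsDiscreteValuationRing A]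
    [CommRing B] [IsDomain B] [IsDiscreteValuationRing B] [Algebra A B] [Field K] [Field L] [Field Ω]
    [Algebra A K] [Algebra B L] [Algebra K L] [Algebra A L] [Algebra K Ω] [Algebra L Ω] [Algebra A Ω]
    [Algebra B Ω] (W : ValuationSubring Ω) : Prop where
  hp : p.Prime
  dom : EtRam.Dominates B (algebraMap B Ω) W
  localHom : IsLocalHom (algebraMap A B)
  char : CharP (ResidueField A) p
  closed : IsAlgClosed (ResidueField A)
  hk : ∀ x : ResidueField B, (∀ n : ℕ, ∃ y : ResidueField B, y ^ (p ^ n) = x) →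
    x ∈ Set.range (ResidueField.map (algebraMap A B))

variable {p : ℕ} {A B K L Ω : Type u} [CommRing A] [IsDomain A] [IsDiscreteValuationRing A]
  [CommRing B] [IsDomain B] [IsDiscreteValuationRing B] [Algebra A B] [Field K] [Field L] [Field Ω]
  [Algebra A K] [IsFractionRing A K] [Algebra B L] [IsFractionRing B L] [Algebra K L] [Algebra A L]
  [Algebra K Ω] [Algebra L Ω] [Algebra A Ω] [Algebra B Ω]
  [IsScalarTower A K L] [IsScalarTower A B L] [IsScalarTower K L Ω] [IsScalarTower A K Ω]
  [IsScalarTower B L Ω] [IsScalarTower A B Ω] {W : ValuationSubring Ω}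

theorem Setting.domA (S : Setting p A B K L Ω W) : EtRam.Dominates A (algebraMap A Ω) W := by
  haveI := S.localHom
  rw [IsScalarTower.algebraMap_eq A B Ω]
  exact ⟨fun a => S.dom.1 _, fun a ha => S.dom.2 _
    (((local_hom_TFAE (algebraMap A B)).out 0 2 rfl rfl).1 inferInstance (Ideal.mem_map_of_mem _ ha))⟩

theorem Setting.p_lt (S : Setting p A B K L Ω W) : W.valuation (p : Ω) < 1 := by
  haveI := S.char
  rw [← map_natCast (algebraMap A Ω)]
  exact S.domA.2 _ (by rw [← residue_eq_zero_iff, map_natCast, CharP.cast_eq_zero])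

/-- A coefficient of the top: constant from `A` up to the uniformizer, or a high power of a stable one. -/
theorem Setting.step (S : Setting p A B K L Ω W) {K₁ : IntermediateField K Ω} {F : IntermediateField L Ω}
    [FiniteDimensional L F] (π : W.comap (algebraMap F Ω)) (hπ : Irreducible π)
    (c : W.comap (algebraMap F Ω)) (hc : ¬ ∀ r, residue _ c ≠ residue _ r ^ p) :
    (∃ a ∈ K₁.toSubring.comap ((algebraMap F Ω).comp (W.comap (algebraMap F Ω)).subtype), ∃ d, c = a + π * d) ∨
      ∃ (m : ℕ) (r d : W.comap (algebraMap F Ω)), 0 < m ∧ (∀ r', residue _ r ≠ residue _ r' ^ p) ∧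
        c = r ^ p ^ m + π * d := by
  haveI := S.localHom
  haveI := S.char
  haveI := S.closed
  let VF := W.comap (algebraMap F Ω)
  haveI : IsDiscreteValuationRing VF := dvr_restrict W S.dom F
  have hdF : EtRam.Dominates B (algebraMap B F) VF := dominates_restrict W S.dom F
  letI : Algebra B VF := (RingHom.codRestrict (algebraMap B F) VF hdF.1).toAlgebra
  haveI : IsLocalHom (algebraMap B VF) := EtRamH7.isLocalHom_cod hdF
  haveI : IsScalarTower B VF F := IsScalarTower.of_algebraMap_eq fun _ => rfl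
  letI : Algebra A VF := ((algebraMap B VF).comp (algebraMap A B)).toAlgebra
  haveI : IsScalarTower A B VF := IsScalarTower.of_algebraMap_eq fun _ => rfl
  haveI : IsLocalHom (algebraMap A VF) :=
    inferInstanceAs (IsLocalHom ((algebraMap B VF).comp (algebraMap A B)))
  haveI : Module.Finite (ResidueField B) (ResidueField VF) :=
    (Groth.Agent.S7132.result B VF L F
      (EtRamH7.injective_cod B L F _ (IsScalarTower.algebraMap_eq B L F) VF hdF.1)).1
  haveI : IsScalarTower (ResidueField A) (ResidueField B) (ResidueField VF) := IsScalarTower.of_algebraMap_eq fun x => by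
    obtain ⟨a, rfl⟩ := residue_surjective x
    rfl
  haveI : CharP (ResidueField B) p :=
    charP_of_injective_algebraMap (algebraMap (ResidueField A) (ResidueField B)).injective p
  have hkF : ∀ x : ResidueField VF, (∀ n : ℕ, ∃ y : ResidueField VF, y ^ (p ^ n) = x) ↔
      x ∈ Set.range (algebraMap (ResidueField A) (ResidueField VF)) := by
    refine fun x => ⟨perfectKernel_finite S.hp (ResidueField A) (ResidueField B) (ResidueField VF) S.hk x, ?_⟩
    rintro ⟨a, rfl⟩ n
    obtain ⟨b, hb⟩ := IsAlgClosed.exists_pow_nat_eq a (pow_pos S.hp.pos n)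
    exact ⟨algebraMap _ _ b, by rw [← map_pow, hb]⟩
  rcases coeff_step A VF hkF π hπ.maximalIdeal_eq c hc with ⟨_, ⟨a, rfl⟩, d, hd⟩ | h
  · refine Or.inl ⟨algebraMap A VF a, ?_, d, hd⟩
    show algebraMap B Ω (algebraMap A B a) ∈ K₁
    rw [← IsScalarTower.algebraMap_apply A B Ω, IsScalarTower.algebraMap_apply A K Ω]
    exact K₁.algebraMap_mem _
  · exact Or.inr h

/-- A stable leading coefficient in the top, after a base change which keeps residues, gives no new values. -/
theorem Setting.vg_of_top (S : Setting p A B K L Ω W) [Algebra.IsAlgebraic L Ω] {F F₂ : IntermediateField L Ω}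
    [FiniteDimensional L F₂] (hFF : F ≤ F₂)
    (hres : ∀ x ∈ F₂, x ∈ W → ∃ a ∈ F, a ∈ W ∧ W.valuation (x - a) < 1)
    (P : (W.comap (algebraMap F₂ Ω))[X]) (hP : P.Monic) (hPd : P.natDegree = p)
    (hPr : P.map (residue _) = X ^ p - X) (y : Ω) (η : F₂)
    (hy : P.eval₂ ((algebraMap F₂ Ω).comp (W.comap (algebraMap F₂ Ω)).subtype) y = η)
    (x : F₂) (hxV : x ∈ W.comap (algebraMap F₂ Ω)) (hxlt : (W.comap (algebraMap F₂ Ω)).valuation x < 1) (hx0 : x ≠ 0)
    (d : ℕ) (hd : 0 < d) (hpd : p ∣ d) (Q : (W.comap (algebraMap F Ω))[X])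
    (hQ : Top (fun c => ∀ r, residue _ c ≠ residue _ r ^ p) Q)
    (hη : η - Q.eval₂ ((IntermediateField.inclusion hFF).toRingHom.comp (W.comap (algebraMap F Ω)).subtype) (x⁻¹ ^ d) ∈
      W.comap (algebraMap F₂ Ω)) :
    VG W (F₂ : Set Ω) (adj F₂ y : Set Ω) := by
  let VF := W.comap (algebraMap F Ω)
  let V₂ := W.comap (algebraMap F₂ Ω)
  let j : VF →+* F₂ := (IntermediateField.inclusion hFF).toRingHom.comp VF.subtype
  have hdom : EtRam.Dominates VF j V₂ :=
    EtRamH7.dominates_comap (algebraMap F₂ Ω) (EtRamH7.dominates_self_comap (algebraMap F Ω) W)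
  have hsurj : Function.Surjective fun b : VF => residue V₂ (RingHom.codRestrict j V₂ hdom.1 b) := by
    intro r
    obtain ⟨v, rfl⟩ := residue_surjective r
    obtain ⟨a, haF, haW, hlt⟩ := hres _ (v : F₂).2 v.2
    refine ⟨⟨⟨a, haF⟩, haW⟩, ?_⟩
    rw [← sub_eq_zero, ← map_sub, residue_eq_zero_iff, mem_maximalIdeal]
    intro hu
    have h1 := (W.valuation_eq_one_iff (EtRam.inclOfComap W (algebraMap F₂ Ω) _)).1 (hu.map (EtRam.inclOfComap W (algebraMap F₂ Ω)))
    refine hlt.ne ?_
    rw [← h1, ← W.valuation.map_sub_swap]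
    rfl
  refine vg_of_form W S.dom S.hp S.p_lt F₂ P hP hPd hPr y η hy ?_
  rcases case_of_top S.hp j V₂ hdom hsurj x x 1 hxV hxlt hx0 1 one_pos (by rw [pow_one, mul_one]) V₂.one_mem
    (by rw [inv_one]; exact V₂.one_mem) d hd hpd Q hQ η hη with h | ⟨e, a, he, ⟨e', rfl⟩, ha, hna⟩
  · exact Or.inl h
  · refine Or.inr ⟨⟨x, hxV⟩ ^ e', a, ?_, ?_, ?_, hna⟩
    · exact pow_ne_zero _ hx0
    · exact Ideal.pow_mem_of_mem _ ((V₂.valuation_lt_one_iff _).2 hxlt) _ (Nat.pos_of_mul_pos_left he)
    · rw [ha]; push_cast; rw [← pow_mul, mul_comm p]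

end Groth.Agent.EppASH7
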