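import Groth.Agent.Lib.EppASH7.NormalForm

/-!
# Principal parts in a root of a uniformizer: shifts and products
-/

set_option autoImplicit false
set_option linter.style.haveILetI false

universe u

open Polynomial IsLocalRing

namespace Groth.Agent.EppASH7

variable (p : ℕ) {B : Type u} [CommRing B] (π : B)

/-- `x ^ (p ^ N) = π` in a valuation ring dominating `B`. -/
structure RealizesExact (N : ℕ) {F : Type u} [Field F] (ι : B →+* F) (x : F) (V : ValuationSubring F) : Prop where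
  mem : ∀ b, ι b ∈ V
  x_mem : x ∈ V
  x_lt : V.valuation x < 1
  x_ne : x ≠ 0
  eq : x ^ (p ^ N) = ι π

/-- Multiply by `π ^ k`, dropping integral terms. -/
noncomputable def sh (M k : ℕ) (P : B[X]) : B[X] :=
  ∑ i ∈ Finset.range (P.natDegree + 1), if k * p ^ M < i then monomial (i - k * p ^ M) (P.coeff i) else 0

variable {p π}

theorem natDegree_sh (M k : ℕ) (P : B[X]) : (sh p M k P).natDegree ≤ P.natDegree - k * p ^ M := by
  refine natDegree_sum_le_of_forall_le _ _ fun i hi => ?_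
  have := Finset.mem_range.1 hi
  split_ifs
  · exact (natDegree_monomial_le _).trans (by omega)
  · simp

theorem RealizesExact.mul_inv_pow_mem {N : ℕ} {F : Type u} [Field F] {ι : B →+* F} {x : F} {V : ValuationSubring F}
    (h : RealizesExact p π N ι x V) {n k : ℕ} (hk : k ≤ n * p ^ N) : ι π ^ n * x⁻¹ ^ k ∈ V := by
  obtain ⟨j, hj⟩ := Nat.exists_eq_add_of_le hk
  rw [← h.eq, ← pow_mul, mul_comm (p ^ N) n, hj, pow_add, mul_right_comm, ← mul_pow, mul_inv_cancel₀ h.x_ne,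
    one_pow, one_mul]
  exact pow_mem h.x_mem j

theorem RealizesExact.sh_spec {N M : ℕ} (hM : M ≤ N) {F : Type u} [Field F] {ι : B →+* F} {x : F}
    {V : ValuationSubring F} (h : RealizesExact p π N ι x V) (k : ℕ) (P : B[X]) :
    ι π ^ k * ev p N M ι x P - ev p N M ι x (sh p M k P) ∈ V := by
  have hq : p ^ (N - M) * p ^ M = p ^ N := by rw [← pow_add, Nat.sub_add_cancel hM]
  set t := x⁻¹ ^ p ^ (N - M) with ht
  show ι π ^ k * P.eval₂ ι t - (sh p M k P).eval₂ ι t ∈ V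
  rw [sh, eval₂_finsetSum, eval₂_eq_sum_range, Finset.mul_sum, ← Finset.sum_sub_distrib]
  refine sum_mem fun i _ => ?_
  split_ifs with hi
  · obtain ⟨j, hj⟩ := Nat.exists_eq_add_of_le hi.le
    rw [eval₂_monomial, hj, Nat.add_sub_cancel_left, pow_add]
    have h1 : ι π ^ k * t ^ (k * p ^ M) = 1 := by
      rw [← h.eq, ht, ← pow_mul, ← pow_mul, mul_left_comm, hq, mul_comm k, ← mul_pow, mul_inv_cancel₀ h.x_ne, one_pow]
    rw [show ι π ^ k * (ι (P.coeff (k * p ^ M + j)) * (t ^ (k * p ^ M) * t ^ j)) -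
      ι (P.coeff (k * p ^ M + j)) * t ^ j =
      ι (P.coeff (k * p ^ M + j)) * t ^ j * (ι π ^ k * t ^ (k * p ^ M) - 1) by ring, h1, sub_self, mul_zero]
    exact V.zero_mem
  · rw [eval₂_zero, sub_zero, mul_left_comm, ht, ← pow_mul]
    refine mul_mem (h.mem _) (h.mul_inv_pow_mem ?_)
    rw [← hq, mul_left_comm]
    exact Nat.mul_le_mul_left _ (not_lt.1 hi)

theorem RealizesExact.small {N M : ℕ} (hM : M ≤ N) {F : Type u} [Field F] {ι : B →+* F} {x : F}
    {V : ValuationSubring F} (h : RealizesExact p π N ι x V) {n : ℕ} {P : B[X]} (hP : P.natDegree ≤ n * p ^ M) :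
    ι π ^ n * ev p N M ι x P ∈ V := by
  have hq : p ^ (N - M) * p ^ M = p ^ N := by rw [← pow_add, Nat.sub_add_cancel hM]
  show ι π ^ n * P.eval₂ ι (x⁻¹ ^ p ^ (N - M)) ∈ V
  rw [eval₂_eq_sum_range, Finset.mul_sum]
  refine sum_mem fun i hi => ?_
  rw [mul_left_comm, ← pow_mul]
  refine mul_mem (h.mem _) (h.mul_inv_pow_mem ?_)
  rw [← hq, mul_left_comm]
  exact Nat.mul_le_mul_left _ ((Nat.lt_succ_iff.1 (Finset.mem_range.1 hi)).trans hP)

theorem isUnit_one_add {F : Type u} [Field F] {V : ValuationSubring F} {y : F} (hy : y ∈ V) (hm : V.valuation y < 1) :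
    (1 + y) ≠ 0 ∧ (1 + y)⁻¹ ∈ V := by
  let y' : V := ⟨y, hy⟩
  have hu : IsUnit (1 + y') := IsLocalRing.notMem_maximalIdeal.1 fun h1 => by
    have := (maximalIdeal V).sub_mem h1 ((V.valuation_lt_one_iff y').2 hm)
    rw [add_sub_cancel_right] at this
    exact (mem_maximalIdeal _).1 this isUnit_one
  obtain ⟨v, hv⟩ := hu.exists_right_inv
  have hv' : (1 + y) * (v : F) = 1 := congrArg Subtype.val hv
  exact ⟨left_ne_zero_of_mul_eq_one hv', by rw [← eq_inv_of_mul_eq_one_right hv']; exact v.2⟩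

theorem RealizesExact.w_small {N M : ℕ} (hp : p ≠ 0) (hM : M ≤ N) {F : Type u} [Field F] {ι : B →+* F} {x : F}
    {V : ValuationSubring F} (h : RealizesExact p π N ι x V) {P₀ n : ℕ} {u w : B} (hw : w = π ^ P₀ * u)
    (hn : n + 2 ≤ P₀) {P : B[X]} (hP : P.natDegree ≤ (n + 1) * p ^ M) :
    (∃ r ∈ V, ι w * ev p N M ι x P = ι π * r) ∧ ι w * ev p N M ι x P ∈ V ∧
      V.valuation (ι w * ev p N M ι x P) < 1 := by
  obtain ⟨j, rfl⟩ := Nat.exists_eq_add_of_le hn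
  have h2 : ι u * ι π ^ j * (ι π ^ (n + 1) * ev p N M ι x P) ∈ V :=
    mul_mem (mul_mem (h.mem _) (pow_mem (h.mem _) _)) (h.small hM hP)
  have he : ι w * ev p N M ι x P = ι π * (ι u * ι π ^ j * (ι π ^ (n + 1) * ev p N M ι x P)) := by
    rw [hw, map_mul, map_pow]; ring
  refine ⟨⟨_, h2, he⟩, he ▸ mul_mem (h.mem _) h2, ?_⟩
  obtain ⟨i, hi⟩ : ∃ i, p ^ N = i + 1 := Nat.exists_eq_add_one.2 (pow_pos (Nat.pos_of_ne_zero hp) N)
  rw [he, show ι π * (ι u * ι π ^ j * (ι π ^ (n + 1) * ev p N M ι x P)) = x ^ (p ^ N) * (ι u * ι π ^ j * (ι π ^ (n + 1) * ev p N M ι x P)) by rw [h.eq]]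
  exact (V.valuation_lt_one_iff (⟨_, mul_mem (pow_mem h.x_mem _) h2⟩ : V)).1
    (Ideal.mul_mem_right (⟨_, h2⟩ : V) _ (show (⟨x, h.x_mem⟩ : V) ^ (p ^ N) ∈ _ from
      hi ▸ Ideal.pow_mem_of_mem _ ((V.valuation_lt_one_iff (⟨x, h.x_mem⟩ : V)).2 h.x_lt) _ i.succ_pos))

variable (p π) in
/-- Splitting a product: `1 + w (X + Y) = (1 + w X) (1 + w (Y + E))` up to `1 + w V`, with `E` one band lower. -/
theorem exists_split (hp : p ≠ 0) (P₀ : ℕ) (u w : B) (hw : w = π ^ P₀ * u) (hP₀ : 0 < P₀) (M : ℕ) (n : ℕ) (hn : n + 2 ≤ P₀)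
    (X Y : B[X]) (hX : X.natDegree ≤ (n + 1) * p ^ M) (hY : Y.natDegree ≤ (n + 1) * p ^ M) :
    ∃ E : B[X], E.natDegree ≤ n * p ^ M ∧ ∀ N, M ≤ N → ∀ (F : Type u) [Field F] (ι : B →+* F) (x : F)
      (V : ValuationSubring F), RealizesExact p π N ι x V → ∃ v ∈ V,
        1 + ι w * ev p N M ι x (X + Y) =
          (1 + ι w * ev p N M ι x X) * (1 + ι w * ev p N M ι x (Y + E)) * (1 + ι w * v) := by
  classical
  let E : B[X] := ∑ k ∈ Finset.range P₀, C (u ^ (k + 1)) * sh p M (P₀ * (k + 1)) (Y * (-X) ^ (k + 1))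
  have hEdeg : E.natDegree ≤ n * p ^ M := by
    refine natDegree_sum_le_of_forall_le _ _ fun k _ => ?_
    refine (natDegree_C_mul_le _ _).trans ((natDegree_sh _ _ _).trans ?_)
    have h1 : (Y * (-X) ^ (k + 1)).natDegree ≤ (k + 2) * ((n + 1) * p ^ M) := by
      refine natDegree_mul_le.trans ?_
      have : ((-X) ^ (k + 1)).natDegree ≤ (k + 1) * ((n + 1) * p ^ M) :=
        natDegree_pow_le.trans (Nat.mul_le_mul_left (k + 1) (by rw [natDegree_neg]; exact hX))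
      calc _ ≤ (n + 1) * p ^ M + (k + 1) * ((n + 1) * p ^ M) := Nat.add_le_add hY this
        _ = _ := by ring
    refine (Nat.sub_le_sub_right h1 _).trans (Nat.sub_le_iff_le_add.2 ?_)
    calc (k + 2) * ((n + 1) * p ^ M) = ((k + 1) * (n + 1) + (n + 1)) * p ^ M := by ring
      _ ≤ (n + P₀ * (k + 1)) * p ^ M := Nat.mul_le_mul_right _ (by nlinarith)
      _ = _ := by ring
  refine ⟨E, hEdeg, fun N hN F _ ι x V h => ?_⟩
  obtain ⟨⟨r, hr, hwXr⟩, hwX, hwX'⟩ := h.w_small hp hN hw hn hX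
  set eX := ev p N M ι x X with heX
  set eY := ev p N M ι x Y with heY
  set a := ι w * eX with ha
  obtain ⟨hne, hinv⟩ := isUnit_one_add hwX hwX'
  have hE : eY * ∑ k ∈ Finset.range P₀, (-a) ^ (k + 1) - ev p N M ι x E ∈ V := by
    simp only [ev, E, eval₂_finsetSum, Finset.mul_sum, ← Finset.sum_sub_distrib]
    refine sum_mem fun k _ => ?_
    rw [eval₂_mul, eval₂_C]
    have h1 := mul_mem (h.mem (u ^ (k + 1))) (h.sh_spec hN (P₀ * (k + 1)) (Y * (-X) ^ (k + 1)))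
    simp only [ev, eval₂_mul, eval₂_pow, eval₂_neg] at h1
    convert h1 using 1
    simp only [ha, heX, heY, ev, hw, map_mul, map_pow, mul_pow, neg_mul_eq_mul_neg, pow_mul]
    ring
  have hlast : eY * (-a) ^ (P₀ + 1) * (1 + a)⁻¹ ∈ V := by
    obtain ⟨j, hj⟩ := Nat.exists_eq_add_of_le (show n + 1 ≤ P₀ + 1 by omega)
    rw [show eY * (-a) ^ (P₀ + 1) = (-1) ^ (P₀ + 1) * r ^ (P₀ + 1) * ι π ^ j * (ι π ^ (n + 1) * eY) by
      rw [neg_pow, hwXr, mul_pow, hj, pow_add (ι π)]; ring]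
    exact mul_mem (mul_mem (mul_mem (mul_mem (pow_mem (neg_mem V.one_mem) _) (pow_mem hr _)) (pow_mem (h.mem _) _))
      (h.small hN hY)) hinv
  obtain ⟨-, hY', hY''⟩ := h.w_small hp hN hw hn (P := Y + E)
    ((natDegree_add_le _ _).trans (max_le hY (hEdeg.trans (Nat.mul_le_mul_right _ n.le_succ))))
  obtain ⟨hne', hinv'⟩ := isUnit_one_add hY' hY''
  set c := (eY * ∑ k ∈ Finset.range P₀, (-a) ^ (k + 1) - ev p N M ι x E) + eY * (-a) ^ (P₀ + 1) * (1 + a)⁻¹ with hc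
  refine ⟨c * (1 + ι w * ev p N M ι x (Y + E))⁻¹, mul_mem (add_mem hE hlast) hinv', ?_⟩
  have hsum : (∑ k ∈ Finset.range P₀, (-a) ^ (k + 1)) * (1 + a) = -a - (-a) ^ (P₀ + 1) := by
    have h1 := geom_sum_mul_neg (-a) P₀
    have h2 : ∑ k ∈ Finset.range P₀, (-a) ^ (k + 1) = (∑ k ∈ Finset.range P₀, (-a) ^ k) * -a := by
      rw [Finset.sum_mul]; exact Finset.sum_congr rfl fun k _ => pow_succ _ _
    rw [h2, pow_succ]; linear_combination (-a) * h1
  have hcmul : c * (1 + a) = -(eY * a) - ev p N M ι x E * (1 + a) := by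
    rw [hc, add_mul, sub_mul, mul_assoc eY, hsum, mul_assoc _ (1 + a)⁻¹, inv_mul_cancel₀ hne]; ring
  have hev : ev p N M ι x (Y + E) = eY + ev p N M ι x E := eval₂_add _ _
  rw [show ev p N M ι x (X + Y) = eX + eY from eval₂_add _ _,
    show (1 + ι w * eX) * (1 + ι w * ev p N M ι x (Y + E)) * (1 + ι w * (c * (1 + ι w * ev p N M ι x (Y + E))⁻¹)) =
      (1 + a) * (1 + ι w * ev p N M ι x (Y + E)) + ι w * (c * (1 + a)) *
        ((1 + ι w * ev p N M ι x (Y + E)) * (1 + ι w * ev p N M ι x (Y + E))⁻¹) by rw [← ha]; ring,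
    mul_inv_cancel₀ hne', hcmul, hev, ha]
  ring

end Groth.Agent.EppASH7
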