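import Groth.Agent.Lib.EppASH7.Setting

/-!
# Steps of degree `p` in characteristic `p`
-/

set_option autoImplicit false
set_option linter.style.haveILetI false
set_option linter.unusedSectionVars false

universe u

open IsLocalRing Polynomial

namespace Groth.Agent.EppASH7

variable {p : ℕ} {A B K L Ω : Type u} [CommRing A] [IsDomain A] [IsDiscreteValuationRing A]
  [CommRing B] [IsDomain B] [IsDiscreteValuationRing B] [Algebra A B] [Field K] [Field L] [Field Ω]
  [Algebra A K] [IsFractionRing A K] [Algebra B L] [IsFractionRing B L] [Algebra K L] [Algebra A L]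
  [Algebra K Ω] [Algebra L Ω] [Algebra A Ω] [Algebra B Ω]
  [IsScalarTower A K L] [IsScalarTower A B L] [IsScalarTower K L Ω] [IsScalarTower A K Ω]
  [IsScalarTower B L Ω] [IsScalarTower A B Ω] [Algebra.IsAlgebraic L Ω] {W : ValuationSubring Ω}
  {K₁ : IntermediateField K Ω} {F : IntermediateField L Ω}

/-- Enlarging the bottom by one element algebraic over it. -/
theorem exists_enlarge [FiniteDimensional K K₁] (g : Polynomial Ω) (hg : g.Monic) (hgK : ∀ i, g.coeff i ∈ K₁) (x : Ω)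
    (hx : g.eval x = 0) : ∃ K₂ : IntermediateField K Ω, FiniteDimensional K K₂ ∧ K₁ ≤ K₂ ∧ x ∈ K₂ := by
  obtain ⟨g', hg', -, hg'm⟩ := lifts_and_natDegree_eq_and_monic
    (f := algebraMap K₁ Ω) (p := g) ((lifts_iff_coeff_lifts _).2 fun i => ⟨⟨g.coeff i, hgK i⟩, rfl⟩) hg
  have h1 : IsIntegral K₁ x := ⟨g', hg'm, by rw [eval₂_eq_eval_map, hg', hx]⟩
  haveI : FiniteDimensional K (IntermediateField.adjoin K ({x} : Set Ω)) :=
    IntermediateField.adjoin.finiteDimensional (isIntegral_trans (R := K) x h1)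
  exact ⟨K₁ ⊔ IntermediateField.adjoin K ({x} : Set Ω), inferInstance, le_sup_left,
    (le_sup_right : _ ≤ K₁ ⊔ _) (IntermediateField.mem_adjoin_simple_self K x)⟩

/-- A root of a monic polynomial with coefficients in `W` is in `W`. -/
theorem mem_of_root {g : Polynomial Ω} (hg : g.Monic) (hgW : ∀ i, g.coeff i ∈ W) {x : Ω} (hx : g.eval x = 0) : x ∈ W := by
  obtain ⟨g', hg', -, hg'm⟩ := lifts_and_natDegree_eq_and_monic
    (f := algebraMap W Ω) (p := g) ((lifts_iff_coeff_lifts _).2 fun i => ⟨⟨g.coeff i, hgW i⟩, rfl⟩) hg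
  obtain ⟨w, hw⟩ := IsIntegrallyClosed.algebraMap_eq_of_integral (R := W) (K := Ω) (x := x)
    ⟨g', hg'm, by rw [eval₂_eq_eval_map, hg', hx]⟩
  rw [← hw]
  exact w.2

/-- The elements whose `p`-th power lies in `F`. -/
def powField (hp : p.Prime) [CharP Ω p] (F : IntermediateField L Ω) : IntermediateField L Ω where
  carrier := {y | y ^ p ∈ F}
  mul_mem' {a b} ha hb := by
    show (a * b) ^ p ∈ F
    rw [mul_pow]; exact F.mul_mem ha hb
  one_mem' := by show (1 : Ω) ^ p ∈ F; rw [one_pow]; exact F.one_mem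
  add_mem' {a b} ha hb := by
    haveI : Fact p.Prime := ⟨hp⟩
    show (a + b) ^ p ∈ F
    rw [add_pow_char]; exact F.add_mem ha hb
  zero_mem' := by show (0 : Ω) ^ p ∈ F; rw [zero_pow hp.ne_zero]; exact F.zero_mem
  algebraMap_mem' l := pow_mem (F.algebraMap_mem l) p
  inv_mem' a ha := by
    show a⁻¹ ^ p ∈ F
    rw [inv_pow]; exact F.inv_mem ha

theorem mem_powField {hp : p.Prime} [CharP Ω p] {F : IntermediateField L Ω} {y : Ω} :
    y ∈ powField hp F ↔ y ^ p ∈ F := Iff.rfl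

theorem Setting.step_insep (S : Setting p A B K L Ω W) [IsAlgClosed Ω] [CharP Ω p] (h : Inv W K₁ F) (z : Ω)
    (hz : z ^ p ∈ F) : Reach W K₁ F z := by
  haveI := h.finK
  haveI := h.finF
  haveI : Fact p.Prime := ⟨S.hp⟩
  obtain ⟨π, hπK, hπ, hπv⟩ := exists_uniformizer W S.dom h
  obtain ⟨ρ, hρ⟩ := IsAlgClosed.exists_pow_nat_eq ((π : F) : Ω) S.hp.pos
  obtain ⟨ρint⟩ : Nonempty (IsIntegral K ρ) := ⟨IsIntegral.of_pow S.hp.pos (hρ ▸
    ((IsIntegral.of_finite K (⟨_, hπK⟩ : K₁)).map K₁.val))⟩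
  haveI : FiniteDimensional K (IntermediateField.adjoin K ({ρ} : Set Ω)) :=
    IntermediateField.adjoin.finiteDimensional ρint
  set K₂ := K₁ ⊔ IntermediateField.adjoin K ({ρ} : Set Ω)
  haveI := finite_adj F ρ
  haveI := finite_adj (adj F ρ) z
  refine ⟨K₂, adj (adj F ρ) z, ⟨inferInstance, inferInstance, ?_, ?_⟩, le_sup_left,
    (le_adj F ρ).trans (le_adj _ z), mem_adj _ z⟩
  · have hle : K₂ ≤ (adj (adj F ρ) z).restrictScalars K := by
      refine sup_le (fun x hx => ?_) (IntermediateField.adjoin_le_iff.2 ?_)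
      · exact (IntermediateField.mem_restrictScalars (K := K)).2 (le_adj _ z (le_adj F ρ (h.sub hx)))
      · intro w hw
        rw [Set.mem_singleton_iff.1 hw]
        exact (IntermediateField.mem_restrictScalars (K := K)).2 (le_adj _ z (mem_adj F ρ))
    intro w hw
    exact (IntermediateField.mem_restrictScalars (K := K)).1 (hle hw)
  intro x hx hx0
  have hxF : x ^ p ∈ F := by
    have hle : adj (adj F ρ) z ≤ powField S.hp F :=
      adj_le _ (adj_le F (fun y hy => mem_powField.2 (pow_mem hy p)) (mem_powField.2 (hρ.symm ▸ (π : F).2)))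
        (mem_powField.2 hz)
    exact mem_powField.1 (hle hx)
  obtain ⟨k, hk⟩ := hπv _ hxF (pow_ne_zero _ hx0)
  refine ⟨ρ ^ k, zpow_mem ((le_sup_right : _ ≤ K₂) (IntermediateField.mem_adjoin_simple_self K ρ)) k, ?_⟩
  refine (pow_left_inj₀ zero_le zero_le S.hp.ne_zero).1 ?_
  rw [← map_pow, hk, map_zpow₀, ← hρ, map_pow, ← zpow_natCast, ← zpow_natCast, ← zpow_mul, ← zpow_mul, mul_comm]

theorem Setting.step_AS (S : Setting p A B K L Ω W) [IsAlgClosed Ω] [CharP Ω p]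
    [IsAdicComplete (maximalIdeal A) A] (h : Inv W K₁ F) (z : Ω)
    (hz : z ^ p - z ∈ F) : Reach W K₁ F z := by
  classical
  haveI := h.finK
  haveI := h.finF
  haveI := S.closed
  have hp := S.hp
  haveI : Fact p.Prime := ⟨hp⟩
  haveI := dvr_restrict W S.dom F
  obtain ⟨π, hπK, hπ, -⟩ := exists_uniformizer W S.dom h
  let VF := W.comap (algebraMap F Ω)
  obtain ⟨n, a, ha⟩ := EtRamH7.exists_pole VF F π hπ ⟨z ^ p - z, hz⟩
  let KS := K₁.toSubring.comap ((algebraMap F Ω).comp VF.subtype)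
  obtain ⟨M₀, Pa, Q, ⟨N₀, hRel⟩, hPa, hQ, -, -⟩ :=
    normal_form p π (n + 1) (S := KS) (Stable := fun c => ∀ r, residue VF c ≠ residue VF r ^ p)
      (fun c hc => S.step π hπ c hc) n n.le_succ _ 0 (monomial n a)
      ((natDegree_monomial_le a).trans (by rw [pow_zero, mul_one])) le_rfl
  set N := max N₀ M₀ + 1 with hN
  set q := p ^ N with hq
  have hq2 : 2 ≤ q := le_trans hp.two_le (le_self_pow₀ hp.one_le (by omega))
  set c : Ω := ((π : F) : Ω) with hc
  have hcW : c ∈ W := π.2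
  have hclt : W.valuation c < 1 := by
    refine lt_of_le_of_ne ((W.valuation_le_one_iff _).2 hcW) fun h1 => hπ.not_isUnit ?_
    exact (EtRam.isLocalHom_inclOfComap W (algebraMap F Ω)).map_nonunit π
      ((W.valuation_eq_one_iff (EtRam.inclOfComap W (algebraMap F Ω) π)).2 h1)
  have hc0 : c ≠ 0 := fun h0 => hπ.ne_zero (Subtype.ext (Subtype.ext h0))
  -- the root `x`
  let g : Polynomial Ω := X ^ q - (Polynomial.C (c * c ^ (n + 1)) * X + Polynomial.C c)
  have hlin : (Polynomial.C (c * c ^ (n + 1)) * X + Polynomial.C c).degree < (q : WithBot ℕ) :=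
    degree_linear_le.trans_lt (by exact_mod_cast (show 1 < q by omega))
  have hgm : g.Monic := monic_X_pow_sub hlin
  have hgdeg : g.degree = q := by
    rw [degree_sub_eq_left_of_degree_lt (by rwa [degree_X_pow]), degree_X_pow]
  obtain ⟨x, hx⟩ := IsAlgClosed.exists_root g (by rw [hgdeg]; exact_mod_cast (by omega : q ≠ 0))
  have hxeq : x ^ q = c * (1 + c ^ (n + 1) * x) := by
    simp only [g, IsRoot.def, eval_sub, eval_add, eval_mul, eval_pow, eval_X, eval_C] at hx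
    linear_combination hx
  have hgS : ∀ (T : Subring Ω), c ∈ T → ∀ i, g.coeff i ∈ T := fun T hT i => by
    simp only [g, coeff_sub, coeff_X_pow, coeff_add, coeff_C_mul, coeff_X, coeff_C]
    refine T.sub_mem (by split_ifs; exacts [T.one_mem, T.zero_mem]) (T.add_mem (T.mul_mem (T.mul_mem hT (pow_mem hT _))
      (by split_ifs; exacts [T.one_mem, T.zero_mem])) (by split_ifs; exacts [hT, T.zero_mem]))
  have hxW : x ∈ W := mem_of_root hgm (hgS W.toSubring hcW) hx
  have hxlt : W.valuation x < 1 := by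
    refine lt_of_le_of_ne ((W.valuation_le_one_iff _).2 hxW) fun h1 => ?_
    have h2 : W.valuation (1 + c ^ (n + 1) * x) ≤ 1 :=
      (W.valuation_le_one_iff _).2 (add_mem W.one_mem (mul_mem (pow_mem hcW _) hxW))
    have h3 := congrArg W.valuation hxeq
    rw [map_pow, h1, one_pow, map_mul] at h3
    exact ((mul_le_of_le_one_right zero_le h2).trans_lt hclt).ne h3.symm
  have hx0 : x ≠ 0 := fun h0 => hc0 (by
    rw [h0, zero_pow (by omega : q ≠ 0), mul_zero, add_zero, mul_one] at hxeq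
    exact hxeq.symm)
  obtain ⟨Kx, hKxfin, hKx, hxKx⟩ := exists_enlarge g hgm (hgS K₁.toSubring hπK) x hx
  haveI := hKxfin
  -- the root `y`
  let ιΩ : VF →+* Ω := (algebraMap F Ω).comp VF.subtype
  set α : Ω := Pa.eval₂ ιΩ (x⁻¹ ^ (p ^ (N - M₀))) with hα
  have hαK : α ∈ Kx := by
    rw [hα, eval₂_eq_sum_range]
    exact sum_mem fun i _ => Kx.mul_mem (hKx (hPa i)) (pow_mem (pow_mem (Kx.inv_mem hxKx) _) _)
  let g₂ : Polynomial Ω := X ^ p - (X + Polynomial.C α)
  have hlin₂ : (X + Polynomial.C α).degree < (p : WithBot ℕ) :=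
    (degree_X_add_C α).trans_lt (by exact_mod_cast hp.one_lt)
  have hg₂m : g₂.Monic := monic_X_pow_sub hlin₂
  obtain ⟨y, hy⟩ := IsAlgClosed.exists_root g₂ (by
    rw [degree_sub_eq_left_of_degree_lt (by rwa [degree_X_pow]), degree_X_pow]; exact_mod_cast hp.ne_zero)
  have hyeq : y ^ p - y = α := by
    simp only [g₂, IsRoot.def, eval_sub, eval_add, eval_pow, eval_X, eval_C] at hy
    linear_combination hy
  obtain ⟨K₂, hK₂fin, hK₂, hyK₂⟩ := exists_enlarge g₂ hg₂m (fun i => by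
    simp only [g₂, coeff_sub, coeff_X_pow, coeff_add, coeff_X, coeff_C]
    refine Kx.sub_mem (by split_ifs; exacts [Kx.one_mem, Kx.zero_mem]) (Kx.add_mem
      (by split_ifs; exacts [Kx.one_mem, Kx.zero_mem]) (by split_ifs; exacts [hαK, Kx.zero_mem]))) y hy
  haveI := hK₂fin
  obtain ⟨F₂, hF₂fin, hFF, hKF₂, hvg₂, hres⟩ :=
    exists_baseChange S.domA K₁ K₂ (hKx.trans hK₂) F h.sub h.vg
  haveI := hF₂fin
  let V₂ := W.comap (algebraMap F₂ Ω)
  let j : VF →+* F₂ := (IntermediateField.inclusion hFF).toRingHom.comp VF.subtype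
  let x₂ : F₂ := ⟨x, hKF₂ (hK₂ hxKx)⟩
  let y₂ : F₂ := ⟨y, hKF₂ hyK₂⟩
  have hxV : x₂ ∈ V₂ := hxW
  have hx2lt : V₂.valuation x₂ < 1 := by
    rw [show x₂ = ((⟨x₂, hxV⟩ : V₂) : F₂) from rfl, ← ValuationSubring.valuation_lt_one_iff, mem_maximalIdeal]
    intro hu
    exact hxlt.ne ((W.valuation_eq_one_iff (EtRam.inclOfComap W (algebraMap F₂ Ω) _)).1 (hu.map _))
  have hreal : Realizes p π (n + 1) N j x₂ V₂ :=
    ⟨fun b => b.2, hxV, hx2lt, fun h0 => hx0 (congrArg Subtype.val h0), Subtype.ext hxeq⟩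
  haveI : CharP F₂ p := (RingHom.charP_iff (algebraMap F₂ Ω) (RingHom.injective _) p).2 inferInstance
  obtain ⟨h₀, hh₀⟩ := hRel N (by omega) (Nat.zero_le _) (by omega) F₂ j x₂ V₂ hreal
  let ξ : F₂ := ⟨z ^ p - z, hFF hz⟩
  have hdiff : ξ - ev p N 0 j x₂ (monomial n a) ∈ V₂ := by
    have hπ0 : j π ≠ 0 := fun h0 => hc0 (congrArg Subtype.val h0)
    have hbξ : ξ * j π ^ n = j a := by
      apply Subtype.ext
      show (z ^ p - z) * c ^ n = ((a : F) : Ω)
      exact (congrArg (fun w : F => (w : Ω)) ha).symm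
    let X' : V₂ := ⟨x₂, hxV⟩
    let P' : V₂ := ⟨j π, π.2⟩
    obtain ⟨c', hc'⟩ := sub_one_dvd_pow_sub_one (1 + P' ^ (n + 1) * X') n
    have hcE : (1 + j π ^ (n + 1) * x₂) ^ n - 1 = j π ^ (n + 1) * x₂ * (c' : F₂) := by
      have := congrArg Subtype.val hc'
      rw [add_sub_cancel_left] at this
      exact this
    have heq : ξ - ev p N 0 j x₂ (monomial n a) =
        j a * (c' : F₂) * x₂ * (j π ^ (n + 1) * x₂⁻¹ ^ (p ^ N * n)) := by
      have hinv : x₂⁻¹ ^ (p ^ N * n) * (x₂ ^ p ^ N) ^ n = 1 := by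
        rw [← pow_mul, ← mul_pow, inv_mul_cancel₀ hreal.x_ne, one_pow]
      rw [hreal.eq, mul_pow] at hinv
      refine mul_right_cancel₀ (pow_ne_zero n hπ0) ?_
      show (_ - (monomial n a).eval₂ j (x₂⁻¹ ^ p ^ (N - 0))) * _ = _
      rw [eval₂_monomial, Nat.sub_zero, ← pow_mul, sub_mul, hbξ]
      linear_combination (-(j a)) * hinv + (j a * x₂⁻¹ ^ (p ^ N * n) * j π ^ n) * hcE
    rw [heq]
    exact mul_mem (mul_mem (mul_mem a.2 c'.2) hxV)
      (hreal.pow_mem (le_of_le_of_eq (Nat.mul_le_mul_left _ n.le_succ) (mul_comm _ _)))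
  have hPy : y₂ ^ p - y₂ = Pa.eval₂ j (x₂⁻¹ ^ (p ^ (N - M₀))) := by
    apply Subtype.ext
    refine hyeq.trans ?_
    show α = F₂.val.toRingHom (Pa.eval₂ j _)
    rw [hom_eval₂, hα]
    rfl
  set η : F₂ := ξ - (h₀ ^ p - h₀) - (y₂ ^ p - y₂) with hη
  have hηmem : η - Q.eval₂ j (x₂⁻¹ ^ (p ^ (N - M₀))) ∈ V₂ := by
    have := add_mem hdiff hh₀
    rw [show ev p N M₀ j x₂ (Pa + Q) = Pa.eval₂ j (x₂⁻¹ ^ (p ^ (N - M₀))) + Q.eval₂ j (x₂⁻¹ ^ (p ^ (N - M₀)))
      from eval₂_add _ _] at this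
    rw [hη, hPy]
    convert this using 1
    ring
  have hPm : (X ^ p - X : V₂[X]).Monic := monic_X_pow_sub (by rw [degree_X]; exact_mod_cast hp.one_lt)
  have hPd : (X ^ p - X : V₂[X]).natDegree = p := by
    rw [natDegree_sub_eq_left_of_natDegree_lt (by rw [natDegree_X, natDegree_X_pow]; exact hp.one_lt), natDegree_X_pow]
  set z' : Ω := z - (h₀ : Ω) - y with hz'
  have hz'eq : (X ^ p - X : V₂[X]).eval₂ ((algebraMap F₂ Ω).comp V₂.subtype) z' = η := by
    rw [eval₂_sub, eval₂_X_pow, eval₂_X, hz', sub_pow_char, sub_pow_char, hη]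
    push_cast
    show _ = (z ^ p - z) - ((h₀ : Ω) ^ p - h₀) - (y ^ p - y)
    ring
  have hvg : VG W (F₂ : Set Ω) (adj F₂ z' : Set Ω) :=
    S.vg_of_top hFF hres _ hPm hPd (by simp) z' η hz'eq x₂ hxV hx2lt hreal.x_ne (p ^ (N - M₀))
      (pow_pos hp.pos _) (dvd_pow_self p (by omega)) Q hQ hηmem
  refine ⟨K₂, adj F₂ z', ⟨inferInstance, finite_adj F₂ z', fun w hw => le_adj F₂ z' (hKF₂ hw), hvg₂.trans hvg⟩,
    hKx.trans hK₂, hFF.trans (le_adj F₂ z'), ?_⟩
  have : z = z' + ((h₀ : Ω) + y) := by rw [hz']; ring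
  rw [this]
  exact (adj F₂ z').add_mem (mem_adj F₂ z') (le_adj F₂ z' (F₂.add_mem h₀.2 (hKF₂ hyK₂)))

end Groth.Agent.EppASH7
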