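import Groth.Agent.Lib.EppASH7.StepCharP
import Groth.Agent.Lib.EtRamH7.KummerCases
import Groth.Agent.S7140

/-!
# Kummer steps in mixed characteristic
-/

set_option autoImplicit false
set_option linter.style.haveILetI false
set_option linter.unusedSectionVars false

universe u

open IsLocalRing Polynomial

namespace Groth.Agent.EppASH7

theorem valuation_lt_of_mem {Ω : Type u} [Field Ω] {W : ValuationSubring Ω} {F : Type u} [Field F] {f : F →+* Ω}
    {v : W.comap f} (hv : v ∈ maximalIdeal (W.comap f)) : W.valuation (f (v : F)) < 1 := by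
  refine lt_of_le_of_ne ((W.valuation_le_one_iff _).2 v.2) fun h1 => (mem_maximalIdeal _).1 hv ?_
  exact (EtRam.isLocalHom_inclOfComap W f).map_nonunit v
    ((W.valuation_eq_one_iff (EtRam.inclOfComap W f v)).2 h1)

theorem mem_maximalIdeal_of_lt {Ω : Type u} [Field Ω] {W : ValuationSubring Ω} {F : Type u} [Field F] {f : F →+* Ω}
    {v : W.comap f} (hv : W.valuation (f (v : F)) < 1) : v ∈ maximalIdeal (W.comap f) := by
  rw [mem_maximalIdeal]
  intro hu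
  exact hv.ne ((W.valuation_eq_one_iff (EtRam.inclOfComap W f v)).1 (hu.map _))

variable {p : ℕ} {A B K L Ω : Type u} [CommRing A] [IsDomain A] [IsDiscreteValuationRing A]
  [CommRing B] [IsDomain B] [IsDiscreteValuationRing B] [Algebra A B] [Field K] [Field L] [Field Ω]
  [Algebra A K] [IsFractionRing A K] [Algebra B L] [IsFractionRing B L] [Algebra K L] [Algebra A L]
  [Algebra K Ω] [Algebra L Ω] [Algebra A Ω] [Algebra B Ω]
  [IsScalarTower A K L] [IsScalarTower A B L] [IsScalarTower K L Ω] [IsScalarTower A K Ω]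
  [IsScalarTower B L Ω] [IsScalarTower A B Ω] [Algebra.IsAlgebraic L Ω] {W : ValuationSubring Ω}
  {K₁ : IntermediateField K Ω} {F : IntermediateField L Ω}

theorem exists_root_of_unit [FiniteDimensional K K₁] [IsAlgClosed Ω] {n : ℕ} (hn : 0 < n) {c : Ω} (hc : c ∈ K₁) :
    ∃ (x : Ω) (K₂ : IntermediateField K Ω), x ^ n = c ∧ FiniteDimensional K K₂ ∧ K₁ ≤ K₂ ∧ x ∈ K₂ := by
  obtain ⟨x, hx⟩ := IsAlgClosed.exists_pow_nat_eq c hn
  obtain ⟨K₂, h1, h2, h3⟩ := exists_enlarge (K₁ := K₁) (X ^ n - Polynomial.C c) (monic_X_pow_sub_C c hn.ne')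
    (fun i => by
      rw [coeff_sub, coeff_X_pow, coeff_C]
      exact K₁.sub_mem (by split_ifs; exacts [K₁.one_mem, K₁.zero_mem]) (by split_ifs; exacts [hc, K₁.zero_mem])) x
    (by simp [hx])
  exact ⟨x, K₂, hx, h1, h2, h3⟩

set_option maxHeartbeats 1000000 in
theorem Setting.step_kummer (S : Setting p A B K L Ω W) [IsAlgClosed Ω] [CharZero Ω]
    [IsAdicComplete (maximalIdeal A) A] (h : Inv W K₁ F) {ζ : Ω} (hζ : IsPrimitiveRoot ζ p) (hζK : ζ ∈ K₁) (z : Ω)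
    (hz : z ^ p ∈ F) : Reach W K₁ F z := by
  classical
  haveI := h.finK
  haveI := h.finF
  haveI := S.closed
  have hp := S.hp
  haveI : Fact p.Prime := ⟨hp⟩
  by_cases hz0 : z = 0
  · exact ⟨K₁, F, h, le_rfl, le_rfl, hz0 ▸ F.zero_mem⟩
  -- a `p`-th root of the uniformizer
  obtain ⟨π, hπK, hπ, hπv⟩ := exists_uniformizer W S.dom h
  obtain ⟨ρ, Ka, hρ, hKafin, hKa, hρKa⟩ := exists_root_of_unit (K₁ := K₁) hp.pos hπK
  haveI := hKafin
  obtain ⟨Fa, hFafin, hFFa, hKFa, hvga, -⟩ := exists_baseChange S.domA K₁ Ka hKa F h.sub h.vg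
  haveI := hFafin
  obtain ⟨k, hk⟩ := hπv _ hz (pow_ne_zero _ hz0)
  have hρ0 : ρ ≠ 0 := fun h0 => hπ.ne_zero (Subtype.ext (Subtype.ext (by
    rw [h0, zero_pow hp.ne_zero] at hρ; exact hρ.symm)))
  set z₁ : Ω := z / ρ ^ k with hz₁
  have hu₁ : z₁ ^ p = z ^ p / ((π : F) : Ω) ^ k := by
    rw [hz₁, div_pow, ← hρ, ← zpow_natCast, ← zpow_natCast, ← zpow_natCast, ← zpow_mul, ← zpow_mul, mul_comm]
  have hu₁F : z₁ ^ p ∈ Fa := by rw [hu₁]; exact Fa.div_mem (hFFa hz) (zpow_mem (hFFa (π : F).2) k)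
  have hu₁v : W.valuation (z₁ ^ p) = 1 := by
    rw [hu₁, map_div₀, map_zpow₀, hk, div_self]
    exact zpow_ne_zero _ ((_root_.map_ne_zero _).2 fun h0 => hπ.ne_zero (Subtype.ext (Subtype.ext h0)))
  have hinva : Inv W Ka Fa := ⟨inferInstance, inferInstance, hKFa, hvga⟩
  suffices hR : Reach W Ka Fa z₁ by
    obtain ⟨K₂, F₂, h2, hK, hF, hz2⟩ := hR
    refine ⟨K₂, F₂, h2, hKa.trans hK, hFFa.trans hF, ?_⟩
    have : z = z₁ * ρ ^ k := by rw [hz₁, div_mul_cancel₀ _ (zpow_ne_zero _ hρ0)]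
    rw [this]
    exact F₂.mul_mem hz2 (zpow_mem (h2.sub (hK hρKa)) k)
  let VF := W.comap (algebraMap Fa Ω)
  haveI : IsDiscreteValuationRing VF := dvr_restrict W S.dom Fa
  haveI : CharP (ResidueField VF) p := charP_residue hp S.p_lt _
  let u₁ : VF := ⟨⟨_, hu₁F⟩, (W.valuation_le_one_iff _).1 hu₁v.le⟩
  -- stable residue
  by_cases hst : ∀ r, residue VF u₁ ≠ residue VF r ^ p
  · refine ⟨Ka, adj Fa z₁, ⟨inferInstance, finite_adj Fa z₁, fun w hw => le_adj Fa z₁ (hKFa hw), hvga.trans ?_⟩,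
      le_rfl, le_adj Fa z₁, mem_adj Fa z₁⟩
    have hz₁W : z₁ ∈ W := mem_of_root (monic_X_pow_sub_C (z₁ ^ p) hp.ne_zero) (fun i => by
      rw [coeff_sub, coeff_X_pow, coeff_C]
      exact sub_mem (by split_ifs; exacts [W.one_mem, W.zero_mem])
        (by split_ifs; exacts [u₁.2, W.zero_mem])) (by simp)
    refine vg_of_insep hp Fa.toSubfield z₁ (z₁ ^ p) hz₁W u₁.2 hu₁F (by rw [sub_self, map_zero]; exact zero_lt_one)
      (fun b hb hbW hlt => hst ⟨⟨b, hb⟩, hbW⟩ ?_) _ fun w hw =>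
        adj_repr Fa (X ^ p - Polynomial.C (u₁ : Fa)) (monic_X_pow_sub_C _ hp.ne_zero) natDegree_X_pow_sub_C
          (by rw [map_sub, map_pow, aeval_X, aeval_C]; exact sub_self _) w hw
    rw [← map_pow, ← sub_eq_zero, ← map_sub, residue_eq_zero_iff]
    exact mem_maximalIdeal_of_lt hlt
  push Not at hst
  obtain ⟨r, hr⟩ := hst
  have hr1 : IsUnit r := by
    refine notMem_maximalIdeal.1 fun hm => ?_
    rw [(residue_eq_zero_iff r).2 hm, zero_pow hp.ne_zero, residue_eq_zero_iff] at hr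
    exact (valuation_lt_of_mem hr).ne hu₁v
  -- the uniformizer of the new base and the cyclotomic data
  obtain ⟨π, hπK, hπ, -⟩ := exists_uniformizer W S.dom hinva
  have hζW : ζ ∈ W := mem_of_root (monic_X_pow_sub_C 1 hp.ne_zero) (fun i => by
    rw [coeff_sub, coeff_X_pow, coeff_C]
    exact sub_mem (by split_ifs; exacts [W.one_mem, W.zero_mem]) (by split_ifs; exacts [W.one_mem, W.zero_mem]))
    (by simp [hζ.pow_eq_one])
  let ζV : VF := ⟨⟨ζ, hKFa (hKa hζK)⟩, hζW⟩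
  let ιΩ : VF →+* Ω := (algebraMap Fa Ω).comp VF.subtype
  have hinjΩ : Function.Injective ιΩ := fun a b hab => Subtype.ext (Subtype.ext hab)
  haveI : CharZero Fa := (RingHom.charZero_iff (algebraMap Fa Ω).injective).2 inferInstance
  have hζcyc : aeval ζV (cyclotomic p ℤ) = 0 := by
    have h1 : IsPrimitiveRoot ζV p := IsPrimitiveRoot.of_map_of_injective (f := ιΩ) hζ hinjΩ
    have h2 := h1.isRoot_cyclotomic hp.pos
    rwa [IsRoot.def, ← map_cyclotomic_int p VF, eval_map, ← algebraMap_int_eq, ← aeval_def] at h2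
  obtain ⟨P, hP, -, -⟩ := Groth.Agent.S7140.result p hp VF ζV hζcyc
  obtain ⟨hPm, hPd, hPr⟩ := EtRamH7.kummer_poly hp VF Fa ζV hζcyc P hP
  have hlm := EtRamH7.kummer_w_mem hp VF Fa ζV hζcyc
  obtain ⟨-, hl0⟩ := EtRamH7.kummer_primitive hp VF Fa ζV hζcyc
  set lam : VF := 1 - ζV with hlam
  set w : VF := lam ^ p with hwdef
  have hw0 : w ≠ 0 := pow_ne_zero _ hl0
  obtain ⟨P₀, uw, huw⟩ := IsDiscreteValuationRing.eq_unit_mul_pow_irreducible hw0 hπ
  have hwP : w = π ^ P₀ * (uw : VF) := by rw [huw, mul_comm]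
  obtain ⟨n, rfl⟩ : ∃ n, P₀ = n + 1 := by
    refine Nat.exists_eq_succ_of_ne_zero fun h0 => ?_
    refine (mem_maximalIdeal w).1 (Ideal.pow_mem_of_mem _ hlm p hp.pos) ?_
    rw [huw, h0, pow_zero, mul_one]
    exact uw.isUnit
  obtain ⟨R₁, hR₁⟩ : Polynomial.C π ∣ P - (X ^ p - X) := by
    refine (C_dvd_iff_dvd_coeff π _).2 fun i => ?_
    rw [← Ideal.mem_span_singleton, ← hπ.maximalIdeal_eq, ← residue_eq_zero_iff, ← coeff_map, Polynomial.map_sub,
      hPr, Polynomial.map_sub, Polynomial.map_pow, map_X, sub_self, coeff_zero]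
  have hR₁d : R₁.natDegree ≤ p - 1 := by
    refine natDegree_le_iff_coeff_eq_zero.2 fun i hi => ?_
    have h1 := congrArg (fun q : VF[X] => q.coeff i) hR₁
    simp only [coeff_sub, coeff_C_mul, coeff_X_pow, coeff_X] at h1
    refine (mul_eq_zero.1 (h1.symm.trans ?_)).resolve_left hπ.ne_zero
    have h2 := hp.two_le
    rcases eq_or_ne i p with rfl | hip
    · have h3 : P.coeff i = 1 := by
        have := hPm.coeff_natDegree
        rwa [hPd] at this
      rw [h3, if_pos rfl, if_neg (by omega : ¬ 1 = i)]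
      ring
    · rw [coeff_eq_zero_of_natDegree_lt (by omega : P.natDegree < i), if_neg hip, if_neg (by omega : ¬ 1 = i)]
      ring
  have hid : (1 + Polynomial.C lam * X) ^ p = 1 + Polynomial.C w * (X ^ p - X + Polynomial.C π * R₁) := by
    rw [← hR₁, add_sub_cancel, hwdef, hlam, hP]
    ring
  -- `θ = 1 + w b' / π ^ n`
  have hru : r ^ p * (((hr1.unit ^ p)⁻¹ : VFˣ) : VF) = 1 := by
    have h1 : ((hr1.unit ^ p : VFˣ) : VF) = r ^ p := by rw [Units.val_pow_eq_pow_val, IsUnit.unit_spec]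
    rw [← h1, Units.mul_inv]
  obtain ⟨b, hb⟩ : π ∣ u₁ * (((hr1.unit ^ p)⁻¹ : VFˣ) : VF) - 1 := by
    rw [← Ideal.mem_span_singleton, ← hπ.maximalIdeal_eq, ← residue_eq_zero_iff, map_sub, map_mul, map_one, hr,
      ← map_pow, ← map_mul, hru, map_one, sub_self]
  set θ : VF := u₁ * (((hr1.unit ^ p)⁻¹ : VFˣ) : VF) with hθ
  set b' : VF := b * ((uw⁻¹ : VFˣ) : VF) with hb'
  have hθb : w * b' = (θ - 1) * π ^ n := by
    rw [hb, hwP, hb', pow_succ]
    linear_combination (π ^ n * π * b) * uw.mul_inv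
  let KS : Subring VF := Ka.toSubring.comap ιΩ
  have hwS : w ∈ KS := by
    show ιΩ w ∈ Ka
    rw [hwdef, hlam, map_pow, map_sub, map_one]
    exact pow_mem (Ka.sub_mem Ka.one_mem (hKa hζK)) p
  obtain ⟨M', Q, ⟨Ma, Pa, hPa, N₀, hRel⟩, hQ, hQd⟩ :=
    kummer_normal_form p π lam w KS hwP hwS hR₁d hid
      (Stable := fun c => ∀ r, residue VF c ≠ residue VF r ^ p) (fun c hc => S.step π hπ c hc) n le_rfl _ 0
      (monomial n b') ((natDegree_monomial_le b').trans (by rw [pow_zero, mul_one])) le_rfl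
  set N := max N₀ M' + 1 with hN
  obtain ⟨hMa, hRel⟩ := hRel N (by omega) (Nat.zero_le _) (by omega : M' ≤ N)
  -- the roots `x` and `c`
  obtain ⟨x, Kx, hxeq, hKxfin, hKx, hxKx⟩ := exists_root_of_unit (K₁ := Ka) (pow_pos hp.pos N) hπK
  haveI := hKxfin
  set σ : Ω := 1 + ιΩ w * Pa.eval₂ ιΩ (x⁻¹ ^ (p ^ (N - Ma))) with hσ
  have hσK : σ ∈ Kx := by
    rw [hσ, eval₂_eq_sum_range]
    exact Kx.add_mem Kx.one_mem (Kx.mul_mem (hKx hwS)
      (sum_mem fun i _ => Kx.mul_mem (hKx (hPa i)) (pow_mem (pow_mem (Kx.inv_mem hxKx) _) _)))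
  obtain ⟨c, K₂, hceq, hK₂fin, hK₂, hcK₂⟩ := exists_root_of_unit (K₁ := Kx) hp.pos hσK
  haveI := hK₂fin
  obtain ⟨F₂, hF₂fin, hFF, hKF₂, hvg₂, hres⟩ :=
    exists_baseChange S.domA Ka K₂ (hKx.trans hK₂) Fa hKFa hvga
  haveI := hF₂fin
  let V₂ := W.comap (algebraMap F₂ Ω)
  let j : VF →+* F₂ := (IntermediateField.inclusion hFF).toRingHom.comp VF.subtype
  let x₂ : F₂ := ⟨x, hKF₂ (hK₂ hxKx)⟩
  let c₂ : F₂ := ⟨c, hKF₂ hcK₂⟩
  have hπ0 : ιΩ π ≠ 0 := fun h0 => hπ.ne_zero (hinjΩ (h0.trans (map_zero ιΩ).symm))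
  have hxW : x ∈ W := mem_of_root (monic_X_pow_sub_C (ιΩ π) (pow_pos hp.pos N).ne') (fun i => by
    rw [coeff_sub, coeff_X_pow, coeff_C]
    exact sub_mem (by split_ifs; exacts [W.one_mem, W.zero_mem]) (by split_ifs; exacts [π.2, W.zero_mem]))
    (by simp only [eval_sub, eval_pow, eval_X, eval_C]; exact sub_eq_zero.2 hxeq)
  have hxlt : W.valuation x < 1 := by
    refine lt_of_le_of_ne ((W.valuation_le_one_iff _).2 hxW) fun h1 => ?_
    have h3 := congrArg W.valuation hxeq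
    rw [map_pow, h1, one_pow] at h3
    exact (valuation_lt_of_mem ((mem_maximalIdeal π).2 hπ.not_isUnit)).ne h3.symm
  have hxV : x₂ ∈ V₂ := hxW
  have hx2lt : V₂.valuation x₂ < 1 := by
    rw [show x₂ = ((⟨x₂, hxV⟩ : V₂) : F₂) from rfl, ← ValuationSubring.valuation_lt_one_iff]
    exact mem_maximalIdeal_of_lt hxlt
  have hx20 : x₂ ≠ 0 := fun h0 => hπ0 (by
    rw [show x = 0 from congrArg Subtype.val h0, zero_pow (pow_pos hp.pos N).ne'] at hxeq
    exact hxeq.symm)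
  have hreal : RealizesExact p π N j x₂ V₂ := ⟨fun b => b.2, hxV, hx2lt, hx20, Subtype.ext hxeq⟩
  obtain ⟨hh, v, hv, hK⟩ := hRel F₂ j x₂ V₂ hreal
  have hev0 : 1 + j w * ev p N 0 j x₂ (monomial n b') = j θ := by
    have hinv : x₂⁻¹ ^ (p ^ (N - 0) * n) * j π ^ n = 1 := by
      rw [← hreal.eq, Nat.sub_zero, ← pow_mul, ← mul_pow, inv_mul_cancel₀ hx20, one_pow]
    show 1 + j w * (monomial n b').eval₂ j (x₂⁻¹ ^ (p ^ (N - 0))) = j θ
    rw [eval₂_monomial, ← pow_mul, ← mul_assoc, ← map_mul, hθb, map_mul, map_pow, map_sub, map_one]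
    linear_combination (j θ - 1) * hinv
  rw [hev0] at hK
  have hσj : (1 + j w * ev p N Ma j x₂ Pa) = c₂ ^ p := by
    apply Subtype.ext
    refine Eq.trans ?_ hceq.symm
    show F₂.val.toRingHom (1 + j w * ev p N Ma j x₂ Pa) = σ
    rw [map_add, map_one, map_mul, hσ, ev, hom_eval₂]
    rfl
  rw [hσj] at hK
  set eQ := ev p N M' j x₂ Q with heQ
  have hinj2 : Function.Injective j := fun a b hab => hinjΩ (congrArg (fun q : F₂ => (q : Ω)) hab)
  have hθ0 : j θ ≠ 0 := (_root_.map_ne_zero_iff j hinj2).2 (mul_ne_zero (fun h0 => hu₁v.not_lt (by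
      rw [show z₁ ^ p = 0 from congrArg (fun q : VF => ((q : Fa) : Ω)) h0, map_zero]; exact zero_lt_one))
      (Units.ne_zero _))
  have hwQ : j w * eQ ∈ V₂ := by
    rw [hwP, pow_succ, map_mul, map_mul, map_pow,
      show j π ^ n * j π * j (uw : VF) * eQ = j π * j (uw : VF) * (j π ^ n * eQ) by ring]
    exact mul_mem (mul_mem (hreal.mem _) (hreal.mem _)) (hreal.small (by omega : M' ≤ N) hQd)
  set η : F₂ := eQ + v * (1 + j w * eQ) with hη
  have hK' : j θ = ((1 + j lam * hh) * c₂) ^ p * (1 + j w * η) := by rw [hK, mul_pow, hη]; ring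
  set d₂ := (1 + j lam * hh) * c₂ with hd₂
  have hd0 : d₂ ≠ 0 := fun h0 => hθ0 (by rw [hK', h0, zero_pow hp.ne_zero, zero_mul])
  -- the new generator
  set z₂ : Ω := z₁ / (ιΩ r * (d₂ : Ω)) with hz₂
  have hr0 : ιΩ r ≠ 0 := fun h0 => hr1.ne_zero (hinjΩ (h0.trans (map_zero ιΩ).symm))
  have hd0' : (d₂ : Ω) ≠ 0 := fun h0 => hd0 (Subtype.ext h0)
  set y : Ω := (z₂ - 1) / ιΩ lam with hy
  have hl' : ιΩ lam ≠ 0 := fun h0 => hl0 (hinjΩ (h0.trans (map_zero ιΩ).symm))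
  have hz₂p : z₂ ^ p = 1 + ιΩ w * (η : Ω) := by
    have h1 : z₁ ^ p = ιΩ θ * ιΩ r ^ p := by
      rw [← map_pow, ← map_mul, hθ, mul_assoc, mul_comm _ (r ^ p), hru, mul_one]
      rfl
    have h2 : ιΩ θ = (d₂ : Ω) ^ p * (1 + ιΩ w * (η : Ω)) := congrArg (fun q : F₂ => (q : Ω)) hK'
    rw [hz₂, div_pow, h1, h2, mul_pow, div_eq_iff (mul_ne_zero (pow_ne_zero _ hr0) (pow_ne_zero _ hd0'))]
    ring
  let incl : VF →+* V₂ := RingHom.codRestrict j V₂ hreal.mem
  haveI : IsLocalHom incl := EtRamH7.isLocalHom_cod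
    (show EtRam.Dominates VF j V₂ from
      EtRamH7.dominates_comap (algebraMap F₂ Ω) (EtRamH7.dominates_self_comap (algebraMap Fa Ω) W))
  have hPy : (P.map incl).eval₂ ((algebraMap F₂ Ω).comp V₂.subtype) y = η := by
    rw [eval₂_map]
    refine mul_left_cancel₀ (pow_ne_zero p hl') ?_
    have h1 := congrArg (eval₂ ιΩ y) hP
    rw [eval₂_mul, eval₂_C, eval₂_sub, eval₂_pow, eval₂_add, eval₂_mul, eval₂_one, eval₂_C, eval₂_X, hwdef,
      map_pow] at h1
    refine Eq.trans h1 ?_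
    rw [hy, mul_div_cancel₀ _ hl', add_sub_cancel, hz₂p, hwdef, map_pow, add_sub_cancel_left]
  have hηQ : η - Q.eval₂ j (x₂⁻¹ ^ p ^ (N - M')) ∈ V₂ := by
    show η - eQ ∈ V₂
    rw [hη, add_sub_cancel_left]
    exact mul_mem hv (add_mem V₂.one_mem hwQ)
  have hvg : VG W (F₂ : Set Ω) (adj F₂ y : Set Ω) :=
    S.vg_of_top hFF hres (P.map incl) (hPm.map _) (by rw [hPm.natDegree_map, hPd]) (by
      rw [Polynomial.map_map, show (residue V₂).comp incl = (ResidueField.map incl).comp (residue VF) from rfl,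
        ← Polynomial.map_map, hPr, Polynomial.map_sub, Polynomial.map_pow, map_X])
      y η hPy x₂ hxV hx2lt hx20 (p ^ (N - M')) (pow_pos hp.pos _) (dvd_pow_self p (by omega)) Q hQ hηQ
  refine ⟨K₂, adj F₂ y, ⟨inferInstance, finite_adj F₂ y, fun q hq => le_adj F₂ y (hKF₂ hq), hvg₂.trans hvg⟩,
    hKx.trans hK₂, hFF.trans (le_adj F₂ y), ?_⟩
  have : z₁ = (1 + ιΩ lam * y) * (ιΩ r * (d₂ : Ω)) := by
    rw [hy, mul_div_cancel₀ _ hl', add_sub_cancel, hz₂, div_mul_cancel₀ _ (mul_ne_zero hr0 hd0')]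
  rw [this]
  refine (adj F₂ y).mul_mem ((adj F₂ y).add_mem (adj F₂ y).one_mem ((adj F₂ y).mul_mem ?_ (mem_adj F₂ y)))
    ((adj F₂ y).mul_mem ?_ (le_adj F₂ y d₂.2))
  · exact le_adj F₂ y (hFF (lam : Fa).2)
  · exact le_adj F₂ y (hFF (r : Fa).2)

end Groth.Agent.EppASH7
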