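import Groth.Agent.Lib.EppASH7.StepKummer
import Mathlib.RingTheory.Norm.Transitivity
import Mathlib.FieldTheory.Normal.Basic
import Mathlib.FieldTheory.PrimitiveElement

/-!
# Separable steps of degree prime to `p`
-/

set_option autoImplicit false
set_option linter.style.haveILetI false
set_option linter.unusedSectionVars false

universe u

open IsLocalRing Polynomial

namespace Groth.Agent.EppASH7

variable {p : ℕ} {A B K L Ω : Type u} [CommRing A] [IsDomain A] [IsDiscreteValuationRing A]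
  [CommRing B] [IsDomain B] [IsDiscreteValuationRing B] [Algebra A B] [Field K] [Field L] [Field Ω]
  [Algebra A K] [IsFractionRing A K] [Algebra B L] [IsFractionRing B L] [Algebra K L] [Algebra A L]
  [Algebra K Ω] [Algebra L Ω] [Algebra A Ω] [Algebra B Ω]
  [IsScalarTower A K L] [IsScalarTower A B L] [IsScalarTower K L Ω] [IsScalarTower A K Ω]
  [IsScalarTower B L Ω] [IsScalarTower A B Ω] [Algebra.IsAlgebraic L Ω] {W : ValuationSubring Ω}
  {K₁ : IntermediateField K Ω} {F : IntermediateField L Ω}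

theorem Setting.step_tame (S : Setting p A B K L Ω W) [IsAlgClosed Ω] [IsAdicComplete (maximalIdeal B) B]
    (h : Inv W K₁ F) (F' : IntermediateField F Ω) [FiniteDimensional F F'] [Algebra.IsSeparable F F']
    (hm : ¬ p ∣ Module.finrank F F') :
    ∃ (K₂ : IntermediateField K Ω) (F₂ : IntermediateField L Ω), Inv W K₂ F₂ ∧ K₁ ≤ K₂ ∧ F ≤ F₂ ∧
      F'.restrictScalars L ≤ F₂ := by
  classical
  haveI := h.finK
  haveI := h.finF
  have hp := S.hp
  let E : IntermediateField L Ω := F'.restrictScalars L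
  haveI : FiniteDimensional L E := FiniteDimensional.trans L F F'
  have hFE : F ≤ E := fun x hx => F'.algebraMap_mem ⟨x, hx⟩
  let VE := W.comap (algebraMap E Ω)
  haveI : IsDiscreteValuationRing VE := dvr_restrict W S.dom E
  obtain ⟨π, hπK, hπ, hπv⟩ := exists_uniformizer W S.dom h
  set c : Ω := ((π : F) : Ω) with hc
  have hc0 : c ≠ 0 := fun h0 => hπ.ne_zero (Subtype.ext (Subtype.ext h0))
  have hclt : W.valuation c < 1 := valuation_lt_of_mem ((mem_maximalIdeal π).2 hπ.not_isUnit)
  obtain ⟨ϖ, hϖ⟩ := IsDiscreteValuationRing.exists_irreducible VE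
  set d : Ω := ((ϖ : E) : Ω) with hd
  have hd0 : d ≠ 0 := fun h0 => hϖ.ne_zero (Subtype.ext (Subtype.ext h0))
  have hdlt : W.valuation d < 1 := valuation_lt_of_mem ((mem_maximalIdeal ϖ).2 hϖ.not_isUnit)
  have hunit : ∀ v : VE, IsUnit v → W.valuation ((v : E) : Ω) = 1 := fun v hv =>
    (W.valuation_eq_one_iff (EtRam.inclOfComap W (algebraMap E Ω) v)).1 (hv.map _)
  have hEv : ∀ x ∈ E, x ≠ 0 → ∃ k : ℤ, W.valuation x = W.valuation d ^ k := by
    intro x hx hx0
    rcases VE.mem_or_inv_mem ⟨x, hx⟩ with hv | hv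
    · obtain ⟨k, w, hw⟩ := IsDiscreteValuationRing.eq_unit_mul_pow_irreducible (x := (⟨_, hv⟩ : VE))
        (fun h0 => hx0 (congrArg (fun z : VE => ((z : E) : Ω)) h0)) hϖ
      refine ⟨k, ?_⟩
      have h2 : x = (((w : VE) : E) : Ω) * d ^ k := congrArg (fun z : VE => ((z : E) : Ω)) hw
      rw [h2, map_mul, map_pow, hunit _ w.isUnit, one_mul, zpow_natCast]
    · obtain ⟨k, w, hw⟩ := IsDiscreteValuationRing.eq_unit_mul_pow_irreducible (x := (⟨_, hv⟩ : VE))
        (fun h0 => hx0 (inv_eq_zero.1 (congrArg (fun z : VE => ((z : E) : Ω)) h0))) hϖ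
      refine ⟨-k, ?_⟩
      have h2 : x⁻¹ = (((w : VE) : E) : Ω) * d ^ k := congrArg (fun z : VE => ((z : E) : Ω)) hw
      rw [← inv_inv x, h2, map_inv₀, map_mul, map_pow, hunit _ w.isUnit, one_mul, zpow_neg, zpow_natCast]
  -- the ramification index
  obtain ⟨j, hj⟩ := hEv c (hFE (π : F).2) hc0
  have hvd : W.valuation d ≠ 0 := (_root_.map_ne_zero _).2 hd0
  obtain ⟨e, he0, rfl⟩ : ∃ e : ℕ, 0 < e ∧ j = (e : ℤ) := by
    rcases le_or_gt j 0 with hj0 | hj0
    · exfalso
      rw [hj] at hclt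
      exact hclt.not_ge (one_le_zpow_of_nonpos₀ (pos_iff_ne_zero.2 hvd) hdlt.le hj0)
    · exact ⟨j.toNat, by omega, by omega⟩
  rw [zpow_natCast] at hj
  -- invariance under embeddings
  haveI : Algebra.IsAlgebraic F Ω := Algebra.IsAlgebraic.tower_top (K := L) F
  haveI : IsAlgClosure F Ω := ⟨inferInstance, inferInstance⟩
  haveI : Normal F Ω := IsAlgClosure.normal F Ω
  let dF : F' := ⟨d, (ϖ : E).2⟩
  have hσ : ∀ σ : F' →ₐ[F] Ω, W.valuation (σ dF) = W.valuation d := by
    intro σ
    let τ : Ω →ₐ[F] Ω := σ.liftNormal Ω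
    have hτ : τ d = σ dF := σ.liftNormal_commutes Ω dF
    have hW : W.comap τ.toRingHom = W := by
      refine valuationSubring_unique B L Ω _ W (EtRamH7.dominates_comap τ.toRingHom ?_) S.dom
      have hb : τ.toRingHom.comp (algebraMap B Ω) = algebraMap B Ω := by
        refine RingHom.ext fun b => ?_
        show τ (algebraMap B Ω b) = _
        rw [IsScalarTower.algebraMap_apply B L Ω]
        exact τ.commutes ⟨algebraMap L Ω (algebraMap B L b), F.algebraMap_mem _⟩
      rw [hb]; exact S.dom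
    have hunitW : ∀ v : Ω, W.valuation v = 1 → W.valuation (τ v) = 1 := by
      intro v hv
      have hmem : ∀ w : Ω, W.valuation w ≤ 1 → W.valuation (τ w) ≤ 1 := fun w hw => by
        rw [W.valuation_le_one_iff] at hw ⊢
        rw [← hW] at hw
        exact hw
      refine le_antisymm (hmem v hv.le) ?_
      have := hmem v⁻¹ (by rw [map_inv₀, hv, inv_one])
      rwa [map_inv₀, map_inv₀, inv_le_one₀ ((pos_iff_ne_zero.2 ((_root_.map_ne_zero _).2 ((_root_.map_ne_zero τ).2
        fun h0 => by rw [h0, map_zero] at hv; exact zero_ne_one hv))))] at this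
    have h1 := hunitW (d ^ e / c) (by rw [map_div₀, map_pow, ← hj, div_self ((_root_.map_ne_zero _).2 hc0)])
    rw [map_div₀, map_pow, show τ c = c from τ.commutes (π : F), hτ, map_div₀, map_pow,
      div_eq_one_iff_eq ((_root_.map_ne_zero _).2 hc0), hj] at h1
    exact (pow_left_inj₀ zero_le zero_le he0.ne').1 h1
  set m := Module.finrank F F' with hmdef
  have hpe : ¬ p ∣ e := by
    intro hpe
    refine hm ?_
    have hN := Algebra.norm_eq_prod_embeddings F Ω dF
    have hvN : W.valuation ((Algebra.norm F dF : F) : Ω) = W.valuation d ^ m := by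
      rw [show ((Algebra.norm F dF : F) : Ω) = ∏ σ : F' →ₐ[F] Ω, σ dF from hN, map_prod,
        Finset.prod_congr rfl (fun σ _ => hσ σ), Finset.prod_const, Finset.card_univ, AlgHom.card]
    obtain ⟨k, hk⟩ := hπv _ (Algebra.norm F dF).2 fun h0 => pow_ne_zero m hvd (by rw [← hvN, h0, map_zero])
    rw [hvN, hj, ← zpow_natCast, ← zpow_natCast, ← zpow_mul] at hk
    have h3 : (m : ℤ) = (e : ℤ) * k :=
      (zpow_right_strictAnti₀ (pos_iff_ne_zero.2 hvd) hdlt).injective hk
    obtain ⟨e', rfl⟩ := hpe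
    exact Int.natCast_dvd_natCast.1 ⟨(e' : ℤ) * k, by rw [h3]; push_cast; ring⟩
  -- the root of the uniformizer
  obtain ⟨ρ, hρ⟩ := IsAlgClosed.exists_pow_nat_eq c he0
  have hρint : IsIntegral K ρ := IsIntegral.of_pow he0 (hρ ▸ ((IsIntegral.of_finite K (⟨_, hπK⟩ : K₁)).map K₁.val))
  haveI : FiniteDimensional K (IntermediateField.adjoin K ({ρ} : Set Ω)) :=
    IntermediateField.adjoin.finiteDimensional hρint
  set K₂ := K₁ ⊔ IntermediateField.adjoin K ({ρ} : Set Ω)
  have hρ0 : ρ ≠ 0 := fun h0 => hc0 (by rw [← hρ, h0, zero_pow he0.ne'])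
  have hvρ : W.valuation ρ = W.valuation d := by
    refine (pow_left_inj₀ zero_le zero_le he0.ne').1 ?_
    rw [← map_pow, hρ, hj]
  set t : Ω := d / ρ with ht
  have hte : t ^ e = d ^ e / c := by rw [ht, div_pow, hρ]
  have huE : d ^ e / c ∈ E := E.div_mem (pow_mem (ϖ : E).2 e) (hFE (π : F).2)
  have huv : W.valuation (d ^ e / c) = 1 := by
    rw [map_div₀, map_pow, ← hj, div_self ((_root_.map_ne_zero _).2 hc0)]
  let u : VE := ⟨⟨_, huE⟩, (W.valuation_le_one_iff _).1 huv.le⟩
  haveI : CharP (ResidueField VE) p := charP_residue hp S.p_lt _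
  have hu0 : residue VE u ≠ 0 := by
    rw [Ne, residue_eq_zero_iff]
    exact fun h0 => (valuation_lt_of_mem h0).ne huv
  haveI := finite_adj E t
  refine ⟨K₂, adj E t, ⟨inferInstance, inferInstance, ?_, ?_⟩, le_sup_left, hFE.trans (le_adj E t), le_adj E t⟩
  · have hρmem : ρ ∈ adj E t := by
      have : ρ = d / t := by rw [ht, div_div_eq_mul_div, mul_div_cancel_left₀ _ hd0]
      rw [this]
      exact (adj E t).div_mem (le_adj E t (ϖ : E).2) (mem_adj E t)
    have hle : K₂ ≤ (adj E t).restrictScalars K := by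
      refine sup_le (fun x hx => ?_) (IntermediateField.adjoin_le_iff.2 ?_)
      · exact (IntermediateField.mem_restrictScalars (K := K)).2 (le_adj E t (hFE (h.sub hx)))
      · intro w hw
        rw [Set.mem_singleton_iff.1 hw]
        exact (IntermediateField.mem_restrictScalars (K := K)).2 hρmem
    intro w hw
    exact (IntermediateField.mem_restrictScalars (K := K)).1 (hle hw)
  intro x hx hx0
  have hg : (X ^ e - Polynomial.C u : VE[X]).Monic := monic_X_pow_sub_C u he0.ne'
  obtain ⟨y, hy, hye⟩ := vg_of_sepRoot W S.dom E _ hg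
    (by rw [Polynomial.map_sub, Polynomial.map_pow, map_X, map_C]; exact separable_X_pow_sub_C' p e _ hpe hu0)
    (t := t) (by
      rw [eval₂_sub, eval₂_X_pow, eval₂_C, hte]
      exact sub_self _) x hx hx0
  obtain ⟨k, hk⟩ := hEv y hy (fun h0 => hx0 (by rw [h0, map_zero] at hye; exact (map_eq_zero _).1 hye))
  exact ⟨ρ ^ k, zpow_mem ((le_sup_right : _ ≤ K₂) (IntermediateField.mem_adjoin_simple_self K ρ)) k,
    by rw [hye, hk, map_zpow₀, hvρ]⟩

end Groth.Agent.EppASH7
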