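import Groth.Agent.Lib.EtRamH7.ASCases
import Groth.Agent.Lib.EtRamH7.EisAS
import Groth.Agent.Lib.EppASH7.NormalForm

/-!
# Totally ramified extensions with explicit uniformizers
-/

set_option autoImplicit false
set_option linter.style.haveILetI false

universe u

open IsLocalRing Polynomial

namespace Groth.Agent.EppASH7

section Uniformizer

variable (B L : Type u) [CommRing B] [IsDomain B] [IsDiscreteValuationRing B] [Field L] [Algebra B L]
    [IsFractionRing B L] (M : Type u) [Field M] [Algebra L M] [FiniteDimensional L M] [Algebra B M]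
    [IsScalarTower B L M]

include L in
/-- An element whose `p`-th power is a uniformizer, in an extension of degree at most `p`, is a uniformizer. -/
theorem uniformizer_of_pow {p : ℕ} (hp0 : 0 < p) (π : B) (hπ : Irreducible π) (x : M)
    (hdim : Module.finrank L M ≤ p)
    (hw : ∀ V : ValuationSubring M, EtRam.Dominates B (algebraMap B M) V →
      ∃ w : M, w ∈ V ∧ w⁻¹ ∈ V ∧ w ≠ 0 ∧ x ^ p = algebraMap B M π * w) :
    Module.finrank L M = p ∧ EtRam.IsTotallyRamified B (algebraMap B M) ∧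
    ∀ V : ValuationSubring M, EtRam.Dominates B (algebraMap B M) V →
      ∃ hxV : x ∈ V, maximalIdeal V = Ideal.span {(⟨x, hxV⟩ : V)} := by
  obtain ⟨hfin, htot⟩ := EtRamH7.totRam_of_pow B L M x hp0 π hπ hdim hw
  obtain ⟨-, -, hbas⟩ := EtRamH7.basis_of_pow B L M x hp0 π hπ hdim hw
  refine ⟨hfin, htot, fun V hV => ⟨(hbas V hV).1, ?_⟩⟩
  have hxV := (hbas V hV).1
  letI : Algebra B V := (RingHom.codRestrict (algebraMap B M) V hV.1).toAlgebra
  haveI : IsLocalHom (algebraMap B V) := EtRamH7.isLocalHom_cod hV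
  obtain ⟨w, hwV, hwV', hw0, hxw⟩ := hw V hV
  have hπV : algebraMap B V π = (⟨x, hxV⟩ : V) ^ p * ⟨w⁻¹, hwV'⟩ := Subtype.ext (by
    show algebraMap B M π = x ^ p * w⁻¹
    rw [hxw, mul_assoc, mul_inv_cancel₀ hw0, mul_one])
  have hxm : (⟨x, hxV⟩ : V) ∈ maximalIdeal V := by
    refine Ideal.IsPrime.mem_of_pow_mem (Ideal.IsMaximal.isPrime inferInstance) p ?_
    rw [show (⟨x, hxV⟩ : V) ^ p = algebraMap B V π * ⟨w, hwV⟩ from Subtype.ext hxw]
    exact Ideal.mul_mem_right _ _ ((V.valuation_lt_one_iff _).2 (hV.2 π ((mem_maximalIdeal π).2 hπ.not_isUnit)))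
  refine le_antisymm (fun y hy => ?_) ((Ideal.span_singleton_le_iff_mem _).2 hxm)
  obtain ⟨e, he⟩ := (hbas V hV).2 y.1 y.2
  have hy' : y = ∑ i, algebraMap B V (e i) * (⟨x, hxV⟩ : V) ^ (i : ℕ) := by
    apply Subtype.ext
    push_cast
    exact he
  obtain ⟨J, hJ⟩ : ∃ J : Ideal V, J = Ideal.span {(⟨x, hxV⟩ : V)} := ⟨_, rfl⟩
  have hxJ : (⟨x, hxV⟩ : V) ∈ J := by rw [hJ]; exact Ideal.mem_span_singleton_self _
  rw [← hJ]
  have hxi : ∀ i : Fin p, (i : ℕ) ≠ 0 → algebraMap B V (e i) * (⟨x, hxV⟩ : V) ^ (i : ℕ) ∈ J := fun i hi =>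
    J.mul_mem_left _ (Ideal.pow_mem_of_mem J hxJ _ (Nat.pos_of_ne_zero hi))
  rw [hy']
  refine sum_mem fun i _ => ?_
  by_cases hi : (i : ℕ) = 0
  swap
  · exact hxi i hi
  have he0 : algebraMap B V (e i) ∈ maximalIdeal V := by
    rw [← residue_eq_zero_iff]
    have h1 := (residue_eq_zero_iff y).2 hy
    rw [hy', map_sum, Finset.sum_eq_single i] at h1
    · rwa [hi, pow_zero, mul_one] at h1
    · intro j _ hj
      rw [map_mul, map_pow, (residue_eq_zero_iff _).2 hxm, zero_pow (fun h => hj (Fin.ext (by rw [hi, h]))), mul_zero]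
    · simp
  have hei : π ∣ e i := by
    rw [← Ideal.mem_span_singleton, ← hπ.maximalIdeal_eq, mem_maximalIdeal]
    exact fun hu => (mem_maximalIdeal _).1 he0 (hu.map _)
  obtain ⟨e', he'⟩ := hei
  rw [hi, pow_zero, mul_one, he', map_mul, hπV]
  exact J.mul_mem_right _ (J.mul_mem_right _ (Ideal.pow_mem_of_mem J hxJ _ hp0))

include L in
/-- A pole of order prime to `p` gives a totally ramified extension with an explicit uniformizer. -/
theorem pole_coprime {p : ℕ} (hp : p.Prime) (hdim : Module.finrank L M ≤ p) (π : B) (hπ : Irreducible π)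
    (n : ℕ) (hn0 : 0 < n) (a : Bˣ) (z : M) (h : algebraMap B M π ^ n * (z ^ p - z) = algebraMap B M a)
    (s t : ℕ) (hst : n * s = p * t + 1) :
    Module.finrank L M = p ∧ EtRam.IsTotallyRamified B (algebraMap B M) ∧
    ∀ V : ValuationSubring M, EtRam.Dominates B (algebraMap B M) V →
      (∃ hyV : (z ^ s)⁻¹ / algebraMap B M π ^ t ∈ V,
        maximalIdeal V = Ideal.span {(⟨_, hyV⟩ : V)}) ∧
      ∃ w : M, w ∈ V ∧ w⁻¹ ∈ V ∧ w ≠ 0 ∧ algebraMap B M π = ((z ^ s)⁻¹ / algebraMap B M π ^ t) ^ p * w := by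
  classical
  have hg0 : algebraMap B M π ≠ 0 := by
    rw [IsScalarTower.algebraMap_apply B L M]
    exact fun h0 => hπ.ne_zero (IsFractionRing.injective B L (by
      rw [(map_eq_zero (algebraMap L M)).1 h0, map_zero]))
  have hPm : (X ^ p - X : B[X]).Monic := monic_X_pow_sub (by rw [degree_X]; exact_mod_cast hp.one_lt)
  have hPd : (X ^ p - X : B[X]).natDegree = p := by
    rw [natDegree_sub_eq_left_of_natDegree_lt (by rw [natDegree_X, natDegree_X_pow]; exact hp.one_lt), natDegree_X_pow]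
  have hP : algebraMap B M π ^ n * aeval z (X ^ p - X : B[X]) = algebraMap B M a := by
    rw [map_sub, map_pow, aeval_X]; exact h
  have hw : ∀ V : ValuationSubring M, EtRam.Dominates B (algebraMap B M) V →
      ∃ w : M, w ∈ V ∧ w⁻¹ ∈ V ∧ w ≠ 0 ∧ ((z ^ s)⁻¹ / algebraMap B M π ^ t) ^ p = algebraMap B M π * w := by
    intro V hV
    obtain ⟨u, hu1, hu⟩ := EtRamH7.pole_root B L M _ hPm hPd π hπ hn0 a z hP V hV
    have huu : IsUnit u := IsLocalRing.notMem_maximalIdeal.1 fun hm => by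
      rw [(residue_eq_zero_iff u).2 hm] at hu1; exact zero_ne_one hu1
    let c : Vˣ := huu.unit * (a⁻¹).map (RingHom.codRestrict (algebraMap B M) V hV.1)
    refine ⟨((c : V) : M) ^ s, pow_mem (c : V).2 s, ?_, ?_, ?_⟩
    · have h1 : ((c : V) : M)⁻¹ = (((c⁻¹ : Vˣ) : V) : M) :=
        (eq_inv_of_mul_eq_one_right (congrArg Subtype.val c.mul_inv)).symm
      rw [← inv_pow, h1]
      exact pow_mem ((c⁻¹ : Vˣ) : V).2 s
    · exact pow_ne_zero _ fun h0 => c.ne_zero (Subtype.ext h0)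
    have hc : z ^ p * algebraMap B M π ^ n * ((c : V) : M) = 1 := by
      show z ^ p * algebraMap B M π ^ n * (u.1 * algebraMap B M ↑a⁻¹) = 1
      rw [← mul_assoc, hu, ← map_mul, Units.mul_inv, map_one]
    have h3 : (z ^ p * algebraMap B M π ^ n * ((c : V) : M)) ^ s = 1 := by rw [hc, one_pow]
    rw [mul_pow, mul_pow, ← pow_mul, ← pow_mul, hst, pow_succ] at h3
    rw [div_pow, inv_pow, ← pow_mul, ← pow_mul, mul_comm s p, mul_comm t p,
      div_eq_iff (pow_ne_zero _ hg0), inv_eq_iff_eq_inv]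
    refine eq_inv_of_mul_eq_one_left ?_
    linear_combination h3
  obtain ⟨hfin, htot, hmax⟩ := uniformizer_of_pow B L M hp.pos π hπ _ hdim hw
  refine ⟨hfin, htot, fun V hV => ⟨hmax V hV, ?_⟩⟩
  obtain ⟨w, hw1, hw2, hw3, hw4⟩ := hw V hV
  exact ⟨w⁻¹, hw2, by rwa [inv_inv], inv_ne_zero hw3, by rw [hw4, mul_assoc, mul_inv_cancel₀ hw3, mul_one]⟩

end Uniformizer

/-- Totally ramified extensions compose. -/
theorem totallyRamified_trans {A E F : Type u} [CommRing A] [IsLocalRing A] [Field E] [Field F]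
    (g : A →+* E) (f : E →+* F) (h₁ : EtRam.IsTotallyRamified A g)
    (V₁ : ValuationSubring E) (hV₁ : EtRam.Dominates A g V₁)
    (h₂ : EtRam.IsTotallyRamified V₁ (f.comp V₁.subtype)) :
    EtRam.IsTotallyRamified A (f.comp g) := by
  have hdom : ∀ V, EtRam.Dominates A (f.comp g) V → EtRam.Dominates V₁ (f.comp V₁.subtype) V := by
    intro V hV
    obtain rfl := h₁.2.1 V₁ (V.comap f) hV₁ (EtRamH7.dominates_comap f hV)
    exact EtRamH7.dominates_self_comap f V
  obtain ⟨V, hV⟩ := h₂.1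
  refine ⟨⟨V, EtRamH7.dominates_trans hV₁ f hV⟩, fun V V' h h' => h₂.2.1 _ _ (hdom V h) (hdom V' h'),
    fun V hV y => ?_⟩
  obtain ⟨v, hv⟩ := h₂.2.2 V (hdom V hV) y
  obtain ⟨a, ha⟩ := h₁.2.2 V₁ hV₁ (residue V₁ v)
  refine ⟨a, ?_⟩
  haveI : IsLocalHom (RingHom.codRestrict (f.comp V₁.subtype) V (hdom V hV).1) := EtRamH7.isLocalHom_cod (hdom V hV)
  have := congrArg (ResidueField.map (RingHom.codRestrict (f.comp V₁.subtype) V (hdom V hV).1)) ha
  exact this.trans hv

/-- Reduction of an element modulo `{h ^ p - h}` when the residue field is perfect. -/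
theorem reduce_pole {p : ℕ} (hp : p.Prime) (A K : Type u) [CommRing A] [IsDomain A] [IsDiscreteValuationRing A]
    [Field K] [Algebra A K] [IsFractionRing A K] [CharP K p] (π : A) (hπ : Irreducible π)
    (hperf : ∀ a : A, ∃ r : A, residue A a = residue A r ^ p) (α : K) :
    ∃ h : K, (∃ a : A, algebraMap A K a = α - (h ^ p - h)) ∨
      ∃ (n : ℕ) (a : Aˣ), 0 < n ∧ ¬ p ∣ n ∧ algebraMap A K a = (α - (h ^ p - h)) * algebraMap A K π ^ n := by
  haveI : Fact p.Prime := ⟨hp⟩
  obtain ⟨n, a, ha⟩ := EtRamH7.exists_pole A K π hπ α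
  have hπ0 : algebraMap A K π ≠ 0 := fun h => hπ.ne_zero (IsFractionRing.injective A K (by rw [h, map_zero]))
  induction n generalizing α a with
  | zero => exact ⟨0, Or.inl ⟨a, by rw [zero_pow hp.ne_zero, sub_zero, sub_zero]; simpa using ha⟩⟩
  | succ n ih =>
    by_cases hau : IsUnit a
    swap
    · have hm : a ∈ maximalIdeal A := (mem_maximalIdeal a).2 hau
      rw [hπ.maximalIdeal_eq, Ideal.mem_span_singleton] at hm
      obtain ⟨b, rfl⟩ := hm
      exact ih α b (mul_left_cancel₀ hπ0 (by rw [← map_mul, ha, pow_succ]; ring))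
    by_cases hpn : p ∣ n + 1
    swap
    · exact ⟨0, Or.inr ⟨n + 1, hau.unit, n.succ_pos, hpn,
        by rw [zero_pow hp.ne_zero, sub_zero, sub_zero]; exact ha⟩⟩
    obtain ⟨r, hr⟩ := hperf a
    obtain ⟨m, hm⟩ := hpn
    have hm0 : 0 < m := Nat.pos_of_ne_zero fun h => by rw [h, mul_zero] at hm; omega
    have hPm : (X ^ p - X : A[X]).Monic := monic_X_pow_sub (by rw [degree_X]; exact_mod_cast hp.one_lt)
    have hPd : (X ^ p - X : A[X]).natDegree = p := by
      rw [natDegree_sub_eq_left_of_natDegree_lt (by rw [natDegree_X, natDegree_X_pow]; exact hp.one_lt), natDegree_X_pow]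
    obtain ⟨b, hb, hbe⟩ := EtRamH7.eval_pole A K (X ^ p - X : A[X]) hPm hPd π hπ r m hm0
    obtain ⟨b', hb'⟩ : π ∣ a - b := by
      rw [← sub_add_sub_cancel a (r ^ p) b]
      refine dvd_add ?_ (dvd_sub_comm.1 hb)
      rw [← Ideal.mem_span_singleton, ← hπ.maximalIdeal_eq, ← residue_eq_zero_iff, map_sub, map_pow, hr, sub_self]
    let c : K := algebraMap A K r / algebraMap A K π ^ m
    obtain ⟨h, hh⟩ := ih (α - (c ^ p - c)) b' (mul_left_cancel₀ hπ0 (by
      rw [← map_mul, ← hb', map_sub, ha, ← hbe, map_sub, map_pow, aeval_X, ← hm, pow_succ]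
      ring))
    refine ⟨c + h, ?_⟩
    rwa [show α - ((c + h) ^ p - (c + h)) = α - (c ^ p - c) - (h ^ p - h) by rw [add_pow_char]; ring]

/-- The value of a principal part, with its leading coefficient in front. -/
theorem eval₂_eq_leading {B F : Type u} [CommRing B] [Field F] (ι : B →+* F) (V : ValuationSubring F)
    (hι : ∀ b, ι b ∈ V) (u : F) (hu : u ∈ V) (hu0 : u ≠ 0) (Q : B[X]) :
    ∃ r ∈ V, Q.eval₂ ι u⁻¹ * u ^ Q.natDegree = ι Q.leadingCoeff + u * r := by
  have h : ∀ i, i < Q.natDegree → ι (Q.coeff i) * u⁻¹ ^ i * u ^ Q.natDegree =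
      u * (ι (Q.coeff i) * u ^ (Q.natDegree - i - 1)) := fun i hi => by
    obtain ⟨j, hj⟩ := Nat.exists_eq_add_of_lt hi
    rw [show Q.natDegree - i - 1 = j by omega, hj, show i + j + 1 = i + (j + 1) by ring, pow_add, pow_succ]
    have : u⁻¹ ^ i * u ^ i = 1 := by rw [← mul_pow, inv_mul_cancel₀ hu0, one_pow]
    linear_combination (ι (Q.coeff i) * u ^ j * u) * this
  refine ⟨∑ i ∈ Finset.range Q.natDegree, ι (Q.coeff i) * u ^ (Q.natDegree - i - 1),
    sum_mem fun i _ => mul_mem (hι _) (pow_mem hu _), ?_⟩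
  rw [eval₂_eq_sum_range, Finset.sum_range_succ, add_mul, Finset.sum_mul, Finset.mul_sum,
    Finset.sum_congr rfl fun i hi => h i (Finset.mem_range.1 hi), mul_assoc, ← mul_pow, inv_mul_cancel₀ hu0,
    one_pow, mul_one]
  exact add_comm _ _

end Groth.Agent.EppASH7
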